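import Cfsg.Agent.Lib.KnownA.MinIndexUnitary.Model
import Mathlib.Analysis.Fourier.FiniteAbelian.PontryaginDuality

/-!
# Minimal index in unitary groups: the orbits of the unipotent radical
-/

set_option autoImplicit false
set_option linter.unusedSectionVars false

open Module CfsgLib.Classical Finset

namespace CfsgLib.KnownA.MinIndexUnitary

variable {F W : Type*} [Field F] [Fintype F] [DecidableEq F] [AddCommGroup W] [Module F W]
  [FiniteDimensional F W] [Fintype W] [DecidableEq W] {σ : F →+* F} {B₀ : W →ₛₗ[σ] W →ₗ[F] F} {q : ℕ}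
  {Ω : Type*} [Fintype Ω] [DecidableEq Ω]

/-- A transitive non-trivial action with a non-trivial additive character of the fixed field. -/
structure Act (B₀ : W →ₛₗ[σ] W →ₗ[F] F) (q : ℕ) (Ω : Type*) where
  S : Setup B₀ q
  π : Gp B₀ →* Equiv.Perm Ω
  η : AddChar F ℂ
  hη : ∃ a : F, η (a + σ a) ≠ 1
  trans : ∀ a b : Ω, ∃ g, π g a = b
  two : ∃ a b : Ω, a ≠ b

theorem exists_char (hc : IsConjugation σ) : ∃ η : AddChar F ℂ, ∃ a : F, η (a + σ a) ≠ 1 := by
  obtain ⟨a, ha⟩ := hc.exists_trace_ne_zero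
  by_contra! hall
  exact ha (AddChar.forall_apply_eq_zero.1 fun η => hall η a)

/-- Composition of parameters. -/
def pm (B₀ : W →ₛₗ[σ] W →ₗ[F] F) (p r : W × F) : W × F := (p.1 + r.1, p.2 + r.2 - B₀ p.1 r.1)

/-- The inverse of parameters. -/
def pinv (σ : F →+* F) (p : W × F) : W × F := (-p.1, σ p.2)

namespace Act

variable (A : Act B₀ q Ω)

/-- The trace character. -/
noncomputable def chi : AddChar F ℂ := A.η.compAddMonoidHom (AddMonoidHom.id F + σ.toAddMonoidHom)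

theorem chi_apply (a : F) : A.chi a = A.η (a + σ a) := rfl

theorem chi_sigma (a : F) : A.chi (σ a) = A.chi a := by
  rw [chi_apply, chi_apply, A.S.conj.invol, add_comm]

theorem chi_traceZero {a : F} (ha : a ∈ traceZero σ) : A.chi a = 1 := by
  rw [chi_apply, mem_traceZero.1 ha, AddChar.map_zero_eq_one]

theorem chi_symm (u v : W) : A.chi (B₀ u v) = A.chi (B₀ v u) := by
  rw [← A.S.h.symm u v, A.chi_sigma]

/-! ### Parameters -/

/-- The parameters of the radical. -/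
noncomputable def par (_A : Act B₀ q Ω) : Finset (W × F) :=
  univ.filter fun p => p.2 + σ p.2 = -B₀ p.1 p.1

theorem mem_par {p : W × F} : p ∈ A.par ↔ Ok B₀ p.1 p.2 := by simp [par, Ok]

theorem card_fibre (w : W) : (A.par.filter fun p => p.1 = w).card = q := by
  classical
  obtain ⟨c₀, hc₀⟩ := A.S.exists_ok w
  conv_rhs => rw [← A.S.card_traceZero, Nat.card_eq_fintype_card, Fintype.card_subtype]
  refine Finset.card_nbij' (fun p => p.2 - c₀) (fun c => (w, c + c₀)) ?_ ?_ ?_ ?_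
  · intro p hp
    simp only [coe_filter, Set.mem_setOf_eq, mem_par] at hp
    simp only [coe_filter, mem_univ, true_and, Set.mem_setOf_eq]
    exact Ok.sub (hp.2 ▸ hp.1) hc₀
  · intro c hc
    simp only [coe_filter, mem_univ, true_and, Set.mem_setOf_eq, mem_traceZero] at hc
    simp only [coe_filter, Set.mem_setOf_eq, mem_par, and_true]
    unfold Ok at hc₀ ⊢
    rw [map_add]
    linear_combination hc + hc₀
  · intro p hp
    simp only [coe_filter, Set.mem_setOf_eq] at hp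
    simp [← hp.2]
  · intro c _
    simp

theorem card_par : A.par.card = Fintype.card W * q := by
  rw [Finset.card_eq_sum_card_fiberwise (f := Prod.fst) (t := univ) fun p _ => mem_univ _,
    Finset.sum_congr rfl fun w _ => A.card_fibre w, Finset.sum_const, smul_eq_mul, Finset.card_univ]

theorem pm_mem {p r : W × F} (hp : p ∈ A.par) (hr : r ∈ A.par) : pm B₀ p r ∈ A.par :=
  A.mem_par.2 (A.S.ok_add (A.mem_par.1 hp) (A.mem_par.1 hr))

theorem pinv_mem {p : W × F} (hp : p ∈ A.par) : pinv σ p ∈ A.par := by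
  rw [mem_par] at hp ⊢
  unfold Ok at hp ⊢
  simp only [pinv, A.S.conj.invol, map_neg, LinearMap.neg_apply, neg_neg]
  linear_combination hp

theorem zero_mem_par : (0, 0) ∈ A.par := A.mem_par.2 (by simp [Ok])

/-- The image of a parameter. -/
noncomputable def act (p : W × F) (ω : Ω) : Ω := A.π (A.S.x p.1 p.2) ω

theorem act_mul {p r : W × F} (hp : p ∈ A.par) (hr : r ∈ A.par) (ω : Ω) :
    A.act (pm B₀ p r) ω = A.act p (A.act r ω) := by
  rw [act, pm, ← A.S.x_mul (A.mem_par.1 hp) (A.mem_par.1 hr), map_mul, Equiv.Perm.mul_apply]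
  rfl

theorem act_zero (ω : Ω) : A.act (0, 0) ω = ω := by
  rw [act, A.S.x_zero, map_one, Equiv.Perm.one_apply]

theorem pm_pinv {p : W × F} (hp : p ∈ A.par) : pm B₀ p (pinv σ p) = (0, 0) := by
  rw [mem_par, Ok] at hp
  refine Prod.ext ?_ ?_ <;> simp [pm, pinv]
  linear_combination hp

theorem pinv_pm {p : W × F} (hp : p ∈ A.par) : pm B₀ (pinv σ p) p = (0, 0) := by
  rw [mem_par, Ok] at hp
  refine Prod.ext ?_ ?_ <;> simp [pm, pinv]
  linear_combination hp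

theorem act_inj {p : W × F} {ω ν : Ω} (h : A.act p ω = A.act p ν) : ω = ν := (A.π _).injective h

theorem act_pinv {p : W × F} (hp : p ∈ A.par) (ω : Ω) : A.act (pinv σ p) (A.act p ω) = ω := by
  rw [← A.act_mul (A.pinv_mem hp) hp, A.pinv_pm hp, act_zero]

/-! ### Orbits -/

/-- The orbit of the radical. -/
noncomputable def orb (ω : Ω) : Finset Ω := A.par.image fun p => A.act p ω

theorem mem_orb {ω ν : Ω} : ν ∈ A.orb ω ↔ ∃ p ∈ A.par, A.act p ω = ν := by simp [orb]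

theorem self_mem (ω : Ω) : ω ∈ A.orb ω := A.mem_orb.2 ⟨_, A.zero_mem_par, A.act_zero ω⟩

theorem orb_eq {ω ν : Ω} (h : ν ∈ A.orb ω) : A.orb ν = A.orb ω := by
  obtain ⟨r, hr, rfl⟩ := A.mem_orb.1 h
  ext z
  simp only [mem_orb]
  constructor
  · rintro ⟨p, hp, rfl⟩; exact ⟨_, A.pm_mem hp hr, A.act_mul hp hr ω⟩
  · rintro ⟨p, hp, rfl⟩
    exact ⟨_, A.pm_mem hp (A.pinv_mem hr), by rw [A.act_mul hp (A.pinv_mem hr), A.act_pinv hr]⟩

/-- The radical parameters fixing a point. -/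
noncomputable def stabPar (ω : Ω) : Finset (W × F) := A.par.filter fun p => A.act p ω = ω

theorem mem_stabPar {ω : Ω} {p : W × F} : p ∈ A.stabPar ω ↔ p ∈ A.par ∧ A.act p ω = ω := by simp [stabPar]

theorem card_orb_mul (ω : Ω) : (A.orb ω).card * (A.stabPar ω).card = A.par.card := by
  rw [Finset.card_eq_sum_card_image (fun p => A.act p ω) A.par]
  refine (Finset.sum_const_nat fun ν hν => ?_).symm
  obtain ⟨r, hr, rfl⟩ := mem_image.1 hν
  refine Finset.card_nbij' (fun p => pm B₀ (pinv σ r) p) (fun p => pm B₀ r p) ?_ ?_ ?_ ?_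
  · intro p hp
    simp only [coe_filter, Set.mem_setOf_eq] at hp
    simp only [stabPar, coe_filter, Set.mem_setOf_eq]
    exact ⟨A.pm_mem (A.pinv_mem hr) hp.1, by rw [A.act_mul (A.pinv_mem hr) hp.1, hp.2, A.act_pinv hr]⟩
  · intro p hp
    simp only [stabPar, coe_filter, Set.mem_setOf_eq] at hp
    simp only [coe_filter, Set.mem_setOf_eq]
    exact ⟨A.pm_mem hr hp.1, by rw [A.act_mul hr hp.1, hp.2]⟩
  · intro p _
    have h := A.pm_pinv hr
    simp only [pm, pinv, Prod.ext_iff] at h ⊢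
    refine ⟨by abel, ?_⟩
    simp only [map_add, map_neg, LinearMap.neg_apply] at h ⊢
    linear_combination h.2
  · intro p _
    have h := A.pinv_pm hr
    simp only [pm, pinv, Prod.ext_iff] at h ⊢
    refine ⟨by abel, ?_⟩
    simp only [map_add, map_neg, LinearMap.neg_apply] at h ⊢
    linear_combination h.2

/-- The `W`-parts of the stabiliser. -/
noncomputable def U (ω : Ω) : AddSubgroup W where
  carrier := {w | ∃ c, (w, c) ∈ A.stabPar ω}
  zero_mem' := ⟨0, A.mem_stabPar.2 ⟨A.zero_mem_par, A.act_zero ω⟩⟩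
  add_mem' := by
    rintro u v ⟨c, hc⟩ ⟨d, hd⟩
    rw [mem_stabPar] at hc hd
    exact ⟨_, A.mem_stabPar.2 ⟨A.pm_mem hc.1 hd.1, by
      rw [show (u + v, c + d - B₀ u v) = pm B₀ (u, c) (v, d) from rfl, A.act_mul hc.1 hd.1, hd.2, hc.2]⟩⟩
  neg_mem' := by
    rintro u ⟨c, hc⟩
    rw [mem_stabPar] at hc
    refine ⟨_, A.mem_stabPar.2 ⟨A.pinv_mem hc.1, ?_⟩⟩
    conv_lhs => rw [← hc.2]
    exact A.act_pinv hc.1 ω

theorem mem_U {ω : Ω} {w : W} : w ∈ A.U ω ↔ ∃ c, (w, c) ∈ A.stabPar ω := Iff.rfl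

/-- The central parameters fixing a point. -/
noncomputable def Z0 (ω : Ω) : AddSubgroup F where
  carrier := {c | (0, c) ∈ A.stabPar ω}
  zero_mem' := A.mem_stabPar.2 ⟨A.zero_mem_par, A.act_zero ω⟩
  add_mem' := by
    intro c d hc hd
    rw [Set.mem_setOf_eq, mem_stabPar] at hc hd ⊢
    have h := A.pm_mem hc.1 hd.1
    have h2 := A.act_mul hc.1 hd.1 ω
    simp only [pm, add_zero, map_zero, sub_zero] at h h2
    exact ⟨h, by rw [h2, hd.2, hc.2]⟩
  neg_mem' := by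
    intro c hc
    rw [Set.mem_setOf_eq, mem_stabPar] at hc ⊢
    have e : pinv σ ((0 : W), c) = (0, -c) := by
      have := A.mem_par.1 hc.1
      rw [A.S.ok_zero, mem_traceZero] at this
      simp [pinv, eq_neg_of_add_eq_zero_right this]
    rw [← e]
    refine ⟨A.pinv_mem hc.1, ?_⟩
    conv_lhs => rw [← hc.2]
    exact A.act_pinv hc.1 ω

theorem mem_Z0 {ω : Ω} {c : F} : c ∈ A.Z0 ω ↔ c ∈ traceZero σ ∧ A.act (0, c) ω = ω := by
  change (0, c) ∈ A.stabPar ω ↔ _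
  rw [mem_stabPar, mem_par, A.S.ok_zero]

theorem Z0_le (ω : Ω) : A.Z0 ω ≤ traceZero σ := fun _ hc => (A.mem_Z0.1 hc).1

/-- Size of the group `Z0`. -/
noncomputable def zc (ω : Ω) : ℕ := Nat.card (A.Z0 ω)

theorem zc_pos (ω : Ω) : 0 < A.zc ω := Nat.card_pos

theorem zc_dvd (ω : Ω) : A.zc ω ∣ q := by
  have := AddSubgroup.card_dvd_of_le (A.Z0_le ω)
  rwa [A.S.card_traceZero] at this

theorem card_stabPar (ω : Ω) : (A.stabPar ω).card = Nat.card (A.U ω) * A.zc ω := by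
  classical
  rw [zc, Nat.card_eq_fintype_card, Fintype.card_subtype, Nat.card_eq_fintype_card, Fintype.card_subtype,
    Finset.card_eq_sum_card_fiberwise (f := Prod.fst) (t := univ.filter fun w => w ∈ A.U ω)
      fun p hp => by simp only [coe_filter, mem_univ, true_and, Set.mem_setOf_eq]; exact ⟨p.2, by simpa using hp⟩]
  refine Finset.sum_const_nat fun w hw => ?_
  obtain ⟨c₀, hc₀⟩ := (mem_filter.1 hw).2
  have hpar := (A.mem_stabPar.1 hc₀).1
  refine Finset.card_nbij' (fun p => p.2 - c₀) (fun c => (w, c + c₀)) ?_ ?_ ?_ ?_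
  · intro p hp
    simp only [coe_filter, Set.mem_setOf_eq] at hp
    simp only [coe_filter, mem_univ, true_and, Set.mem_setOf_eq]
    obtain ⟨hp, rfl⟩ := hp
    rw [mem_stabPar] at hp hc₀
    refine A.mem_Z0.2 ⟨Ok.sub (A.mem_par.1 hp.1) (A.mem_par.1 hc₀.1), ?_⟩
    have e : pm B₀ p (pinv σ (p.1, c₀)) = (0, p.2 - c₀) := by
      have := A.mem_par.1 hc₀.1
      unfold Ok at this
      refine Prod.ext ?_ ?_ <;> simp [pm, pinv]
      linear_combination this
    rw [← e, A.act_mul hp.1 (A.pinv_mem hc₀.1),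
      show A.act (pinv σ (p.1, c₀)) ω = ω from (congrArg _ hc₀.2.symm).trans (A.act_pinv hc₀.1 ω), hp.2]
  · intro c hc
    simp only [coe_filter, mem_univ, true_and, Set.mem_setOf_eq] at hc
    simp only [coe_filter, Set.mem_setOf_eq, and_true]
    have hc' : (0, c) ∈ A.stabPar ω := hc
    rw [mem_stabPar] at hc₀ hc' ⊢
    have e : (w, c + c₀) = pm B₀ (0, c) (w, c₀) := by simp [pm]
    rw [e]
    exact ⟨A.pm_mem hc'.1 hc₀.1, by rw [A.act_mul hc'.1 hc₀.1, hc₀.2, hc'.2]⟩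
  · intro p hp
    simp only [coe_filter, Set.mem_setOf_eq] at hp
    simp [← hp.2]
  · intro c _
    simp

/-! ### Duality -/

/-- The character attached to a vector. -/
noncomputable def chr (y : W) : AddChar W ℂ := A.chi.compAddMonoidHom (B₀ y).toAddMonoidHom

theorem chr_apply (y v : W) : A.chr y v = A.chi (B₀ y v) := rfl

theorem chr_inj : Function.Injective A.chr := by
  intro y z h
  by_contra hne
  obtain ⟨a, ha⟩ := A.hη
  obtain ⟨v, hv⟩ : ∃ v, B₀ (y - z) v ≠ 0 := by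
    by_contra! hall
    exact sub_ne_zero.2 hne (A.S.hN _ fun v => A.S.h.isRefl _ _ (hall v))
  have e := DFunLike.congr_fun h ((a / B₀ (y - z) v) • v)
  rw [chr_apply, chr_apply] at e
  apply ha
  rw [← chi_apply, show a = B₀ y ((a / B₀ (y - z) v) • v) - B₀ z ((a / B₀ (y - z) v) • v) by
    rw [← LinearMap.sub_apply, ← map_sub, map_smul, smul_eq_mul, div_mul_cancel₀ _ hv],
    AddChar.map_sub_eq_div, e, div_self]
  exact (AddChar.val_isUnit A.chi _).ne_zero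

theorem chr_bij : Function.Bijective A.chr :=
  (Fintype.bijective_iff_injective_and_card _).2 ⟨A.chr_inj, (AddChar.card_eq).symm⟩

/-- The annihilator of the stabiliser. -/
noncomputable def ann (ω : Ω) : Finset W := by
  classical exact univ.filter fun y => ∀ v ∈ A.U ω, A.chi (B₀ y v) = 1

theorem mem_ann {ω : Ω} {y : W} : y ∈ A.ann ω ↔ ∀ v ∈ A.U ω, A.chi (B₀ y v) = 1 := by
  classical simp [ann]

theorem zero_mem (ω : Ω) : (0 : W) ∈ A.ann ω :=
  A.mem_ann.2 fun v _ => by simp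

theorem ann_add {ω : Ω} {y z : W} (hy : y ∈ A.ann ω) (hz : z ∈ A.ann ω) : y + z ∈ A.ann ω :=
  A.mem_ann.2 fun v hv => by
    rw [map_add, LinearMap.add_apply, AddChar.map_add_eq_mul, A.mem_ann.1 hy v hv, A.mem_ann.1 hz v hv,
      mul_one]

theorem ann_neg {ω : Ω} {y : W} (hy : y ∈ A.ann ω) : -y ∈ A.ann ω :=
  A.mem_ann.2 fun v hv => by
    rw [map_neg, LinearMap.neg_apply, AddChar.map_neg_eq_inv, A.mem_ann.1 hy v hv, inv_one]

theorem ann_sub {ω : Ω} {y z : W} (hy : y ∈ A.ann ω) (hz : z ∈ A.ann ω) : y - z ∈ A.ann ω := by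
  rw [sub_eq_add_neg]
  exact A.ann_add hy (A.ann_neg hz)

/-- The annihilator as a subgroup. -/
noncomputable def annGrp (ω : Ω) : AddSubgroup W where
  carrier := A.ann ω
  zero_mem' := A.zero_mem ω
  add_mem' hy hz := A.ann_add hy hz
  neg_mem' hy := A.ann_neg hy

theorem mem_annGrp {ω : Ω} {y : W} : y ∈ A.annGrp ω ↔ y ∈ A.ann ω := Iff.rfl

theorem card_ann_mul (ω : Ω) : (A.ann ω).card * Nat.card (A.U ω) = Fintype.card W := by
  have : Fintype (W ⧸ A.U ω) := Fintype.ofFinite _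
  rw [← Nat.card_eq_fintype_card, ← AddSubgroup.card_mul_index (A.U ω), mul_comm]
  congr 1
  rw [AddSubgroup.index, Nat.card_eq_fintype_card (α := W ⧸ A.U ω),
    ← AddChar.card_eq (α := W ⧸ A.U ω), ← Nat.card_eq_fintype_card, ← Nat.card_eq_finsetCard]
  let f : A.ann ω → AddChar (W ⧸ A.U ω) ℂ := fun y =>
    { toFun := fun z => Quotient.liftOn' z (fun v => A.chi (B₀ y.1 v)) (by
        intro u v huv
        have h := A.mem_ann.1 y.2 _ (QuotientAddGroup.leftRel_apply.1 huv)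
        change A.chi (B₀ y.1 u) = A.chi (B₀ y.1 v)
        rw [show v = u + (-u + v) by abel, map_add (B₀ y.1) u, AddChar.map_add_eq_mul, h, mul_one])
      map_zero_eq_one' := by
        change A.chi (B₀ y.1 0) = 1
        simp
      map_add_eq_mul' := by
        rintro ⟨u⟩ ⟨v⟩
        change A.chi (B₀ y.1 (u + v)) = A.chi (B₀ y.1 u) * A.chi (B₀ y.1 v)
        rw [map_add, AddChar.map_add_eq_mul] }
  refine Nat.card_congr (Equiv.ofBijective f ⟨?_, ?_⟩)
  · intro y z h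
    apply Subtype.ext
    apply A.chr_inj
    ext v
    exact DFunLike.congr_fun h (QuotientAddGroup.mk v)
  · intro c
    obtain ⟨y, hy⟩ := A.chr_bij.2 (c.compAddMonoidHom (QuotientAddGroup.mk' (A.U ω)))
    refine ⟨⟨y, A.mem_ann.2 fun v hv => ?_⟩, ?_⟩
    · rw [← A.chr_apply y v, hy]
      change c (QuotientAddGroup.mk v) = 1
      rw [(QuotientAddGroup.eq_zero_iff v).2 hv, AddChar.map_zero_eq_one]
    · apply DFunLike.ext
      rintro ⟨v⟩
      exact DFunLike.congr_fun hy v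

theorem card_orb_zc (ω : Ω) : (A.orb ω).card * A.zc ω = (A.ann ω).card * q := by
  have h := A.card_orb_mul ω
  rw [A.card_stabPar, A.card_par, ← A.card_ann_mul ω] at h
  refine Nat.eq_of_mul_eq_mul_right (Nat.card_pos (α := A.U ω)) ?_
  linarith

/-- Two stabilising parameters give a central one. -/
theorem comm_mem_Z0 {ω : Ω} {u v : W} (hu : u ∈ A.U ω) (hv : v ∈ A.U ω) :
    B₀ v u - B₀ u v ∈ A.Z0 ω := by
  obtain ⟨c, hc⟩ := hu
  obtain ⟨d, hd⟩ := hv
  rw [mem_stabPar] at hc hd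
  have h1 := A.pm_mem hc.1 hd.1
  have h2 := A.pm_mem hd.1 hc.1
  have hz : B₀ v u - B₀ u v ∈ traceZero σ := by
    rw [mem_traceZero, map_sub, A.S.h.symm, A.S.h.symm]
    ring
  refine A.mem_Z0.2 ⟨hz, ?_⟩
  have e : pm B₀ (0, B₀ v u - B₀ u v) (pm B₀ (v, d) (u, c)) = pm B₀ (u, c) (v, d) := by
    refine Prod.ext ?_ ?_ <;> simp [pm]
    · abel
    · ring
  have hfix : A.act (pm B₀ (v, d) (u, c)) ω = ω := by rw [A.act_mul hd.1 hc.1, hc.2, hd.2]
  conv_lhs => rw [← hfix]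
  rw [← A.act_mul (A.mem_par.2 (A.S.ok_zero.2 hz)) h2, e, A.act_mul hc.1 hd.1, hd.2, hc.2]

/-- The centre of the radical fixes the point. -/
def ZF (ω : Ω) : Prop := ∀ c ∈ traceZero σ, A.act (0, c) ω = ω

theorem zc_eq_of_ZF {ω : Ω} (h : A.ZF ω) : A.zc ω = q := by
  have h1 := A.S.card_traceZero
  rw [← le_antisymm (A.Z0_le ω) fun c hc => A.mem_Z0.2 ⟨hc, h c hc⟩] at h1
  exact h1

theorem zc_lt {ω : Ω} (h : ¬ A.ZF ω) : A.zc ω < q := by
  by_contra hc
  have e : A.Z0 ω = traceZero σ := AddSubgroup.eq_of_le_of_card_ge (A.Z0_le ω)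
    (by rw [A.S.card_traceZero]; exact Nat.not_lt.1 hc)
  exact h fun c hc => (A.mem_Z0.1 (e.symm ▸ hc)).2

theorem card_orb_ZF {ω : Ω} (h : A.ZF ω) : (A.orb ω).card = (A.ann ω).card := by
  have := A.card_orb_zc ω
  rw [A.zc_eq_of_ZF h] at this
  exact Nat.eq_of_mul_eq_mul_right (by have := A.S.q_two; omega) this

/-- When the centre moves the point, a multiple of `U` lies in the annihilator. -/
theorem exists_smul_U {ω : Ω} (h : ¬ A.ZF ω) :
    ∃ γ : F, γ ≠ 0 ∧ ∀ u ∈ A.U ω, γ • u ∈ A.ann ω := by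
  obtain ⟨t, ht, ht'⟩ : ∃ t, t ∈ traceZero σ ∧ t ∉ A.Z0 ω := by
    by_contra! hall
    exact h fun c hc => (A.mem_Z0.1 (hall c hc)).2
  obtain ⟨θ, hθ⟩ : ∃ θ : AddChar (F ⧸ A.Z0 ω) ℂ, θ (QuotientAddGroup.mk t) ≠ 1 := by
    by_contra! hall
    exact ht' ((QuotientAddGroup.eq_zero_iff t).1 (AddChar.forall_apply_eq_zero.1 hall))
  let ψ : AddChar F ℂ := θ.compAddMonoidHom
    ((QuotientAddGroup.mk' (A.Z0 ω)).comp (AddMonoidHom.id F - σ.toAddMonoidHom))
  have hψ : ∀ a, ψ a = θ (QuotientAddGroup.mk (a - σ a)) := fun a => rfl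
  let f : F → AddChar F ℂ := fun γ => A.chi.compAddMonoidHom (AddMonoidHom.mulLeft γ)
  have hf : ∀ γ a, f γ a = A.chi (γ * a) := fun γ a => rfl
  have hbij : Function.Bijective f := by
    refine (Fintype.bijective_iff_injective_and_card _).2 ⟨fun γ δ e => ?_, (AddChar.card_eq).symm⟩
    by_contra hne
    obtain ⟨a, ha⟩ := A.hη
    apply ha
    have e' := DFunLike.congr_fun e (a / (γ - δ))
    rw [hf, hf] at e'
    rw [← chi_apply, show a = γ * (a / (γ - δ)) - δ * (a / (γ - δ)) by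
      rw [← sub_mul, mul_div_cancel₀ _ (sub_ne_zero.2 hne)], AddChar.map_sub_eq_div, e', div_self]
    exact (AddChar.val_isUnit A.chi _).ne_zero
  obtain ⟨γ, hγ⟩ := hbij.2 ψ
  obtain ⟨e, he⟩ := A.S.conj.exists_trace_eq (map_one σ)
  have hγ0 : γ ≠ 0 := by
    rintro rfl
    apply hθ
    have e1 := DFunLike.congr_fun hγ (t * e)
    rw [hf, hψ, zero_mul, AddChar.map_zero_eq_one, map_mul,
      eq_neg_of_add_eq_zero_right (mem_traceZero.1 ht),
      show t * e - -t * σ e = t by linear_combination t * he] at e1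
    exact e1.symm
  refine ⟨σ γ, (map_ne_zero σ).2 hγ0, fun u hu => A.mem_ann.2 fun v hv => ?_⟩
  rw [map_smulₛₗ, A.S.conj.invol, LinearMap.smul_apply, smul_eq_mul, ← hf, hγ, hψ, A.S.h.symm,
    (QuotientAddGroup.eq_zero_iff _).2 (A.comm_mem_Z0 hv hu), AddChar.map_zero_eq_one]

theorem sq_ann_ge {ω : Ω} (h : ¬ A.ZF ω) : Fintype.card W ≤ (A.ann ω).card ^ 2 := by
  obtain ⟨γ, hγ, hsub⟩ := A.exists_smul_U h
  rw [← A.card_ann_mul ω, pow_two]
  refine Nat.mul_le_mul_left _ ?_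
  rw [← Nat.card_eq_finsetCard]
  exact Nat.card_le_card_of_injective (fun u : A.U ω => (⟨γ • u.1, hsub u.1 u.2⟩ : A.ann ω))
    fun u v e => Subtype.ext (smul_right_injective W hγ (congrArg Subtype.val e))

theorem U_eq_bot {ω : Ω} (h : A.ann ω = univ) {u : W} (hu : u ∈ A.U ω) : u = 0 := by
  have h1 := A.card_ann_mul ω
  rw [h, Finset.card_univ] at h1
  have h2 : Nat.card (A.U ω) = 1 := mul_left_cancel₀ Fintype.card_ne_zero (h1.trans (mul_one _).symm)
  exact (AddSubgroup.mem_bot).1 (AddSubgroup.eq_bot_of_card_eq _ h2 ▸ hu)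

/-! ### Invariance along an orbit -/

theorem stabPar_act {r : W × F} (hr : r ∈ A.par) {ω : Ω} {p : W × F} (hp : p ∈ A.stabPar ω) :
    (p.1, p.2 + (B₀ p.1 r.1 - B₀ r.1 p.1)) ∈ A.stabPar (A.act r ω) := by
  rw [mem_stabPar] at hp
  have e : (p.1, p.2 + (B₀ p.1 r.1 - B₀ r.1 p.1)) = pm B₀ r (pm B₀ p (pinv σ r)) := by
    have hr' := A.mem_par.1 hr
    unfold Ok at hr'
    refine Prod.ext ?_ ?_
    · simp [pm, pinv]
    · simp [pm, pinv]
      linear_combination -hr'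
  rw [e, mem_stabPar]
  refine ⟨A.pm_mem hr (A.pm_mem hp.1 (A.pinv_mem hr)), ?_⟩
  rw [A.act_mul hr (A.pm_mem hp.1 (A.pinv_mem hr)), A.act_mul hp.1 (A.pinv_mem hr), A.act_pinv hr, hp.2]

theorem U_eq {ω ν : Ω} (h : ν ∈ A.orb ω) : A.U ν = A.U ω := by
  have key : ∀ {ω ν : Ω}, ν ∈ A.orb ω → A.U ω ≤ A.U ν := by
    intro ω ν h u hu
    obtain ⟨r, hr, rfl⟩ := A.mem_orb.1 h
    obtain ⟨c, hc⟩ := hu
    exact ⟨_, A.stabPar_act hr hc⟩
  exact le_antisymm (key (by rw [A.orb_eq h]; exact A.self_mem ω)) (key h)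

theorem Z0_eq {ω ν : Ω} (h : ν ∈ A.orb ω) : A.Z0 ν = A.Z0 ω := by
  have key : ∀ {ω ν : Ω}, ν ∈ A.orb ω → A.Z0 ω ≤ A.Z0 ν := by
    intro ω ν h c hc
    obtain ⟨r, hr, rfl⟩ := A.mem_orb.1 h
    have := A.stabPar_act hr (p := (0, c)) hc
    simp only [map_zero, LinearMap.zero_apply, sub_zero, add_zero] at this
    exact this
  exact le_antisymm (key (by rw [A.orb_eq h]; exact A.self_mem ω)) (key h)

theorem ann_eq {ω ν : Ω} (h : ν ∈ A.orb ω) : A.ann ν = A.ann ω := by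
  ext y
  rw [mem_ann, mem_ann, A.U_eq h]

theorem ZF_eq {ω ν : Ω} (h : ν ∈ A.orb ω) : A.ZF ν ↔ A.ZF ω := by
  have key : ∀ {ω : Ω}, A.ZF ω ↔ traceZero σ ≤ A.Z0 ω := fun {ω} =>
    ⟨fun H c hc => A.mem_Z0.2 ⟨hc, H c hc⟩, fun H c hc => (A.mem_Z0.1 (H hc)).2⟩
  rw [key, key, A.Z0_eq h]

/-! ### Equivariance under the Levi factor -/

section Moves

variable {l : F} {τ : isomGroup B₀} (hl : Lev B₀ l τ)
include hl

theorem lev_par {p : W × F} (hp : p ∈ A.par) : (σ l • τ.1 p.1, l * σ l * p.2) ∈ A.par := by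
  rw [mem_par] at hp ⊢
  unfold Ok at hp ⊢
  rw [A.S.h.smul_self, isomGroup_apply, map_mul, map_mul, A.S.conj.invol]
  linear_combination (l * σ l) * hp

theorem act_lev {p : W × F} (hp : p ∈ A.par) (ω : Ω) :
    A.act (σ l • τ.1 p.1, l * σ l * p.2) (A.π (A.S.lev hl) ω) = A.π (A.S.lev hl) (A.act p ω) := by
  rw [act, act, ← A.S.lev_conj hl (A.mem_par.1 hp), map_mul, map_mul, map_inv, Equiv.Perm.mul_apply,
    Equiv.Perm.mul_apply]
  simp

theorem lev_par_surj {p : W × F} (hp : p ∈ A.par) :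
    ∃ r ∈ A.par, (σ l • τ.1 r.1, l * σ l * r.2) = p := by
  have hσ := hl.sigma_ne
  refine ⟨(τ.1.symm ((σ l)⁻¹ • p.1), p.2 / (l * σ l)), ?_, ?_⟩
  · rw [mem_par] at hp ⊢
    unfold Ok at hp ⊢
    have e : B₀ (τ.1.symm ((σ l)⁻¹ • p.1)) (τ.1.symm ((σ l)⁻¹ • p.1)) = B₀ p.1 p.1 / (l * σ l) := by
      rw [← isomGroup_apply τ, LinearEquiv.apply_symm_apply, A.S.h.smul_self, map_inv₀, A.S.conj.invol]
      field_simp
    rw [e, map_div₀, map_mul, A.S.conj.invol, ← neg_div, ← hp]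
    field_simp
  · refine Prod.ext ?_ ?_
    · simp [smul_smul, hσ]
    · simp only
      rw [mul_div_cancel₀ _ (mul_ne_zero hl.1 hσ)]

theorem orb_moves (ω : Ω) : A.orb (A.π (A.S.lev hl) ω) = (A.orb ω).image (A.π (A.S.lev hl)) := by
  ext z
  simp only [mem_orb, mem_image]
  constructor
  · rintro ⟨p, hp, rfl⟩
    obtain ⟨r, hr, rfl⟩ := A.lev_par_surj hl hp
    exact ⟨_, ⟨r, hr, rfl⟩, (A.act_lev hl hr ω).symm⟩
  · rintro ⟨y, ⟨p, hp, rfl⟩, rfl⟩
    exact ⟨_, A.lev_par hl hp, A.act_lev hl hp ω⟩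

theorem mem_stabPar_moves {p : W × F} (hp : p ∈ A.par) (ω : Ω) :
    (σ l • τ.1 p.1, l * σ l * p.2) ∈ A.stabPar (A.π (A.S.lev hl) ω) ↔ p ∈ A.stabPar ω := by
  rw [mem_stabPar, mem_stabPar, A.act_lev hl hp]
  exact ⟨fun e => ⟨hp, (A.π _).injective e.2⟩, fun e => ⟨A.lev_par hl hp, by rw [e.2]⟩⟩

theorem mem_Z0_moves {c : F} (hc : c ∈ traceZero σ) (ω : Ω) :
    l * σ l * c ∈ A.Z0 (A.π (A.S.lev hl) ω) ↔ c ∈ A.Z0 ω := by
  have h := A.mem_stabPar_moves hl (p := (0, c)) (A.mem_par.2 (A.S.ok_zero.2 hc)) ω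
  simp only [map_zero, smul_zero] at h
  exact h

theorem ZF_moves (ω : Ω) : A.ZF (A.π (A.S.lev hl) ω) ↔ A.ZF ω := by
  have hne : l * σ l ≠ 0 := mul_ne_zero hl.1 hl.sigma_ne
  have hσN : σ (l * σ l) = l * σ l := A.S.conj.norm_fixed l
  constructor
  · intro h c hc
    have hc' : l * σ l * c ∈ traceZero σ := by
      rw [mem_traceZero, map_mul, hσN, ← mul_add, mem_traceZero.1 hc, mul_zero]
    exact (A.mem_Z0.1 ((A.mem_Z0_moves hl hc ω).1 (A.mem_Z0.2 ⟨hc', h _ hc'⟩))).2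
  · intro h c hc
    have hc' : (l * σ l)⁻¹ * c ∈ traceZero σ := by
      rw [mem_traceZero, map_mul, map_inv₀, hσN, ← mul_add, mem_traceZero.1 hc, mul_zero]
    have := (A.mem_Z0_moves hl hc' ω).2 (A.mem_Z0.2 ⟨hc', h _ hc'⟩)
    rw [mul_inv_cancel_left₀ hne] at this
    exact (A.mem_Z0.1 this).2

theorem ann_moves {ω : Ω} {y : W} :
    y ∈ A.ann ω ↔ l⁻¹ • τ.1 y ∈ A.ann (A.π (A.S.lev hl) ω) := by
  have key : ∀ v, B₀ (l⁻¹ • τ.1 y) (σ l • τ.1 v) = B₀ y v := fun v => by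
    have h1 := hl.sigma_ne
    simp only [map_smul, map_smulₛₗ, LinearMap.smul_apply, isomGroup_apply, smul_eq_mul, map_inv₀, RingHom.id_apply]
    field_simp
  rw [mem_ann, mem_ann]
  constructor
  · rintro H v ⟨c, hc⟩
    obtain ⟨r, hr, he⟩ := A.lev_par_surj hl (A.mem_stabPar.1 hc).1
    rw [← he, A.mem_stabPar_moves hl hr] at hc
    obtain rfl : σ l • τ.1 r.1 = v := congrArg Prod.fst he
    rw [key]
    exact H r.1 ⟨r.2, hc⟩
  · rintro H v ⟨c, hc⟩
    rw [← key]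
    exact H _ ⟨_, (A.mem_stabPar_moves hl (A.mem_stabPar.1 hc).1 ω).2 hc⟩

end Moves

/-! ### Families of orbits -/

/-- All orbits. -/
noncomputable def orbs : Finset (Finset Ω) := univ.image A.orb

theorem orb_mem (ω : Ω) : A.orb ω ∈ A.orbs := mem_image_of_mem _ (mem_univ ω)

theorem exists_of_mem {O : Finset Ω} (hO : O ∈ A.orbs) : ∃ ω, O = A.orb ω := by
  obtain ⟨ν, -, rfl⟩ := mem_image.1 hO
  exact ⟨ν, rfl⟩

theorem eq_orb {O : Finset Ω} (hO : O ∈ A.orbs) {ω : Ω} (h : ω ∈ O) : O = A.orb ω := by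
  obtain ⟨ν, rfl⟩ := A.exists_of_mem hO
  exact (A.orb_eq h).symm

/-- The orbits moved by the centre. -/
noncomputable def mvd : Finset (Finset Ω) := by
  classical exact A.orbs.filter fun O => ∃ ω ∈ O, ¬ A.ZF ω

/-- The orbits fixed by the centre. -/
noncomputable def fxd : Finset (Finset Ω) := by
  classical exact A.orbs.filter fun O => ∃ ω ∈ O, A.ZF ω

theorem mem_mvd {ω : Ω} : A.orb ω ∈ A.mvd ↔ ¬ A.ZF ω := by
  classical
  simp only [mvd, mem_filter, A.orb_mem ω, true_and]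
  exact ⟨fun ⟨ν, hν, h⟩ => fun h' => h ((A.ZF_eq hν).2 h'), fun h => ⟨ω, A.self_mem ω, h⟩⟩

theorem mem_fxd {ω : Ω} : A.orb ω ∈ A.fxd ↔ A.ZF ω := by
  classical
  simp only [fxd, mem_filter, A.orb_mem ω, true_and]
  exact ⟨fun ⟨ν, hν, h⟩ => (A.ZF_eq hν).1 h, fun h => ⟨ω, A.self_mem ω, h⟩⟩

theorem mvd_subset : A.mvd ⊆ A.orbs := by classical exact Finset.filter_subset _ _

theorem fxd_subset : A.fxd ⊆ A.orbs := by classical exact Finset.filter_subset _ _

theorem exists_of_mvd {O : Finset Ω} (hO : O ∈ A.mvd) : ∃ ω, O = A.orb ω ∧ ¬ A.ZF ω := by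
  obtain ⟨ω, rfl⟩ := A.exists_of_mem (A.mvd_subset hO)
  exact ⟨ω, rfl, A.mem_mvd.1 hO⟩

theorem exists_of_fxd {O : Finset Ω} (hO : O ∈ A.fxd) : ∃ ω, O = A.orb ω ∧ A.ZF ω := by
  obtain ⟨ω, rfl⟩ := A.exists_of_mem (A.fxd_subset hO)
  exact ⟨ω, rfl, A.mem_fxd.1 hO⟩

/-- A family stable under the Levi factor. -/
def Stable (𝒪 : Finset (Finset Ω)) : Prop :=
  𝒪 ⊆ A.orbs ∧ ∀ {l : F} {τ : isomGroup B₀} (hl : Lev B₀ l τ) (ω : Ω), A.orb ω ∈ 𝒪 →
    A.orb (A.π (A.S.lev hl) ω) ∈ 𝒪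

theorem stable_mvd : A.Stable A.mvd :=
  ⟨A.mvd_subset, fun hl ω h => by rw [mem_mvd] at h ⊢; rwa [A.ZF_moves hl]⟩

theorem stable_fxd : A.Stable A.fxd :=
  ⟨A.fxd_subset, fun hl ω h => by rw [mem_fxd] at h ⊢; rwa [A.ZF_moves hl]⟩

theorem disjoint_orbs {𝒪 : Finset (Finset Ω)} (h : 𝒪 ⊆ A.orbs) :
    (𝒪 : Set (Finset Ω)).PairwiseDisjoint id := by
  intro O hO O' hO' hne
  rw [Function.onFun, id, id, Finset.disjoint_left]
  exact fun ω h1 h2 => hne ((A.eq_orb (h hO) h1).trans (A.eq_orb (h hO') h2).symm)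

theorem sum_card_le {𝒪 : Finset (Finset Ω)} (h : 𝒪 ⊆ A.orbs) :
    ∑ O ∈ 𝒪, O.card ≤ Fintype.card Ω := by
  have h1 := Finset.card_biUnion (t := id) (A.disjoint_orbs h)
  simp only [id] at h1
  rw [← h1]
  exact Finset.card_le_univ _

theorem card_eq_sum : Fintype.card Ω = ∑ O ∈ A.mvd, O.card + ∑ O ∈ A.fxd, O.card := by
  classical
  have hd : Disjoint A.mvd A.fxd := by
    rw [Finset.disjoint_left]
    intro O h1 h2
    obtain ⟨ω, rfl, h⟩ := A.exists_of_mvd h1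
    exact h (A.mem_fxd.1 h2)
  have h1 := Finset.card_biUnion (t := id) (A.disjoint_orbs (Finset.union_subset A.mvd_subset A.fxd_subset))
  simp only [id] at h1
  rw [← Finset.sum_union hd, ← h1, ← Finset.card_univ]
  congr 1
  ext ω
  simp only [mem_univ, true_iff, mem_biUnion, mem_union]
  exact ⟨A.orb ω, (em (A.ZF ω)).symm.imp A.mem_mvd.2 A.mem_fxd.2, A.self_mem ω⟩

/-- The members of a family whose annihilator contains `y`. -/
noncomputable def above (𝒪 : Finset (Finset Ω)) (y : W) : Finset (Finset Ω) := by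
  classical exact 𝒪.filter fun O => ∃ ω ∈ O, y ∈ A.ann ω

theorem mem_above {𝒪 : Finset (Finset Ω)} {y : W} {ω : Ω} :
    A.orb ω ∈ A.above 𝒪 y ↔ A.orb ω ∈ 𝒪 ∧ y ∈ A.ann ω := by
  classical
  simp only [above, mem_filter]
  exact and_congr_right fun _ =>
    ⟨fun ⟨ν, hν, h⟩ => (A.ann_eq hν) ▸ h, fun h => ⟨ω, A.self_mem ω, h⟩⟩

theorem exists_of_above {𝒪 : Finset (Finset Ω)} (h : 𝒪 ⊆ A.orbs) {y : W} {O : Finset Ω}
    (hO : O ∈ A.above 𝒪 y) : ∃ ω, O = A.orb ω ∧ A.orb ω ∈ 𝒪 ∧ y ∈ A.ann ω := by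
  have hm : O ∈ 𝒪 := by classical exact (mem_filter.1 hO).1
  obtain ⟨ω, rfl⟩ := A.exists_of_mem (h hm)
  exact ⟨ω, rfl, A.mem_above.1 hO⟩

section Moves

variable {l : F} {τ : isomGroup B₀} (hl : Lev B₀ l τ) {𝒪 : Finset (Finset Ω)} (h𝒪 : A.Stable 𝒪)
include hl h𝒪

theorem above_moves {y : W} {O : Finset Ω} (hO : O ∈ A.above 𝒪 y) :
    O.image (A.π (A.S.lev hl)) ∈ A.above 𝒪 (l⁻¹ • τ.1 y) := by
  obtain ⟨ω, rfl, hω, hy⟩ := A.exists_of_above h𝒪.1 hO
  rw [← A.orb_moves hl, mem_above, ← A.ann_moves hl]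
  exact ⟨h𝒪.2 hl ω hω, hy⟩

theorem card_above_le (y : W) : (A.above 𝒪 y).card ≤ (A.above 𝒪 (l⁻¹ • τ.1 y)).card :=
  Finset.card_le_card_of_injOn (fun O => O.image (A.π (A.S.lev hl)))
    (fun _ hO => A.above_moves hl h𝒪 hO)
    fun _ _ _ _ h => Finset.image_injective (A.π (A.S.lev hl)).injective h

end Moves

theorem sum_above {𝒪 : Finset (Finset Ω)} (T : Finset W) :
    ∑ y ∈ T, (A.above 𝒪 y).card = ∑ O ∈ 𝒪, (T.filter fun y => ∃ ω ∈ O, y ∈ A.ann ω).card := by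
  classical
  simp only [above, Finset.card_filter]
  exact Finset.sum_comm

theorem filter_ann {O : Finset Ω} {ω : Ω} (h : O = A.orb ω) (T : Finset W) :
    (T.filter fun y => ∃ ν ∈ O, y ∈ A.ann ν) = T.filter fun y => y ∈ A.ann ω := by
  subst h
  refine Finset.filter_congr fun y _ => ?_
  exact ⟨fun ⟨ν, hν, hy⟩ => (A.ann_eq hν) ▸ hy, fun hy => ⟨ω, A.self_mem ω, hy⟩⟩

end Act

end CfsgLib.KnownA.MinIndexUnitary
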