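import Cfsg.Agent.Lib.KnownA.MinIndexUnitary.Model

/-!
# Minimal index in unitary groups: subgroups closed under transvections
-/

set_option autoImplicit false
set_option linter.unusedSectionVars false

open Module CfsgLib.Classical

namespace CfsgLib.KnownA.MinIndexUnitary

variable {F W : Type*} [Field F] [Fintype F] [AddCommGroup W] [Module F W]
  [FiniteDimensional F W] {σ : F →+* F} {B₀ : W →ₛₗ[σ] W →ₗ[F] F} {q : ℕ}

/-- Invariance of a subgroup under the transvections orthogonal to one of its non-isotropic vectors. -/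
def TClosed (B₀ : W →ₛₗ[σ] W →ₗ[F] F) (A : AddSubgroup W) : Prop :=
  ∀ v ∈ A, B₀ v v ≠ 0 → ∀ a, B₀ a a = 0 → B₀ v a = 0 → ∀ y ∈ A, ∀ c ∈ traceZero σ,
    (c * B₀ a y) • a ∈ A

variable (S : Setup B₀ q)
include S

theorem Setup.exists_iso_sees {u y : W} (hu : B₀ u u ≠ 0) (hy : y ∉ Submodule.span F {u}) :
    ∃ a, B₀ a a = 0 ∧ B₀ u a = 0 ∧ B₀ a y ≠ 0 := by
  have hP := S.h.nondegOn_span_singleton hu
  have hd := hP.finrank_perp
  rw [finrank_span_singleton (fun e => hu (by rw [e, map_zero]))] at hd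
  have h3 := S.three
  have hP' := nondegOn_perp S.hN hP
  obtain ⟨r, hr, hr0, hrr⟩ := S.h.exists_isotropic hP' (by omega)
  obtain ⟨s, hs, hss, hrs⟩ := S.h.exists_partner hP' hr hr0 hrr
  have hur : B₀ u r = 0 := mem_perp_span.1 hr u rfl
  have hus : B₀ u s = 0 := mem_perp_span.1 hs u rfl
  by_cases h1 : B₀ r y = 0
  swap
  · exact ⟨r, hrr, hur, h1⟩
  by_cases h2 : B₀ s y = 0
  swap
  · exact ⟨s, hss, hus, h2⟩
  set y' := y - (B₀ u y / B₀ u u) • u with hy'
  have hy0 : y' ≠ 0 := fun e => hy (by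
    rw [sub_eq_zero.1 e]
    exact Submodule.smul_mem _ _ (Submodule.mem_span_singleton_self u))
  obtain ⟨z, hz⟩ : ∃ z, B₀ z y' ≠ 0 := by
    by_contra! hall
    exact hy0 (S.hN y' hall)
  have hsr : B₀ s r = 1 := by rw [← S.h.symm, hrs, map_one]
  have hru := S.h.isRefl _ _ hur
  have hsu := S.h.isRefl _ _ hus
  set z0 := z - (B₀ u z / B₀ u u) • u - B₀ s z • r - B₀ r z • s with hz0
  have huz : B₀ u z0 = 0 := by simp [hz0, hur, hus, hu]
  have hrz : B₀ r z0 = 0 := by simp [hz0, hru, hrr, hrs]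
  have hsz : B₀ s z0 = 0 := by simp [hz0, hsu, hsr, hss]
  have hzy : B₀ z0 y ≠ 0 := by
    intro e
    apply hz
    have huy : B₀ u y' = 0 := by simp [hy', hu]
    have hry : B₀ r y' = 0 := by simp [hy', h1, hru]
    have hsy : B₀ s y' = 0 := by simp [hy', h2, hsu]
    have e2 : B₀ z0 y' = 0 := by simp [hy', e, S.h.isRefl _ _ huz]
    rw [hz0] at e2
    simp only [map_sub, map_smulₛₗ, LinearMap.sub_apply, LinearMap.smul_apply, huy, hry, hsy, smul_zero,
      sub_zero] at e2
    exact e2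
  obtain ⟨ζ, hζ⟩ := S.conj.exists_trace_eq (a := -B₀ z0 z0) (by rw [map_neg, S.h.self_fixed])
  refine ⟨z0 + ζ • r + s, ?_, by simp [huz, hur, hus], ?_⟩
  · simp [map_smulₛₗ, hrr, hss, hrs, hsr, hrz, hsz, S.h.isRefl _ _ hrz, S.h.isRefl _ _ hsz]
    linear_combination hζ
  · simpa [map_smulₛₗ, h1, h2] using hzy

theorem Setup.perp_mem {A : AddSubgroup W} (hA : TClosed B₀ A) {u y : W} (hu : u ∈ A) (hu0 : B₀ u u ≠ 0)
    (hy : y ∈ A) (hy' : y ∉ Submodule.span F {u}) : ∀ z, B₀ u z = 0 → z ∈ A := by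
  obtain ⟨a, haa, hua, hay⟩ := S.exists_iso_sees hu0 hy'
  obtain ⟨δ, hδ, hδ'⟩ := S.conj.exists_trace_zero
  have hσδ : σ δ = -δ := eq_neg_of_add_eq_zero_right hδ'
  set w := (δ * B₀ a y) • a with hw
  have hwA : w ∈ A := hA u hu hu0 a haa hua y hy δ hδ'
  have hw0 : w ≠ 0 := smul_ne_zero (mul_ne_zero hδ hay) fun e => hay (by simp [e])
  have hww : B₀ w w = 0 := by rw [hw, S.h.smul_self, haa, mul_zero]
  have huw : B₀ u w = 0 := by rw [hw, map_smul, hua, smul_zero]
  have hP' := nondegOn_perp S.hN (S.h.nondegOn_span_singleton hu0)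
  obtain ⟨f, hf, hff, hwf⟩ := S.h.exists_partner hP' (mem_perp_span.2 fun x hx => by
    rw [Set.mem_singleton_iff.1 hx]; exact huw) hw0 hww
  have huf : B₀ u f = 0 := mem_perp_span.1 hf u rfl
  have hfw : B₀ f w = 1 := by rw [← S.h.symm, hwf, map_one]
  have hwu := S.h.isRefl _ _ huw
  have hfu := S.h.isRefl _ _ huf
  set ρ := B₀ u u with hρ
  have hσρ : σ ρ = ρ := S.h.self_fixed u
  -- the vectors orthogonal to `u + w`
  have key : ∀ β, β + σ β = 1 → ∀ τ ∈ traceZero σ, τ • (u + β • w - ρ • f) ∈ A := by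
    intro β hβ τ hτ
    have h1 := hA (u + w) (A.add_mem hu hwA) (by simpa [huw, hwu, hww] using hu0)
      (u + β • w - ρ • f) ?_ ?_ w hwA (-(τ / ρ)) ?_
    · rwa [show -(τ / ρ) * B₀ (u + β • w - ρ • f) w = τ by
        simp [map_smulₛₗ, huw, hww, hfw, hσρ]
        field_simp] at h1
    · simp [map_smulₛₗ, ← hρ, huw, hwu, hww, huf, hfu, hff, hwf, hfw, hσρ]
      linear_combination -ρ * hβ
    · simp [map_smul, ← hρ, huw, hwu, hww, huf, hwf]
    · rw [mem_traceZero, map_neg, map_div₀, hσρ, ← neg_add, ← add_div, mem_traceZero.1 hτ, zero_div, neg_zero]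
  obtain ⟨β, hβ⟩ := S.conj.exists_trace_eq (map_one σ)
  have hTf : ∀ τ ∈ traceZero σ, τ • f ∈ A := by
    intro τ hτ
    have := hA u hu hu0 f hff huf w hwA τ hτ
    rwa [hfw, mul_one] at this
  have hxf : ∀ x : F, σ x = x → (x * β) • f ∈ A := by
    intro x hx
    have hτ : δ ∈ traceZero σ := hδ'
    have hτρ : δ * ρ ∈ traceZero σ := by
      rw [mem_traceZero, map_mul, hσρ, ← add_mul, hδ', zero_mul]
    have h1 := A.add_mem (key β hβ δ hτ) (hTf _ hτρ)
    rw [show δ • (u + β • w - ρ • f) + (δ * ρ) • f = δ • u + (δ * β) • w by module] at h1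
    have h2 := hA u hu hu0 f hff huf _ h1 (x / δ) (by
      rw [mem_traceZero, map_div₀, hx, hσδ, div_neg, add_neg_cancel])
    rwa [show x / δ * B₀ f (δ • u + (δ * β) • w) = x * β by
      simp [hfu, hfw]
      field_simp] at h2
  have hKf : ∀ μ : F, μ • f ∈ A := by
    intro μ
    have hx : σ (μ + σ μ) = μ + σ μ := by rw [map_add, S.conj.invol, add_comm]
    have h1 := A.add_mem (hxf _ hx) (hTf (μ - (μ + σ μ) * β) (by
      rw [mem_traceZero, map_sub, map_mul, hx]
      linear_combination -(μ + σ μ) * hβ))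
    rwa [← add_smul, add_sub_cancel] at h1
  have hKw : ∀ μ : F, μ • w ∈ A := by
    intro μ
    have := hA u hu hu0 w hww huw _ (hKf (μ / δ)) δ hδ'
    rwa [map_smul, hwf, smul_eq_mul, mul_one, mul_div_cancel₀ _ hδ] at this
  have hiso : ∀ b, B₀ b b = 0 → B₀ u b = 0 → b ∈ A := by
    have sees : ∀ e, (∀ μ : F, μ • e ∈ A) → ∀ b, B₀ b b = 0 → B₀ u b = 0 → B₀ b e ≠ 0 → b ∈ A := by
      intro e he b hb hub hbe
      have := hA u hu hu0 b hb hub _ (he ((δ * B₀ b e)⁻¹)) δ hδ'
      rw [show δ * B₀ b ((δ * B₀ b e)⁻¹ • e) = 1 by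
        rw [map_smul, smul_eq_mul, mul_left_comm, inv_mul_cancel₀ (mul_ne_zero hδ hbe)], one_smul] at this
      exact this
    intro b hb hub
    by_cases h1 : B₀ b w = 0
    swap
    · exact sees w hKw b hb hub h1
    by_cases h2 : B₀ b f = 0
    swap
    · exact sees f hKf b hb hub h2
    have := sees f hKf (w + b) (by simp [hww, hb, h1, S.h.isRefl _ _ h1]) (by simp [huw, hub])
      (by simp [hwf, h2])
    simpa using A.sub_mem this hwA
  intro z hz
  set z0 := z - B₀ f z • w - B₀ w z • f with hz0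
  have hwz : B₀ w z0 = 0 := by simp [hz0, hww, hwf]
  have hfz : B₀ f z0 = 0 := by simp [hz0, hff, hfw]
  have huz : B₀ u z0 = 0 := by simp [hz0, hz, huw, huf]
  obtain ⟨ζ, hζ⟩ := S.conj.exists_trace_eq (a := -B₀ z0 z0) (by rw [map_neg, S.h.self_fixed])
  have h1 := hiso (z0 + ζ • w + f) (by
    simp [map_smulₛₗ, hww, hff, hwf, hfw, hwz, hfz, S.h.isRefl _ _ hwz, S.h.isRefl _ _ hfz]
    linear_combination hζ) (by simp [huz, huw, huf])
  have h2 : z = (z0 + ζ • w + f) + (B₀ f z - ζ) • w + (B₀ w z - 1) • f := by rw [hz0]; module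
  rw [h2]
  exact A.add_mem (A.add_mem h1 (hKw _)) (hKf _)

/-- A closed subgroup with a non-isotropic vector is thin or everything. -/
theorem Setup.closed_dichotomy {A : AddSubgroup W} (hA : TClosed B₀ A) {u : W} (hu : u ∈ A)
    (hu0 : B₀ u u ≠ 0) : (∀ y ∈ A, y ∈ Submodule.span F {u}) ∨ A = ⊤ := by
  refine or_iff_not_imp_left.2 fun hne => ?_
  push Not at hne
  obtain ⟨y, hy, hy'⟩ := hne
  have h1 := S.perp_mem hA hu hu0 hy hy'
  obtain ⟨v, huv, hvv⟩ := S.exists_ns_perp u
  have hv0 : B₀ v v ≠ 0 := by rw [hvv]; exact one_ne_zero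
  have h2 := S.perp_mem hA (h1 v huv) hv0 hu (fun hm => by
    obtain ⟨t, ht⟩ := Submodule.mem_span_singleton.1 hm
    apply hu0
    conv_lhs => arg 2; rw [← ht]
    rw [map_smul, huv, smul_zero])
  refine eq_top_iff.2 fun z _ => ?_
  rw [← sub_add_cancel z ((B₀ u z / B₀ u u) • u)]
  exact A.add_mem (h1 _ (by simp [hu0])) (h2 _ (by simp [S.h.isRefl _ _ huv]))

/-- In a singular subgroup the products have trace zero. -/
theorem Setup.singular_traceZero {A : AddSubgroup W} (hA : ∀ v ∈ A, B₀ v v = 0) {a b : W} (ha : a ∈ A)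
    (hb : b ∈ A) : B₀ a b ∈ traceZero σ := by
  have := hA _ (A.add_mem ha hb)
  rw [S.h.add_self, hA a ha, hA b hb] at this
  rw [mem_traceZero]
  linear_combination this

omit S in
theorem span_iso [DecidableEq F] {A : AddSubgroup W} (hA : ∀ a ∈ A, ∀ b ∈ A, B₀ a b = 0) :
    ∀ a ∈ Submodule.span F (A : Set W), ∀ b ∈ Submodule.span F (A : Set W), B₀ a b = 0 := by
  intro a ha b hb
  induction ha using Submodule.span_induction with
  | mem x hx =>
    induction hb using Submodule.span_induction with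
    | mem y hy => exact hA x hx y hy
    | zero => simp
    | add u v _ _ h1 h2 => simp [h1, h2]
    | smul c u _ h1 => simp [h1]
  | zero => simp
  | add u v _ _ h1 h2 => simp [h1, h2]
  | smul c u _ h1 => simp [map_smulₛₗ, h1]

/-- Over the field with four elements a subgroup has at most three quarters non-isotropic vectors. -/
theorem Setup.quarter [Fintype W] [DecidableEq W] [DecidableEq F] (hq : q = 2) (A : AddSubgroup W)
    (T : Finset W) (hT : ∀ v, v ∈ T ↔ v ∈ A) :
    4 * (T.filter fun v => B₀ v v ≠ 0).card ≤ 3 * T.card := by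
  have hfix : ∀ x : F, σ x = x → x = 0 ∨ x = 1 := by
    intro x hx
    rw [S.hσ, hq] at hx
    exact (eq_or_ne x 0).imp_right fun h0 => mul_right_cancel₀ h0 (by rw [one_mul, ← pow_two]; exact hx)
  have h2 : (2 : F) = 0 := by
    rcases hfix (-1) (by simp) with h | h
    · exact absurd h (neg_ne_zero.2 one_ne_zero)
    · linear_combination -h
  by_cases hex : ∃ u ∈ A, B₀ u u ≠ 0
  swap
  · push Not at hex
    rw [Finset.filter_eq_empty_iff.2 fun v hv => by simp [hex v ((hT v).1 hv)]]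
    simp
  obtain ⟨u, hu, hu0⟩ := hex
  have huu : B₀ u u = 1 := (hfix _ (S.h.self_fixed u)).resolve_left hu0
  set g : W → F := fun v => B₀ u v + σ (B₀ u v) with hg
  have hgfix : ∀ v, σ (g v) = g v := fun v => by
    simp only [hg, map_add, S.conj.invol]
    ring
  set K := T.filter fun v => g v = 0 with hK
  set L := T.filter fun v => g v ≠ 0 with hL
  have hKL : K.card + L.card = T.card := Finset.card_filter_add_card_filter_not _
  have hLK : L.card ≤ K.card := by
    by_cases hLe : L = ∅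
    · simp [hLe]
    obtain ⟨y, hy⟩ := Finset.nonempty_iff_ne_empty.2 hLe
    rw [hL, Finset.mem_filter, hT] at hy
    refine Finset.card_le_card_of_injOn (fun v => v + y) ?_ fun a _ b _ h => add_right_cancel h
    intro v hv
    simp only [hL, Finset.coe_filter, Set.mem_setOf_eq] at hv
    simp only [hK, Finset.coe_filter, Set.mem_setOf_eq]
    refine ⟨(hT _).2 (A.add_mem ((hT _).1 hv.1) hy.1), ?_⟩
    have e : g (v + y) = g v + g y := by simp only [hg, map_add]; ring
    rw [e, (hfix _ (hgfix v)).resolve_left hv.2, (hfix _ (hgfix y)).resolve_left hy.2, one_add_one_eq_two, h2]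
  have hflip : ∀ v, g v = 0 → B₀ (v + u) (v + u) = B₀ v v + 1 := fun v hv => by
    rw [S.h.add_self, huu]
    have e : B₀ v u = σ (B₀ u v) := (S.h.symm u v).symm
    simp only [hg] at hv
    rw [e, S.conj.invol]
    linear_combination hv
  have hguv : ∀ v, g v = 0 → g (v + u) = 0 := fun v hv => by
    simp only [hg, map_add, huu, map_one] at hv ⊢
    linear_combination hv + h2
  have hsplit := Finset.card_filter_add_card_filter_not (s := K) fun v => B₀ v v ≠ 0
  have hhalf : (K.filter fun v => B₀ v v ≠ 0).card ≤ (K.filter fun v => ¬B₀ v v ≠ 0).card := by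
    refine Finset.card_le_card_of_injOn (fun v => v + u) ?_ fun a _ b _ h => add_right_cancel h
    intro v hv
    simp only [hK, Finset.coe_filter, Set.mem_setOf_eq, Finset.mem_filter] at hv ⊢
    refine ⟨⟨(hT _).2 (A.add_mem ((hT _).1 hv.1.1) hu), hguv v hv.1.2⟩, not_not.2 ?_⟩
    rw [hflip v hv.1.2, (hfix _ (S.h.self_fixed v)).resolve_left hv.2, one_add_one_eq_two, h2]
  have hle : (T.filter fun v => B₀ v v ≠ 0).card ≤ (K.filter fun v => B₀ v v ≠ 0).card + L.card := by
    refine le_trans (Finset.card_le_card fun v hv => ?_) (Finset.card_union_le _ _)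
    simp only [hK, hL, Finset.mem_union, Finset.mem_filter] at hv ⊢
    by_cases hgv : g v = 0
    · exact Or.inl ⟨⟨hv.1, hgv⟩, hv.2⟩
    · exact Or.inr ⟨hv.1, hgv⟩
  omega

end CfsgLib.KnownA.MinIndexUnitary
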