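import Cfsg.Agent.Lib.Classical.HermSimple

/-!
# Minimal index in unitary groups: Eichler transformations

`IsEich B g r w c` says that `g` is `v ↦ v + B(r,v) w + (c B(r,v) - B(w,v)) r`.
-/

set_option autoImplicit false
set_option linter.unusedSectionVars false

open Module CfsgLib.Classical

namespace CfsgLib.KnownA.MinIndexUnitary

variable {F : Type*} [Field F] {V : Type*} [AddCommGroup V] [Module F V] {σ : F →+* F}

/-- The Eichler transformation at `r` with parameters `w`, `c`. -/
def IsEich (B : V →ₛₗ[σ] V →ₗ[F] F) (g : isomGroup B) (r w : V) (c : F) : Prop :=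
  B r r = 0 ∧ B r w = 0 ∧ c + σ c = -B w w ∧
    ∀ v, g.1 v = v + B r v • w + (c * B r v - B w v) • r

variable {B : V →ₛₗ[σ] V →ₗ[F] F}

theorem IsEich.unique {g g' : isomGroup B} {r w : V} {c : F} (h : IsEich B g r w c)
    (h' : IsEich B g' r w c) : g = g' :=
  Subtype.ext (LinearEquiv.ext fun v => by rw [h.2.2.2, h'.2.2.2])

theorem isEich_one {r : V} (hr : B r r = 0) : IsEich B 1 r 0 0 :=
  ⟨hr, map_zero _, by simp, fun v => by simp⟩

theorem IsEich.conj {g : isomGroup B} {r w : V} {c : F} (h : IsEich B g r w c) (k : isomGroup B) :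
    IsEich B (k * g * k⁻¹) (k.1 r) (k.1 w) c := by
  refine ⟨by rw [isomGroup_apply]; exact h.1, by rw [isomGroup_apply]; exact h.2.1,
    by rw [isomGroup_apply]; exact h.2.2.1, fun x => ?_⟩
  change k.1 (g.1 ((k⁻¹ : isomGroup B).1 x)) = _
  have hx : k.1 ((k⁻¹ : isomGroup B).1 x) = x := k.1.apply_symm_apply x
  have e1 : B r ((k⁻¹ : isomGroup B).1 x) = B (k.1 r) x := by rw [← isomGroup_apply k r, hx]
  have e2 : B w ((k⁻¹ : isomGroup B).1 x) = B (k.1 w) x := by rw [← isomGroup_apply k w, hx]
  rw [h.2.2.2, map_add, map_add, map_smul, map_smul, hx, e1, e2]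

theorem IsEich.isUTv {g : isomGroup B} {r : V} {c : F} (h : IsEich B g r 0 c) : IsUTv g r c :=
  ⟨h.1, by simpa using h.2.2.1, fun x => by rw [h.2.2.2]; simp⟩

theorem isEich_of_isUTv {g : isomGroup B} {r : V} {c : F} (h : IsUTv g r c) : IsEich B g r 0 c :=
  ⟨h.1, map_zero _, by simpa using h.2.1, fun x => by rw [h.2.2]; simp⟩

variable (h : IsHermitian B)
include h

theorem IsEich.mul {g g' : isomGroup B} {r w w' : V} {c c' : F} (hg : IsEich B g r w c)
    (hg' : IsEich B g' r w' c') : IsEich B (g * g') r (w + w') (c + c' - B w w') := by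
  obtain ⟨hr, hw, hc, hx⟩ := hg
  obtain ⟨-, hw', hc', hx'⟩ := hg'
  have hwr : B w r = 0 := h.isRefl _ _ hw
  refine ⟨hr, by rw [map_add, hw, hw', add_zero], ?_, fun v => ?_⟩
  · rw [h.add_self, map_sub, map_add, h.symm]
    linear_combination hc + hc'
  · change g.1 (g'.1 v) = _
    rw [hx', hx]
    simp only [map_add, map_smul, LinearMap.add_apply, hr, hw', hwr, smul_eq_mul, mul_zero, add_zero]
    module

theorem IsEich.inv {g : isomGroup B} {r w : V} {c : F} (hg : IsEich B g r w c) :
    IsEich B g⁻¹ r (-w) (σ c) := by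
  obtain ⟨hr, hw, hc, hx⟩ := hg
  have hwr : B w r = 0 := h.isRefl _ _ hw
  refine ⟨hr, by rw [map_neg, hw, neg_zero], ?_, fun v => ?_⟩
  · rw [h.conj.invol]
    simp only [map_neg, LinearMap.neg_apply, neg_neg]
    linear_combination hc
  · change g.1.symm v = _
    rw [LinearEquiv.symm_apply_eq, hx]
    simp only [map_add, map_sub, map_smul, map_neg, LinearMap.neg_apply, hr, hw, hwr, smul_eq_mul,
      mul_zero, add_zero, neg_zero]
    match_scalars
    · ring
    · ring
    · linear_combination -(B r v) * hc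

theorem IsEich.scale {g : isomGroup B} {r w : V} {c : F} (hg : IsEich B g r w c) {a : F} (ha : a ≠ 0) :
    IsEich B g (a • r) ((σ a)⁻¹ • w) (c / (a * σ a)) := by
  obtain ⟨hr, hw, hc, hx⟩ := hg
  have hσ : σ a ≠ 0 := fun e => ha (by rw [← h.conj.invol a, e, map_zero])
  refine ⟨?_, ?_, ?_, fun v => ?_⟩
  · rw [h.smul_self, hr, mul_zero]
  · simp [map_smulₛₗ, hw]
  · rw [h.smul_self, map_div₀, map_mul, map_inv₀, h.conj.invol]
    field_simp
    linear_combination hc
  · rw [hx]
    simp only [map_smulₛₗ, LinearMap.smul_apply, smul_eq_mul, map_inv₀, h.conj.invol]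
    match_scalars <;> field_simp

theorem IsEich.shift {g : isomGroup B} {r w : V} {c : F} (hg : IsEich B g r w c) (μ : F) :
    IsEich B g r (w + μ • r) (c - μ + σ μ) := by
  obtain ⟨hr, hw, hc, hx⟩ := hg
  have hwr : B w r = 0 := h.isRefl _ _ hw
  refine ⟨hr, by simp [hw, hr], ?_, fun v => ?_⟩
  · simp only [map_add, map_sub, map_smul, map_smulₛₗ, LinearMap.add_apply, LinearMap.smul_apply, hr, hw,
      hwr, h.conj.invol, smul_eq_mul, mul_zero, add_zero]
    linear_combination hc
  · rw [hx]
    simp only [map_add, map_smulₛₗ, LinearMap.add_apply, LinearMap.smul_apply, smul_eq_mul]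
    module

theorem IsEich.swap {g : isomGroup B} {r w : V} (hg : IsEich B g r w 0) : IsEich B g w (-r) 0 := by
  obtain ⟨hr, hw, hc, hx⟩ := hg
  have hww : B w w = 0 := by simpa using hc
  refine ⟨hww, by rw [map_neg, h.isRefl _ _ hw, neg_zero], ?_, fun v => ?_⟩
  · simp [hr]
  · rw [hx]
    simp only [map_neg, LinearMap.neg_apply]
    module

variable [Finite F] [FiniteDimensional F V]

theorem exists_isEich (hN : B.SeparatingRight) {r w : V} {c : F} (hr : B r r = 0) (hw : B r w = 0)
    (hc : c + σ c = -B w w) : ∃ g : isomGroup B, IsEich B g r w c := by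
  have hwr : B w r = 0 := h.isRefl _ _ hw
  obtain ⟨g, hg⟩ := h.exists_of_preserving hN
    (LinearMap.id + (B r).smulRight w + (c • B r - B w).smulRight r) fun x y => by
    simp only [LinearMap.add_apply, LinearMap.id_apply, LinearMap.smulRight_apply, LinearMap.sub_apply,
      LinearMap.smul_apply, map_add, map_sub, map_smul, map_smulₛₗ, map_mul, smul_eq_mul, RingHom.id_apply,
      h.symm, hr, hw, hwr]
    linear_combination (B x r * B r y) * hc
  exact ⟨g, hr, hw, hc, fun v => by rw [hg]; simp⟩

/-- Eichler transformations are special. -/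
theorem IsEich.det {g : isomGroup B} {r w : V} {c : F} (hg : IsEich B g r w c) : idet B g = 1 := by
  obtain ⟨hr, hw, hc, hx⟩ := hg
  have hwr : B w r = 0 := h.isRefl _ _ hw
  have e : (g.1 : V →ₗ[F] V) =
      LinearMap.transvection ((-σ c) • B r - B w) r * LinearMap.transvection (B r) w := by
    refine LinearMap.ext fun v => ?_
    change g.1 v = _
    rw [hx]
    simp only [Module.End.mul_apply, LinearMap.transvection.apply, LinearMap.sub_apply, LinearMap.smul_apply,
      map_add, map_smul, smul_eq_mul, hw]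
    match_scalars <;> try ring
    linear_combination (B r v) * hc
  change LinearMap.det (g.1 : V →ₗ[F] V) = 1
  rw [e, map_mul, LinearMap.transvection.det, LinearMap.transvection.det]
  simp [hr, hw, hwr]

theorem IsEich.mem_sIsom {g : isomGroup B} {r w : V} {c : F} (hg : IsEich B g r w c) : g ∈ sIsom B :=
  MonoidHom.mem_ker.2 (hg.det h)

end CfsgLib.KnownA.MinIndexUnitary
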