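import Cfsg.Agent.Lib.KnownA.MinIndexUnitary.Act

/-!
# Minimal index in unitary groups: arguments over all isotropic points
-/

set_option autoImplicit false
set_option linter.unusedSectionVars false

open Module CfsgLib.Classical Finset
open scoped LinearAlgebra.Projectivization

namespace CfsgLib.KnownA.MinIndexUnitary

variable {F W : Type*} [Field F] [Fintype F] [DecidableEq F] [AddCommGroup W] [Module F W]
  [FiniteDimensional F W] [Fintype W] [DecidableEq W] {σ : F →+* F} {B₀ : W →ₛₗ[σ] W →ₗ[F] F} {q : ℕ}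
  {Ω : Type*} [Fintype Ω] [DecidableEq Ω]

namespace Act

variable (A : Act B₀ q Ω)

/-- Fixed by all Eichler transformations at `d`. -/
def FS (ω : Ω) (d : W × (F × F)) : Prop :=
  ∀ (g : Gp B₀) (u : W × (F × F)) (c : F), IsEich (hypExt B₀) g.1 d u c → A.π g ω = ω

/-- Fixed by all transvections at `d`. -/
def FT (ω : Ω) (d : W × (F × F)) : Prop :=
  ∀ (g : Gp B₀) (c : F), IsUTv g.1 d c → A.π g ω = ω

theorem FT_of_FS {ω : Ω} {d : W × (F × F)} (h : A.FS ω d) : A.FT ω d :=
  fun g c hg => h g 0 c (isEich_of_isUTv hg)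

theorem FS_ee {ω : Ω} : A.FS ω ee ↔ ∀ p ∈ A.par, A.act p ω = ω := by
  constructor
  · exact fun h p hp => h _ _ _ (A.S.x_spec (A.mem_par.1 hp))
  · intro h g u c hg
    obtain ⟨c', hc', rfl⟩ := A.S.x_of_eich hg
    exact h (u.1, c') (A.mem_par.2 hc')

theorem FT_ee {ω : Ω} : A.FT ω ee ↔ A.ZF ω := by
  constructor
  · intro h c hc
    refine h _ c (IsEich.isUTv ?_)
    have := A.S.x_spec (A.S.ok_zero.2 hc)
    rwa [map_zero] at this
  · intro h g c hg
    obtain ⟨c', hc', rfl⟩ := A.S.x_of_eich (isEich_of_isUTv hg)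
    exact h c' (A.S.ok_zero.1 hc')

theorem FS_smul {ω : Ω} {d : W × (F × F)} {t : F} (ht : t ≠ 0) : A.FS ω (t • d) ↔ A.FS ω d := by
  constructor
  · exact fun h g u c hg => h g _ _ (hg.scale A.S.hV ht)
  · intro h g u c hg
    have h2 := hg.scale A.S.hV (inv_ne_zero ht)
    rw [smul_smul, inv_mul_cancel₀ ht, one_smul] at h2
    exact h g _ _ h2

theorem FT_smul {ω : Ω} {d : W × (F × F)} {t : F} (ht : t ≠ 0) : A.FT ω (t • d) ↔ A.FT ω d := by
  constructor
  · exact fun h g c hg => h g _ (hg.smul A.S.conj.invol ht)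
  · intro h g c hg
    have h2 := hg.smul A.S.conj.invol (inv_ne_zero ht)
    rw [smul_smul, inv_mul_cancel₀ ht, one_smul] at h2
    exact h g _ h2

theorem FS_map (k : Gp B₀) {ω : Ω} {d : W × (F × F)} : A.FS (A.π k ω) (k.1.1 d) ↔ A.FS ω d := by
  constructor
  · intro h g u c hg
    have := h (k * g * k⁻¹) (k.1.1 u) c (hg.conj k.1)
    simpa [map_mul, map_inv] using this
  · intro h g u c hg
    have h2 := hg.conj k⁻¹.1
    rw [show (k⁻¹.1).1 (k.1.1 d) = d from k.1.1.symm_apply_apply d] at h2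
    have := h (k⁻¹ * g * k⁻¹⁻¹) _ c h2
    simp only [inv_inv, map_mul, map_inv, Equiv.Perm.mul_apply, Equiv.Perm.inv_eq_iff_eq] at this
    exact this

theorem FT_map (k : Gp B₀) {ω : Ω} {d : W × (F × F)} : A.FT (A.π k ω) (k.1.1 d) ↔ A.FT ω d := by
  constructor
  · intro h g c hg
    have := h (k * g * k⁻¹) c (hg.conj k.1)
    simpa [map_mul, map_inv] using this
  · intro h g c hg
    have h2 := hg.conj k⁻¹.1
    rw [show (k⁻¹.1).1 (k.1.1 d) = d from k.1.1.symm_apply_apply d] at h2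
    have := h (k⁻¹ * g * k⁻¹⁻¹) c h2
    simp only [inv_inv, map_mul, map_inv, Equiv.Perm.mul_apply, Equiv.Perm.inv_eq_iff_eq] at this
    exact this

theorem FT_conj_ee {ω : Ω} {d : W × (F × F)} (hd : hypExt B₀ d d = 0) (hd0 : d ≠ 0) :
    ∃ k : Gp B₀, A.FT ω d ↔ A.ZF (A.π k ω) := by
  obtain ⟨k, l, hl, hk⟩ := A.S.exists_to_ee hd hd0
  exact ⟨k, by rw [← A.FT_map k, hk, A.FT_smul hl, A.FT_ee]⟩

/-- A point fixed by every transvection is impossible. -/
theorem not_all_FT {ω : Ω} (h : ∀ d, hypExt B₀ d d = 0 → d ≠ 0 → A.FT ω d) : False := by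
  let H : Subgroup (Gp B₀) :=
    { carrier := {g | A.π g ω = ω}
      one_mem' := by simp
      mul_mem' := fun {a b} ha hb => by
        show A.π (a * b) ω = ω
        rw [map_mul, Equiv.Perm.mul_apply, hb, ha]
      inv_mem' := fun {a} ha => by
        show A.π a⁻¹ ω = ω
        rw [map_inv, Equiv.Perm.inv_eq_iff_eq]
        exact ha.symm }
  have hH : ∀ g : Gp B₀, g ∈ H := by
    intro g
    have hg : g.1 ∈ tGroup (hypExt B₀) :=
      A.S.hV.sIsom_eq_tGroup A.S.hNV (fun _ => Or.inr A.S.four) ▸ g.2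
    have hle : tGroup (hypExt B₀) ≤ H.map (sIsom (hypExt B₀)).subtype := by
      refine (Subgroup.closure_le _).2 ?_
      rintro x ⟨v, c, hx⟩
      refine ⟨⟨x, MonoidHom.mem_ker.2 (A.S.hV.idet_uTv hx)⟩, ?_, rfl⟩
      by_cases hv : v = 0
      · have : (⟨x, MonoidHom.mem_ker.2 (A.S.hV.idet_uTv hx)⟩ : Gp B₀) = 1 :=
          Subtype.ext (Subtype.ext (LinearEquiv.ext fun y => by
            show x.1 y = y
            rw [hx.2.2, hv]
            simp))
        rw [this]
        exact one_mem _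
      · exact h v hx.1 hv _ c hx
    obtain ⟨g', hg', e⟩ := hle hg
    exact (Subtype.ext e : g' = g) ▸ hg'
  obtain ⟨a, b, hab⟩ := A.two
  obtain ⟨g, rfl⟩ := A.trans ω a
  obtain ⟨g', rfl⟩ := A.trans ω b
  exact hab ((hH g).trans (hH g').symm)

/-- The centre of the radical moves some point. -/
theorem exists_mvd : ∃ ω : Ω, ¬ A.ZF ω := by
  by_contra! hall
  obtain ⟨a, -⟩ := A.two
  refine A.not_all_FT (ω := a) fun d hd hd0 => ?_
  obtain ⟨k, hk⟩ := A.FT_conj_ee (ω := a) hd hd0
  exact hk.2 (hall _)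

/-- Double counting the incidences between points and isotropic points. -/
theorem card_dvd : Fintype.card Ω ∣ Nat.card (IsoPts (hypExt B₀)) *
    Nat.card {ω : Ω // A.ZF ω} := by
  classical
  have : Finite (ℙ F (W × (F × F))) := Quotient.finite _
  have := Fintype.ofFinite (IsoPts (hypExt B₀))
  obtain ⟨ω₀, -⟩ := A.two
  have hrep : ∀ (k : Gp B₀) (p : IsoPts (hypExt B₀)),
      ∃ t : F, t ≠ 0 ∧ (k • p).1.rep = t • k.1.1 p.1.rep := by
    intro k p
    have h : (k • p).1 = Projectivization.mk F (k.1.1 p.1.rep) (by simpa using p.1.rep_nonzero) := by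
      show k • p.1 = _
      conv_lhs => rw [← Projectivization.mk_rep p.1]
      exact sIsom_smul_mk k p.1.rep_nonzero
    obtain ⟨a, ha⟩ := Projectivization.exists_smul_eq_mk_rep F (k.1.1 p.1.rep)
      (by simpa using p.1.rep_nonzero)
    refine ⟨a, a.ne_zero, ?_⟩
    rw [h, ← ha]
    rfl
  have hconst : ∀ ω, (univ.filter fun p : IsoPts (hypExt B₀) => A.FT ω p.1.rep).card =
      (univ.filter fun p : IsoPts (hypExt B₀) => A.FT ω₀ p.1.rep).card := by
    intro ω
    obtain ⟨k, rfl⟩ := A.trans ω₀ ω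
    refine (Finset.card_equiv (MulAction.toPerm k) fun p => ?_).symm
    obtain ⟨t, ht, he⟩ := hrep k p
    simp only [mem_filter, mem_univ, true_and, MulAction.toPerm_apply, he, A.FT_smul ht, A.FT_map]
  have hpt : ∀ p : IsoPts (hypExt B₀), (univ.filter fun ω => A.FT ω p.1.rep).card =
      Nat.card {ω : Ω // A.ZF ω} := by
    intro p
    obtain ⟨k, l, hl, hk⟩ := A.S.exists_to_ee p.2 p.1.rep_nonzero
    rw [Nat.card_eq_fintype_card, Fintype.card_subtype]
    refine Finset.card_equiv (A.π k) fun ω => ?_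
    simp only [mem_filter, mem_univ, true_and]
    rw [← A.FT_map k, hk, A.FT_smul hl, A.FT_ee]
  have key : ∑ ω : Ω, (univ.filter fun p : IsoPts (hypExt B₀) => A.FT ω p.1.rep).card =
      ∑ p : IsoPts (hypExt B₀), (univ.filter fun ω => A.FT ω p.1.rep).card := by
    simp only [Finset.card_filter]
    exact Finset.sum_comm
  rw [Finset.sum_congr rfl fun ω _ => hconst ω, Finset.sum_congr rfl fun p _ => hpt p,
    Finset.sum_const, Finset.sum_const, smul_eq_mul, smul_eq_mul, Finset.card_univ, Finset.card_univ] at key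
  rw [Nat.card_eq_fintype_card (α := IsoPts (hypExt B₀)), ← key]
  exact dvd_mul_right _ _

end Act

end CfsgLib.KnownA.MinIndexUnitary
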