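import Cfsg.Agent.Lib.KnownA.MinIndexUnitary.Regular
import Cfsg.Agent.Lib.KnownA.MinIndexUnitary.Global

/-!
# Minimal index in unitary groups: the radical has no fixed points
-/

set_option autoImplicit false
set_option linter.unusedSectionVars false

open Module CfsgLib.Classical Finset

namespace CfsgLib.KnownA.MinIndexUnitary

variable {F W : Type*} [Field F] [Fintype F] [DecidableEq F] [AddCommGroup W] [Module F W]
  [FiniteDimensional F W] [Fintype W] [DecidableEq W] {σ : F →+* F} {B₀ : W →ₛₗ[σ] W →ₗ[F] F} {q : ℕ}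
  {Ω : Type*} [Fintype Ω] [DecidableEq Ω]

namespace Act

variable (A : Act B₀ q Ω) {M : ℕ} (hM : Num B₀ q M) (hn : Fintype.card Ω < M)
include hM hn

theorem card_split : Fintype.card Ω = q * Fintype.card W + ∑ O ∈ A.fxd, O.card := by
  classical
  obtain ⟨ω, hω⟩ := A.exists_mvd
  obtain ⟨hc, huniq, -⟩ := A.mvd_regular hM hn hω
  have h : A.mvd = {A.orb ω} := by
    ext O
    rw [mem_singleton]
    constructor
    · intro hO
      obtain ⟨ν, rfl, hν⟩ := A.exists_of_mvd hO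
      exact huniq ν hν
    · rintro rfl
      exact A.mem_mvd.2 hω
  rw [A.card_eq_sum, h, Finset.sum_singleton, hc]

theorem sum_annO_fxd : ∑ O ∈ A.fxd, (A.annO O).card = ∑ O ∈ A.fxd, O.card := by
  refine Finset.sum_congr rfl fun O hO => ?_
  obtain ⟨ω, rfl, h⟩ := A.exists_of_fxd hO
  rw [A.annO_orb, A.card_orb_ZF h]

theorem fxd_bounds : (q ^ 2 - 1) * ∑ O ∈ A.fxd, O.card < q ^ 2 * (nsSet B₀).card ∧
    (q ^ 2 - 1) * ∑ O ∈ A.fxd, O.card ≤ q ^ 2 * (isoSet B₀).card ∧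
    ∑ O ∈ A.fxd, O.card < Fintype.card W := by
  have h := A.card_split hM hn
  have hq := A.S.q_two
  set R := ∑ O ∈ A.fxd, O.card
  have h1 : (q ^ 2 - 1) * (q * Fintype.card W + 1 + R) ≤ (q ^ 2 - 1) * M := Nat.mul_le_mul_left _ (by omega)
  rw [Nat.mul_add (q ^ 2 - 1)] at h1
  have h2 := hM.fxNs
  have h3 := hM.fxIso
  have h4 := hM.up
  rw [Nat.add_mul, one_mul] at h4
  exact ⟨by omega, by omega, by omega⟩

theorem small_fxd {u : W} (hu : B₀ u u ≠ 0) : (A.above A.fxd u).card ≤ 1 := by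
  by_contra hc
  have h1 := (A.above_mul_ns A.stable_fxd hu).trans (A.sum_above_le _ _)
  rw [A.sum_annO_fxd hM hn] at h1
  have h2 := (A.fxd_bounds hM hn).1
  have hq : 4 ≤ q ^ 2 := Nat.pow_le_pow_left A.S.q_two 2
  obtain ⟨r, hr⟩ : ∃ r, q ^ 2 = r + 1 := ⟨q ^ 2 - 1, by omega⟩
  rw [hr] at h2 hq
  rw [Nat.add_sub_cancel] at h2
  have h4 := Nat.mul_le_mul_right (nsSet B₀).card (show 2 ≤ (A.above A.fxd u).card by omega)
  have h5 := Nat.mul_le_mul_left r (h4.trans h1)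
  have h6 : 3 * (nsSet B₀).card ≤ r * (nsSet B₀).card := Nat.mul_le_mul_right _ (by omega)
  nlinarith

theorem fxd_singular {ω : Ω} (hω : A.ZF ω) {v : W} (hv : v ∈ A.ann ω) : B₀ v v = 0 := by
  classical
  by_contra hv0
  have hq := A.S.q_two
  obtain ⟨hR, -, hRX⟩ := A.fxd_bounds hM hn
  -- every annihilator with a non-isotropic vector is small
  have hsmall : ∀ ν, A.ZF ν → ∀ u ∈ A.ann ν, B₀ u u ≠ 0 → (A.ann ν).card ≤ q ^ 2 := by
    intro ν hν u hu hu0
    have hcl := A.ann_closed A.stable_fxd (fun w hw => Or.inl (A.small_fxd hM hn hw)) (A.mem_fxd.2 hν)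
    rcases A.S.closed_dichotomy hcl (u := u) hu hu0 with h | h
    · rw [← A.S.hF]
      exact card_span_singleton_le u _ fun y hy => h y hy
    · exfalso
      have h1 : (A.orb ν).card ≤ ∑ O ∈ A.fxd, O.card :=
        Finset.single_le_sum (f := fun O => O.card) (fun _ _ => Nat.zero_le _) (A.mem_fxd.2 hν)
      rw [A.card_orb_ZF hν, show A.ann ν = univ from eq_univ_of_forall fun y =>
        show y ∈ A.annGrp ν from h ▸ AddSubgroup.mem_top y, Finset.card_univ] at h1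
      omega
  have h1 : (nsSet B₀).card ≤ ∑ O ∈ A.fxd, (nsSet B₀ ∩ A.annO O).card := by
    rw [← A.sum_above', Finset.card_eq_sum_ones]
    refine Finset.sum_le_sum fun y hy => ?_
    have h1 : 1 ≤ (A.above A.fxd v).card := Finset.card_pos.2 ⟨_, A.mem_above.2 ⟨A.mem_fxd.2 hω, hv⟩⟩
    exact h1.trans (A.above_const_ns A.stable_fxd hv0 (mem_nsSet.1 hy))
  have h2 : ∀ O ∈ A.fxd, q ^ 2 * (nsSet B₀ ∩ A.annO O).card ≤ (q ^ 2 - 1) * O.card := by
    intro O hO
    obtain ⟨ν, rfl, hν⟩ := A.exists_of_fxd hO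
    rw [A.annO_orb, A.card_orb_ZF hν]
    rcases (nsSet B₀ ∩ A.ann ν).eq_empty_or_nonempty with he | ⟨u, hu⟩
    · simp [he]
    rw [mem_inter, mem_nsSet] at hu
    have h3 := hsmall ν hν u hu.2 hu.1
    have h4 : (nsSet B₀ ∩ A.ann ν).card + 1 ≤ (A.ann ν).card := by
      refine Finset.card_lt_card (Finset.ssubset_iff_subset_ne.2 ⟨Finset.inter_subset_right, fun e => ?_⟩)
      have := e.symm ▸ A.zero_mem ν
      rw [mem_inter, mem_nsSet] at this
      simp at this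
    obtain ⟨r, hr⟩ : ∃ r, q ^ 2 = r + 1 := ⟨q ^ 2 - 1, by
      have : 4 ≤ q ^ 2 := Nat.pow_le_pow_left hq 2
      omega⟩
    rw [hr] at h3 ⊢
    rw [Nat.add_sub_cancel]
    nlinarith
  have h3 := Finset.sum_le_sum h2
  rw [← Finset.mul_sum, ← Finset.mul_sum] at h3
  have := Nat.mul_le_mul_left (q ^ 2) h1
  omega

theorem small_fxd_iso {a : W} (ha : a ∈ isoSet B₀) : (A.above A.fxd a).card ≤ 1 := by
  by_contra hc
  have h1 := (A.above_mul_iso A.stable_fxd ha).trans (A.sum_above_le _ _)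
  rw [A.sum_annO_fxd hM hn] at h1
  have h2 := (A.fxd_bounds hM hn).2.1
  have hq : 4 ≤ q ^ 2 := Nat.pow_le_pow_left A.S.q_two 2
  have h3 : 0 < (isoSet B₀).card := Finset.card_pos.2 ⟨a, ha⟩
  obtain ⟨r, hr⟩ : ∃ r, q ^ 2 = r + 1 := ⟨q ^ 2 - 1, by omega⟩
  rw [hr] at h2 hq
  rw [Nat.add_sub_cancel] at h2
  have h4 := Nat.mul_le_mul_right (isoSet B₀).card (show 2 ≤ (A.above A.fxd a).card by omega)
  have h5 := Nat.mul_le_mul_left r (h4.trans h1)
  nlinarith

/-- An orbit above an isotropic vector is moved by no isometry fixing the vector. -/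
theorem fxd_stab {ω : Ω} (hω : A.ZF ω) {a b : W} (ha : a ∈ A.ann ω) (ha0 : a ≠ 0) (hb : b ∈ A.ann ω)
    {τ : isomGroup B₀} (hτ : idet B₀ τ = 1) (hτa : τ.1 a = a) : τ.1 b - b ∈ A.ann ω := by
  have haI : a ∈ isoSet B₀ := mem_isoSet.2 ⟨ha0, A.fxd_singular hM hn hω ha⟩
  have hO : A.orb ω ∈ A.above A.fxd a := A.mem_above.2 ⟨A.mem_fxd.2 hω, ha⟩
  have h1 := Finset.card_le_one.1 (A.small_fxd_iso hM hn haI) _
    (A.levImage_mem A.stable_fxd hτ hτa hO) _ hO
  rw [A.levImage_eq hτ, ← A.orb_moves (lev_one hτ)] at h1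
  have h2 := (A.ann_moves (lev_one hτ) (ω := ω) (y := b)).1 hb
  rw [inv_one, one_smul, A.ann_eq (h1 ▸ A.self_mem _)] at h2
  exact A.ann_sub h2 hb

theorem fxd_orth {ω : Ω} (hω : A.ZF ω) {a b : W} (ha : a ∈ A.ann ω) (hb : b ∈ A.ann ω) : B₀ a b = 0 := by
  by_contra hab
  have ha0 : a ≠ 0 := fun e => hab (by rw [e, map_zero, LinearMap.zero_apply])
  have haa := A.fxd_singular hM hn hω ha
  obtain ⟨f, -, -, haf⟩ := A.S.h.exists_partner A.S.top trivial ha0 haa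
  have hdP := (A.S.h.nondegOn_hyp haa haf).finrank_perp
  rw [A.S.h.finrank_hyp haa haf] at hdP
  have h3 := A.S.three
  obtain ⟨w, hw, hww⟩ := A.S.h.exists_unit_in
    (nondegOn_perp A.S.hN (A.S.h.nondegOn_hyp haa haf)) (by omega) (map_one σ)
  have haw : B₀ a w = 0 := mem_perp_span.1 hw a (by simp)
  obtain ⟨c, hc⟩ := A.S.exists_ok w
  obtain ⟨g, hg⟩ := exists_isEich A.S.h A.S.hN haa haw hc
  have hga : g.1 a = a := by
    rw [hg.2.2.2, haa, A.S.h.isRefl _ _ haw]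
    simp
  have h1 := A.fxd_singular hM hn hω (A.fxd_stab hM hn hω ha ha0 hb (hg.det A.S.h) hga)
  rw [hg.2.2.2 b] at h1
  simp [map_smulₛₗ, haa, haw, A.S.h.isRefl _ _ haw, hww, hab] at h1

theorem fxd_line {ω : Ω} (hω : A.ZF ω) {a b : W} (ha : a ∈ A.ann ω) (ha0 : a ≠ 0) (hb : b ∈ A.ann ω) :
    b ∈ Submodule.span F {a} := by
  by_contra hmem
  have hbb := A.fxd_singular hM hn hω hb
  have hba := A.fxd_orth hM hn hω hb ha
  obtain ⟨u', hu', hbu', hau'⟩ := A.S.h.exists_partner_orth A.S.hN hbb hba hmem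
  obtain ⟨δ, hδ, hδ'⟩ := A.S.conj.exists_trace_zero
  obtain ⟨g, hg⟩ := A.S.h.exists_uTv A.S.hN hu' hδ'
  have hga : g.1 a = a := by rw [hg.2.2, A.S.h.isRefl _ _ hau', mul_zero, zero_smul, add_zero]
  have h1 := A.fxd_orth hM hn hω hb (A.fxd_stab hM hn hω ha ha0 hb (A.S.h.idet_uTv hg) hga)
  have hub : B₀ u' b = 1 := by rw [← A.S.h.symm, hbu', map_one]
  rw [hg.2.2 b, hub, mul_one, add_sub_cancel_left, map_smul, smul_eq_mul, hbu', mul_one] at h1
  exact hδ h1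

/-- The annihilators of fixed orbits vanish. -/
theorem fxd_ann_zero {ω : Ω} (hω : A.ZF ω) {a : W} (ha : a ∈ A.ann ω) : a = 0 := by
  classical
  by_contra ha0
  have haI : a ∈ isoSet B₀ := mem_isoSet.2 ⟨ha0, A.fxd_singular hM hn hω ha⟩
  have h1 : (isoSet B₀).card ≤ ∑ O ∈ A.fxd, (isoSet B₀ ∩ A.annO O).card := by
    rw [← A.sum_above', Finset.card_eq_sum_ones]
    refine Finset.sum_le_sum fun y hy => ?_
    have h1 : 1 ≤ (A.above A.fxd a).card := Finset.card_pos.2 ⟨_, A.mem_above.2 ⟨A.mem_fxd.2 hω, ha⟩⟩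
    exact h1.trans (A.above_const_iso A.stable_fxd haI hy)
  have hq : 4 ≤ q ^ 2 := Nat.pow_le_pow_left A.S.q_two 2
  have h2 : ∀ O ∈ A.fxd, q ^ 2 * (isoSet B₀ ∩ A.annO O).card ≤ (q ^ 2 - 1) * O.card := by
    intro O hO
    obtain ⟨ν, rfl, hν⟩ := A.exists_of_fxd hO
    rw [A.annO_orb, A.card_orb_ZF hν]
    rcases (isoSet B₀ ∩ A.ann ν).eq_empty_or_nonempty with he | ⟨u, hu⟩
    · simp [he]
    rw [mem_inter, mem_isoSet] at hu
    have h3 : (A.ann ν).card ≤ q ^ 2 := by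
      rw [← A.S.hF]
      exact card_span_singleton_le u _ fun y hy => A.fxd_line hM hn hν hu.2 hu.1.1 hy
    have h4 : (isoSet B₀ ∩ A.ann ν).card + 1 ≤ (A.ann ν).card := by
      refine Finset.card_lt_card (Finset.ssubset_iff_subset_ne.2 ⟨Finset.inter_subset_right, fun e => ?_⟩)
      have := e.symm ▸ A.zero_mem ν
      rw [mem_inter, mem_isoSet] at this
      exact this.1.1 rfl
    obtain ⟨r, hr⟩ : ∃ r, q ^ 2 = r + 1 := ⟨q ^ 2 - 1, by omega⟩
    rw [hr] at h3 ⊢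
    rw [Nat.add_sub_cancel]
    nlinarith
  have h3 := Finset.sum_le_sum h2
  rw [← Finset.mul_sum, ← Finset.mul_sum] at h3
  have h4 := Nat.mul_le_mul_left (q ^ 2) h1
  have h5 := (A.fxd_bounds hM hn).2.1
  set R := ∑ O ∈ A.fxd, O.card with hRdef
  have heq : (q ^ 2 - 1) * R = q ^ 2 * (isoSet B₀).card := by omega
  have hsplit := A.card_split hM hn
  rw [← hRdef] at hsplit
  have hN1 : Nat.card (IsoPts (hypExt B₀)) = Fintype.card Ω + 1 := by
    refine Nat.eq_of_mul_eq_mul_left (show 0 < q ^ 2 - 1 by omega) ?_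
    rw [hM.tot, ← heq, hsplit]
    ring
  have hR : Nat.card {ν : Ω // A.ZF ν} = R := by
    have h1 := Finset.card_biUnion (t := id) (A.disjoint_orbs A.fxd_subset)
    simp only [id] at h1
    rw [Nat.card_eq_fintype_card, Fintype.card_subtype, hRdef, ← h1]
    congr 1
    ext ν
    simp only [mem_filter, mem_univ, true_and, mem_biUnion]
    constructor
    · exact fun h => ⟨_, A.mem_fxd.2 h, A.self_mem ν⟩
    · rintro ⟨O, hO, hν⟩
      obtain ⟨μ, rfl, hμ⟩ := A.exists_of_fxd hO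
      exact (A.ZF_eq hν).2 hμ
  have hdvd := A.card_dvd
  rw [hN1, hR, Nat.add_mul, one_mul] at hdvd
  have hdvd' : Fintype.card Ω ∣ R := (Nat.dvd_add_right (dvd_mul_right _ _)).1 hdvd
  have hR0 : 0 < R := by
    rcases Nat.eq_zero_or_pos R with h0 | h0
    · rw [h0, mul_zero] at heq
      have : 0 < q ^ 2 * (isoSet B₀).card := Nat.mul_pos (by omega) (Finset.card_pos.2 ⟨a, haI⟩)
      omega
    · exact h0
  have hle := Nat.le_of_dvd hR0 hdvd'
  have hX : 0 < q * Fintype.card W := Nat.mul_pos (by have := A.S.q_two; omega) Fintype.card_pos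
  omega

/-- A point fixed by a non-trivial element of the radical is fixed by all of it. -/
theorem fix_all {ω : Ω} {p : W × F} (hp : p ∈ A.stabPar ω) (hp0 : p ≠ (0, 0)) : A.FS ω ee := by
  rw [A.FS_ee]
  intro r hr
  by_cases hω : A.ZF ω
  swap
  · exact absurd ((A.mvd_regular hM hn hω).2.2 p hp) hp0
  have h1 : A.ann ω = {0} := by
    refine Finset.eq_singleton_iff_unique_mem.2 ⟨A.zero_mem ω, fun y hy => A.fxd_ann_zero hM hn hω hy⟩
  have h2 := A.card_orb_ZF hω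
  rw [h1, Finset.card_singleton] at h2
  obtain ⟨z, hz⟩ := Finset.card_eq_one.1 h2
  have e1 : A.act r ω ∈ A.orb ω := A.mem_orb.2 ⟨r, hr, rfl⟩
  have e2 := A.self_mem ω
  rw [hz, mem_singleton] at e1 e2
  rw [e1, e2]

theorem fix_eich {g : Gp B₀} {d u : W × (F × F)} {c : F} (hg : IsEich (hypExt B₀) g.1 d u c) (hd0 : d ≠ 0)
    (hg1 : g ≠ 1) {ν : Ω} (hν : A.π g ν = ν) : A.FS ν d := by
  obtain ⟨k, l, hl, hk⟩ := A.S.exists_to_ee hg.1 hd0
  rw [← A.FS_map k, hk, A.FS_smul hl]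
  have h1 := (hg.conj k.1).scale A.S.hV (inv_ne_zero hl)
  rw [hk, smul_smul, inv_mul_cancel₀ hl, one_smul] at h1
  obtain ⟨c', hc', he⟩ := A.S.x_of_eich (g := k * g * k⁻¹) h1
  refine A.fix_all hM hn (p := (_, c')) (A.mem_stabPar.2 ⟨A.mem_par.2 hc', ?_⟩) fun e => hg1 ?_
  · show A.π (A.S.x _ c') _ = _
    erw [← he]
    simp [map_mul, map_inv, hν]
  · obtain ⟨e1, e2⟩ := Prod.mk.inj e
    have he' : k * g * k⁻¹ = 1 := (he.trans (congrArg₂ A.S.x e1 e2)).trans A.S.x_zero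
    rwa [conj_eq_one_iff] at he'

theorem edge {d d' : W × (F × F)} (hd : hypExt B₀ d d = 0) (hd' : hypExt B₀ d' d' = 0)
    (hdd : hypExt B₀ d d' = 0) (hd0 : d ≠ 0) (hd0' : d' ≠ 0) (hli : d' ∉ Submodule.span F {d}) {ν : Ω}
    (hν : A.FS ν d) : A.FS ν d' := by
  obtain ⟨g, hg⟩ := exists_isEich A.S.hV A.S.hNV (c := 0) hd hdd (by rw [hd']; simp)
  set g' : Gp B₀ := ⟨g, hg.mem_sIsom A.S.hV⟩
  refine A.fix_eich hM hn (g := g') (hg.swap A.S.hV) hd0' (fun e => hli ?_) (hν g' _ _ hg)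
  obtain ⟨s, hs⟩ : ∃ s, hypExt B₀ d s ≠ 0 := by
    by_contra! hall
    exact hd0 (A.S.hNV d fun x => A.S.hV.isRefl _ _ (hall x))
  have h1 := hg.2.2.2 s
  rw [show g.1 s = s from by
    have : g = 1 := congrArg Subtype.val e
    rw [this]; rfl] at h1
  refine Submodule.mem_span_singleton.2 ⟨hypExt B₀ d' s / hypExt B₀ d s, ?_⟩
  rw [zero_mul, zero_sub, neg_smul, ← sub_eq_add_neg] at h1
  have h2 : hypExt B₀ d s • d' = hypExt B₀ d' s • d := by
    rw [add_sub_assoc, left_eq_add, sub_eq_zero] at h1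
    exact h1
  rw [div_eq_inv_mul, mul_smul, ← h2, smul_smul, inv_mul_cancel₀ hs, one_smul]

/-- No point is fixed by the radical. -/
theorem no_fixed {ω : Ω} {p : W × F} (hp : p ∈ A.stabPar ω) : p = (0, 0) := by
  by_contra hp0
  have hee := A.fix_all hM hn hp hp0
  refine A.not_all_FT (ω := ω) fun d hd hd0 => A.FT_of_FS ?_
  by_cases hpol : hypExt B₀ ee d = 0
  · by_cases hmem : d ∈ Submodule.span F {(ee : W × (F × F))}
    · obtain ⟨t, rfl⟩ := Submodule.mem_span_singleton.1 hmem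
      exact (A.FS_smul (fun e => hd0 (by rw [e, zero_smul]))).2 hee
    · exact A.edge hM hn (b_ee_ee B₀) hd hpol ee_ne_zero hd0 hmem hee
  · have hd22 : d.2.2 ≠ 0 := by rwa [b_ee] at hpol
    obtain ⟨r, hr0, hr, hrv⟩ := A.S.exists_iso_perp d.1
    have hri : hypExt B₀ (iw r) (iw r) = 0 := by rw [b_iw_iw, hr]
    have hr0' : (iw r : W × (F × F)) ≠ 0 := fun e => hr0 (congrArg Prod.fst e)
    refine A.edge hM hn hri hd (by rw [b_iw, hrv]) hr0' hd0 ?_
      (A.edge hM hn (b_ee_ee B₀) hri (b_ee_iw B₀ r) ee_ne_zero hr0' ?_ hee)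
    · intro e
      obtain ⟨t, ht⟩ := Submodule.mem_span_singleton.1 e
      have h2 := congrArg (fun z => z.2.2) ht
      simp [iw_apply] at h2
      exact hd22 h2.symm
    · intro e
      obtain ⟨t, ht⟩ := Submodule.mem_span_singleton.1 e
      have h1 := congrArg Prod.fst ht
      simp [iw_apply, ee] at h1
      exact hr0 h1.symm

/-- The radical is regular. -/
theorem regular : Fintype.card Ω = q * Fintype.card W ∧ ∀ ω ν : Ω, ∃ p ∈ A.par, A.act p ω = ν := by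
  obtain ⟨ω₀, h0⟩ := A.exists_mvd
  have hall : ∀ ν : Ω, ¬ A.ZF ν := by
    intro ν hν
    obtain ⟨δ, hδ, hδ'⟩ := A.S.conj.exists_trace_zero
    have h2 := A.no_fixed hM hn (ω := ν) (p := (0, δ))
      (A.mem_stabPar.2 ⟨A.mem_par.2 (A.S.ok_zero.2 hδ'), hν δ hδ'⟩)
    exact hδ (congrArg Prod.snd h2)
  obtain ⟨hc, huniq, -⟩ := A.mvd_regular hM hn h0
  have hsplit := A.card_split hM hn
  have hnone : A.fxd = ∅ := by
    refine Finset.eq_empty_of_forall_notMem fun O hO => ?_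
    obtain ⟨ν, rfl, hν⟩ := A.exists_of_fxd hO
    exact hall ν hν
  refine ⟨by rw [hsplit, hnone, Finset.sum_empty, add_zero], fun ω ν => A.mem_orb.1 ?_⟩
  rw [huniq ω (hall ω), ← huniq ν (hall ν)]
  exact A.self_mem ν

end Act

end CfsgLib.KnownA.MinIndexUnitary
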