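import Cfsg.Agent.Lib.KnownA.MinIndexUnitary.Fixed

/-!
# Minimal index in unitary groups: the regular case is impossible
-/

set_option autoImplicit false
set_option linter.unusedSectionVars false

open Module CfsgLib.Classical Finset
open scoped commutatorElement

namespace CfsgLib.KnownA.MinIndexUnitary

variable {F W : Type*} [Field F] [Fintype F] [DecidableEq F] [AddCommGroup W] [Module F W]
  [FiniteDimensional F W] [Fintype W] [DecidableEq W] {σ : F →+* F} {B₀ : W →ₛₗ[σ] W →ₗ[F] F} {q : ℕ}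

theorem Setup.lev_pow_apply (S : Setup B₀ q) {l : F} {τ : isomGroup B₀} (h : Lev B₀ l τ) (n : ℕ)
    (v : W × (F × F)) :
    (S.lev h ^ n).1.1 v = ((τ ^ n).1 v.1, (l ^ n * v.2.1, (σ l)⁻¹ ^ n * v.2.2)) := by
  induction n generalizing v with
  | zero => simp
  | succ n ih =>
    rw [pow_succ]
    change (S.lev h ^ n).1.1 ((S.lev h).1.1 v) = _
    rw [S.lev_apply, ih, pow_succ τ, pow_succ l, pow_succ (σ l)⁻¹]
    simp [mul_assoc]

theorem Setup.lev_pow_one (S : Setup B₀ q) {l : F} {τ : isomGroup B₀} (h : Lev B₀ l τ) {n : ℕ}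
    (hl : l ^ n = 1) (hτ : τ ^ n = 1) : S.lev h ^ n = 1 :=
  Subtype.ext (Subtype.ext (LinearEquiv.ext fun v => by
    rw [S.lev_pow_apply, hl, hτ, inv_pow, ← map_pow, hl, map_one]
    simp))

theorem Setup.lev_eich (S : Setup B₀ q) {τ : isomGroup B₀} (h : Lev B₀ 1 τ) {r w : W} {c : F}
    (hg : IsEich B₀ τ r w c) : IsEich (hypExt B₀) (S.lev h).1 (iw r) (iw w) c := by
  refine ⟨by rw [b_iw_iw]; exact hg.1, by rw [b_iw_iw]; exact hg.2.1, by rw [b_iw_iw]; exact hg.2.2.1,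
    fun v => ?_⟩
  rw [S.lev_apply, hg.2.2.2, b_iw, b_iw]
  simp [iw_apply, Prod.ext_iff]

theorem Setup.q_dvd_prime (S : Setup B₀ q) {r : ℕ} (hr : r.Prime) (h : r ∣ Fintype.card W * q) : r ∣ q := by
  rcases hr.dvd_mul.1 h with h | h
  · rw [S.card_W, ← pow_mul] at h
    exact hr.dvd_of_dvd_pow h
  · exact h

theorem diag_params {F : Type*} [Field F] {σ : F →+* F} {q : ℕ} (hσ : ∀ x, σ x = x ^ q) (hq : q = 2) {ω : F}
    (hω0 : ω ≠ 0) (hω3 : ω ^ 3 = 1) (hω1 : ω ≠ 1) (hω2 : ω ^ 2 ≠ 1) {d : ℕ} (hd4 : 4 ≤ d) (hd : d = 4 ∨ 7 ≤ d) :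
    ∃ (l : F) (μ : Fin d → F), l ≠ 0 ∧ l ^ 3 = 1 ∧
      (∀ i, μ i ^ 3 = 1) ∧ μ ⟨0, by omega⟩ = μ ⟨1, by omega⟩ ∧ (∏ i, μ i) * l = σ l ∧ (∀ i, σ l * μ i ≠ 1) ∧
      ∃ j, (∀ i, μ (Equiv.swap ⟨0, by omega⟩ ⟨2, by omega⟩ (Equiv.swap ⟨1, by omega⟩ ⟨3, by omega⟩ i)) =
        μ i ^ j) ∧ l = l ^ j := by
  classical
  have hωσ : σ ω = ω ^ 2 := by rw [hσ, hq]
  rcases hd with h4 | h7
  · refine ⟨1, fun i => if i.val < 2 then ω else ω ^ 2, one_ne_zero, one_pow _, fun i => ?_, by simp, ?_, ?_,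
      2, fun i => ?_, (one_pow _).symm⟩
    · dsimp only
      split
      · exact hω3
      · linear_combination (ω ^ 3 + 1) * hω3
    · have e : ∀ (n : ℕ) (hn : n = 4), ∏ i : Fin n, (if i.val < 2 then ω else ω ^ 2) = ω ^ 6 := by
        rintro n rfl
        simp [Fin.prod_univ_four]
        ring
      rw [e d h4, map_one, mul_one]
      linear_combination (ω ^ 3 + 1) * hω3
    · intro i
      rw [map_one, one_mul]
      dsimp only
      split <;> assumption
    · obtain ⟨iv, hiv⟩ := i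
      have : iv = 0 ∨ iv = 1 ∨ iv = 2 ∨ iv = 3 := by omega
      rcases this with rfl | rfl | rfl | rfl <;> simp [Equiv.swap_apply_def]
      all_goals linear_combination -ω * hω3
  · refine ⟨ω, fun i => if d ≤ i.val + 2 then ω ^ 2 else 1, hω0, hω3, fun i => ?_,
      by simp [show ¬ d ≤ 2 by omega, show ¬ d ≤ 1 + 2 by omega], ?_, ?_, 1, fun i => ?_, (pow_one _).symm⟩
    · dsimp only
      split
      · linear_combination (ω ^ 3 + 1) * hω3
      · exact one_pow _
    · have e : (univ.filter fun i : Fin d => d ≤ i.val + 2) = {⟨d - 2, by omega⟩, ⟨d - 1, by omega⟩} := by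
        ext i
        simp only [mem_filter, mem_univ, true_and, mem_insert, mem_singleton, Fin.ext_iff]
        omega
      rw [← Finset.prod_filter, e, Finset.prod_pair (by simp [Fin.ext_iff]; omega), hωσ]
      linear_combination ω ^ 2 * hω3
    · intro i
      dsimp only
      rw [hωσ]
      split
      · intro e
        exact hω1 (by linear_combination e - ω * hω3)
      · rwa [mul_one]
    · rw [pow_one]
      dsimp only
      congr 1
      simp only [Equiv.swap_apply_def, Fin.ext_iff]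
      split_ifs <;> simp_all <;> omega

theorem swap_swap_invol {α : Type*} [DecidableEq α] {a b c e : α} (hac : a ≠ c) (hae : a ≠ e) (hbc : b ≠ c)
    (hbe : b ≠ e) (i : α) :
    Equiv.swap a b (Equiv.swap c e (Equiv.swap a b (Equiv.swap c e i))) = i := by
  have hcomm : ∀ x, Equiv.swap a b (Equiv.swap c e x) = Equiv.swap c e (Equiv.swap a b x) := fun x => by
    rcases eq_or_ne x c with rfl | h1
    · rw [Equiv.swap_apply_left, Equiv.swap_apply_of_ne_of_ne hae.symm hbe.symm,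
        Equiv.swap_apply_of_ne_of_ne hac.symm hbc.symm, Equiv.swap_apply_left]
    rcases eq_or_ne x e with rfl | h2
    · rw [Equiv.swap_apply_right, Equiv.swap_apply_of_ne_of_ne hac.symm hbc.symm,
        Equiv.swap_apply_of_ne_of_ne hae.symm hbe.symm, Equiv.swap_apply_right]
    rw [Equiv.swap_apply_of_ne_of_ne h1 h2]
    rcases eq_or_ne x a with rfl | h3
    · rw [Equiv.swap_apply_left, Equiv.swap_apply_of_ne_of_ne hbc hbe]
    rcases eq_or_ne x b with rfl | h4
    · rw [Equiv.swap_apply_right, Equiv.swap_apply_of_ne_of_ne hac hae]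
    rw [Equiv.swap_apply_of_ne_of_ne h3 h4, Equiv.swap_apply_of_ne_of_ne h1 h2]
  rw [← hcomm (Equiv.swap c e i), Equiv.swap_apply_self, Equiv.swap_apply_self]

theorem exists_monomial (S : Setup B₀ q) {d : ℕ} {b : Basis (Fin d) F W}
    (hb : ∀ i j, B₀ (b i) (b j) = if i = j then 1 else 0) (e : Equiv.Perm (Fin d)) (c : Fin d → F)
    (hc : ∀ i, c i * σ (c i) = 1) : ∃ g : isomGroup B₀, ∀ i, g.1 (b i) = c i • b (e i) := by
  let L := b.constr F fun i => c i • b (e i)
  have hL : ∀ i, L (b i) = c i • b (e i) := fun i => b.constr_basis F _ i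
  obtain ⟨g, hg⟩ := S.h.exists_of_preserving S.hN L fun x y => by
    refine LinearMap.congr_fun (LinearMap.congr_fun (f := (B₀.comp L).compl₂ L) (g := B₀)
      (b.ext fun i => b.ext fun k => ?_) x) y
    change B₀ (L (b i)) (L (b k)) = B₀ (b i) (b k)
    rw [hL, hL]
    simp only [map_smulₛₗ, LinearMap.smul_apply, map_smul, hb, RingHom.id_apply, smul_eq_mul]
    rcases eq_or_ne i k with rfl | hik
    · simp only [if_true, mul_one]
      linear_combination hc i
    · rw [if_neg hik, if_neg (fun h => hik (e.injective h))]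
      simp
  exact ⟨g, fun i => by rw [hg, hL]⟩

namespace Act

variable {Ω : Type*} [Fintype Ω] [DecidableEq Ω] (A : Act B₀ q Ω) {M : ℕ} (hM : Num B₀ q M)
  (hn : Fintype.card Ω < M)
include A hM hn

theorem no_fix_eich {g : Gp B₀} {d u : W × (F × F)} {c : F} (hg : IsEich (hypExt B₀) g.1 d u c) (hd0 : d ≠ 0)
    (hg1 : g ≠ 1) (ν : Ω) : A.π g ν ≠ ν := by
  intro hν
  obtain ⟨k, l, hl, hk⟩ := A.S.exists_to_ee hg.1 hd0
  have h1 := A.fix_eich hM hn hg hd0 hg1 hν
  rw [← A.FS_map k, hk, A.FS_smul hl, A.FS_ee] at h1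
  obtain ⟨δ, hδ, hδ'⟩ := A.S.conj.exists_trace_zero
  have h2 := A.mem_par.2 (A.S.ok_zero.2 hδ' : Ok B₀ ((0 : W), δ).1 ((0 : W), δ).2)
  exact hδ (congrArg Prod.snd (A.no_fixed hM hn (A.mem_stabPar.2 ⟨h2, h1 _ h2⟩)))

theorem act_eq {p r : W × F} (hp : p ∈ A.par) (hr : r ∈ A.par) {ν : Ω} (h : A.act p ν = A.act r ν) :
    p = r := by
  have h1 := A.no_fixed hM hn (ω := ν) (p := pm B₀ (pinv σ r) p)
    (A.mem_stabPar.2 ⟨A.pm_mem (A.pinv_mem hr) hp, by rw [A.act_mul (A.pinv_mem hr) hp, h, A.act_pinv hr]⟩)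
  have hr' := A.mem_par.1 hr
  unfold Ok at hr'
  simp only [pm, pinv, Prod.ext_iff] at h1
  have e1 : p.1 = r.1 := by rw [← neg_add_eq_zero.1 h1.1]
  refine Prod.ext e1 ?_
  have h2 := h1.2
  rw [e1] at h2
  simp only [map_neg, LinearMap.neg_apply] at h2
  linear_combination h2 - hr'

/-- A fixed point free element of the Levi factor forces a commutator with a fixed point. -/
theorem commutator_fixes {l : F} {τ : isomGroup B₀} (hl : Lev B₀ l τ) {r : ℕ} (hr : r.Prime) (hrq : ¬ r ∣ q)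
    (hlr : l ^ r = 1) (hτr : τ ^ r = 1) (hfpf : ∀ w, σ l • τ.1 w = w → w = 0)
    {m s : isomGroup B₀} (hm : idet B₀ m = 1) (hs : idet B₀ s = 1)
    (hmn : ∃ j, τ * m = m * τ ^ j ∧ l = l ^ j) (hsn : ∃ j, τ * s = s * τ ^ j ∧ l = l ^ j)
    (hms : idet B₀ ⁅m, s⁆ = 1) : ∃ ν : Ω, A.π (A.S.lev (lev_one hms)) ν = ν := by
  obtain ⟨hcard, htrans⟩ := A.regular hM hn
  set n₀ := A.S.lev hl
  have hp : ¬ r ∣ Fintype.card Ω := fun h => hrq (A.S.q_dvd_prime hr (by rwa [hcard, mul_comm] at h))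
  haveI : Fact r.Prime := ⟨hr⟩
  obtain ⟨ν, hν⟩ := Equiv.Perm.exists_fixed_point_of_prime (σ := A.π n₀) (n := 1) hp
    (by rw [pow_one, ← map_pow, A.S.lev_pow_one hl hlr hτr, map_one])
  -- the fixed set lies in the orbit of the centre
  have hset : ∀ μ, A.π n₀ μ = μ → ∃ c ∈ traceZero σ, A.act (0, c) ν = μ := by
    intro μ hμ
    obtain ⟨p, hp, rfl⟩ := htrans ν μ
    have h1 := A.act_lev hl hp ν
    rw [show A.π (A.S.lev hl) ν = ν from hν] at h1
    have h2 := A.act_eq hM hn (A.lev_par hl hp) hp (h1.trans hμ)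
    have h3 : p.1 = 0 := hfpf _ (congrArg Prod.fst h2)
    refine ⟨p.2, ?_, by rw [← h3]⟩
    have := A.mem_par.1 hp
    rwa [h3, A.S.ok_zero] at this
  have hfix : ∀ {x : isomGroup B₀} (hx : idet B₀ x = 1), (∃ j, τ * x = x * τ ^ j ∧ l = l ^ j) →
      ∃ c ∈ traceZero σ, A.act (0, c) ν = A.π (A.S.lev (lev_one hx)) ν := by
    rintro x hx ⟨j, hj, hlj⟩
    refine hset _ ?_
    have e : n₀ * A.S.lev (lev_one hx) = A.S.lev (lev_one hx) * n₀ ^ j := by
      refine Subtype.ext (Subtype.ext (LinearEquiv.ext fun v => ?_))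
      change (A.S.lev hl).1.1 ((A.S.lev (lev_one hx)).1.1 v) = (A.S.lev (lev_one hx)).1.1 ((n₀ ^ j).1.1 v)
      rw [A.S.lev_pow_apply, A.S.lev_apply, A.S.lev_apply, A.S.lev_apply]
      simp only [map_one, inv_one, one_mul]
      refine Prod.ext ?_ (Prod.ext ?_ ?_)
      · exact congrArg (fun g : isomGroup B₀ => g.1 v.1) hj
      · simp [← hlj]
      · simp only
        rw [inv_pow, ← map_pow, ← hlj]
    rw [← Equiv.Perm.mul_apply, ← map_mul, e, map_mul, Equiv.Perm.mul_apply, map_pow,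
      Equiv.Perm.pow_apply_eq_self_of_apply_eq_self hν]
  have hz : ∀ {x : isomGroup B₀} (hx : idet B₀ x = 1) (c : F), c ∈ traceZero σ → ∀ μ : Ω,
      A.π (A.S.lev (lev_one hx)) (A.act (0, c) μ) = A.act (0, c) (A.π (A.S.lev (lev_one hx)) μ) := by
    intro x hx c hc μ
    rw [← A.act_lev (lev_one hx) (A.mem_par.2 (A.S.ok_zero.2 hc)) μ]
    simp
  obtain ⟨a, ha, ha'⟩ := hfix hm hmn
  obtain ⟨b, hb, hb'⟩ := hfix hs hsn
  refine ⟨A.π (A.S.lev (lev_one hs)) (A.π (A.S.lev (lev_one hm)) ν), ?_⟩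
  have e1 : A.π (A.S.lev (lev_one hs)) (A.π (A.S.lev (lev_one hm)) ν) =
      A.π (A.S.lev (lev_one hm)) (A.π (A.S.lev (lev_one hs)) ν) := by
    rw [← ha', hz hs a ha, ← hb', hz hm b hb, ← ha',
      ← A.act_mul (A.mem_par.2 (A.S.ok_zero.2 ha)) (A.mem_par.2 (A.S.ok_zero.2 hb)),
      ← A.act_mul (A.mem_par.2 (A.S.ok_zero.2 hb)) (A.mem_par.2 (A.S.ok_zero.2 ha))]
    simp [pm, add_comm]
  conv_rhs => rw [e1]
  rw [← Equiv.Perm.mul_apply, ← Equiv.Perm.mul_apply, ← Equiv.Perm.mul_apply, ← map_mul, ← map_mul, ← map_mul]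
  congr 2
  refine Subtype.ext (Subtype.ext (LinearEquiv.ext fun v => ?_))
  change (A.S.lev (lev_one hms)).1.1 ((A.S.lev (lev_one hs)).1.1 ((A.S.lev (lev_one hm)).1.1 v)) =
    (A.S.lev (lev_one hm)).1.1 ((A.S.lev (lev_one hs)).1.1 v)
  rw [A.S.lev_apply, A.S.lev_apply, A.S.lev_apply, A.S.lev_apply, A.S.lev_apply]
  simp only [map_one, inv_one, one_mul]
  refine Prod.ext ?_ rfl
  change ((⁅m, s⁆ * (s * m) : isomGroup B₀).1 v.1) = (m * s : isomGroup B₀).1 v.1
  rw [show ⁅m, s⁆ * (s * m) = m * s by rw [commutatorElement_def]; group]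

/-- The contradiction from a commutator that is a non-trivial Eichler transformation. -/
theorem contra {l : F} {τ : isomGroup B₀} (hl : Lev B₀ l τ) {r : ℕ} (hr : r.Prime) (hrq : ¬ r ∣ q)
    (hlr : l ^ r = 1) (hτr : τ ^ r = 1) (hfpf : ∀ w, σ l • τ.1 w = w → w = 0)
    {m s : isomGroup B₀} (hm : idet B₀ m = 1) (hs : idet B₀ s = 1)
    (hmn : ∃ j, τ * m = m * τ ^ j ∧ l = l ^ j) (hsn : ∃ j, τ * s = s * τ ^ j ∧ l = l ^ j)
    {d u : W} {c : F} (hg : IsEich B₀ ⁅m, s⁆ d u c) (hd0 : d ≠ 0) (hne : ⁅m, s⁆ ≠ 1) : False := by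
  have hms : idet B₀ ⁅m, s⁆ = 1 := hg.det A.S.h
  obtain ⟨ν, hν⟩ := A.commutator_fixes hM hn hl hr hrq hlr hτr hfpf hm hs hmn hsn hms
  refine A.no_fix_eich hM hn (A.S.lev_eich (lev_one hms) hg) (fun e => hd0 (congrArg Prod.fst e))
    (fun e => hne (Subtype.ext (LinearEquiv.ext fun v => ?_))) ν hν
  have := congrArg (fun g : Gp B₀ => (g.1.1 (v, ((0 : F), (0 : F)))).1) e
  simpa [A.S.lev_apply] using this

/-- The case of a scalar element. -/
theorem contra_scalar {l μ : F} (hl0 : l ≠ 0) (hμ : μ * σ μ = 1) (hdet : μ ^ finrank F W * l = σ l)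
    {r : ℕ} (hr : r.Prime) (hrq : ¬ r ∣ q) (hlr : l ^ r = 1) (hμr : μ ^ r = 1) (hne : σ l * μ ≠ 1) : False := by
  obtain ⟨τ, hτ⟩ := A.S.h.exists_of_preserving A.S.hN (μ • LinearMap.id) fun x y => by
    simp only [LinearMap.smul_apply, LinearMap.id_apply, map_smul, map_smulₛₗ, smul_eq_mul,
      RingHom.id_apply, ← mul_assoc]
    rw [hμ, one_mul]
  have hτ' : ∀ x, τ.1 x = μ • x := fun x => by rw [hτ]; rfl
  have hd : idet B₀ τ = μ ^ finrank F W := by
    change LinearMap.det (τ.1 : W →ₗ[F] W) = _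
    rw [show (τ.1 : W →ₗ[F] W) = μ • LinearMap.id from LinearMap.ext hτ, LinearMap.det_smul, LinearMap.det_id,
      mul_one]
  have hpow : ∀ (n : ℕ) (x : W), (τ ^ n).1 x = μ ^ n • x := by
    intro n
    induction n with
    | zero => simp
    | succ n ih =>
      intro x
      rw [pow_succ]
      change (τ ^ n).1 (τ.1 x) = _
      rw [ih, hτ', smul_smul, ← pow_succ]
  have hcomm : ∀ x : isomGroup B₀, ∃ j, τ * x = x * τ ^ j ∧ l = l ^ j := fun x => ⟨1, Subtype.ext
    (LinearEquiv.ext fun v => by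
      change τ.1 (x.1 v) = x.1 ((τ ^ 1).1 v)
      rw [hτ', hpow, pow_one, map_smul]), (pow_one l).symm⟩
  -- a transvection as a commutator
  obtain ⟨a, -, ha0, ha⟩ := A.S.h.exists_isotropic A.S.top
    (by rw [finrank_top]; have := A.S.three; omega)
  obtain ⟨f, -, -, haf⟩ := A.S.h.exists_partner A.S.top trivial ha0 ha
  have hdP := (A.S.h.nondegOn_hyp ha haf).finrank_perp
  rw [A.S.h.finrank_hyp ha haf] at hdP
  obtain ⟨w, hw, hww⟩ := A.S.h.exists_unit_in
    (nondegOn_perp A.S.hN (A.S.h.nondegOn_hyp ha haf)) (by have := A.S.three; omega) (map_one σ)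
  have haw : B₀ a w = 0 := mem_perp_span.1 hw a (by simp)
  obtain ⟨κ, hκ⟩ := A.S.conj.exists_not_fixed
  obtain ⟨c₁, hc₁⟩ := A.S.exists_ok w
  obtain ⟨c₂, hc₂⟩ := A.S.exists_ok (κ • w)
  obtain ⟨g₁, hg₁⟩ := exists_isEich A.S.h A.S.hN ha haw hc₁
  obtain ⟨g₂, hg₂⟩ := exists_isEich A.S.h A.S.hN (w := κ • w) ha (by rw [map_smul, haw, smul_zero]) hc₂
  have hδ : σ κ - κ ∈ traceZero σ := by
    rw [mem_traceZero, map_sub, A.S.conj.invol]
    ring
  obtain ⟨z, hz⟩ := A.S.h.exists_uTv A.S.hN ha (mem_traceZero.1 hδ)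
  have e : g₁ * g₂ = z * (g₂ * g₁) := by
    refine IsEich.unique (hg₁.mul A.S.h hg₂) ?_
    have := (isEich_of_isUTv hz).mul A.S.h (hg₂.mul A.S.h hg₁)
    convert this using 1
    · simp [add_comm]
    · simp [map_smulₛₗ, hww]
      ring
  have hcm : ⁅g₁, g₂⁆ = z := by
    rw [commutatorElement_def, mul_assoc (g₁ * g₂), e]
    group
  refine A.contra hM hn (τ := τ) ⟨hl0, by rw [hd]; exact hdet⟩ hr hrq hlr
    (Subtype.ext (LinearEquiv.ext fun x => by rw [hpow, hμr, one_smul]; rfl)) (fun x hx => ?_)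
    (hg₁.det A.S.h) (hg₂.det A.S.h) (hcomm _) (hcomm _) (d := a) (u := 0) (c := σ κ - κ) ?_ ha0 ?_
  · rw [hτ', smul_smul] at hx
    have h1 : (σ l * μ - 1) • x = 0 := by rw [sub_smul, one_smul, hx, sub_self]
    exact (smul_eq_zero.1 h1).resolve_left (sub_ne_zero.2 hne)
  · rw [hcm]
    exact isEich_of_isUTv hz
  · rw [hcm]
    intro e1
    have h1 := hz.2.2 f
    rw [e1, haf, mul_one] at h1
    have h2 : f = f + (σ κ - κ) • a := h1
    rw [left_eq_add, smul_eq_zero, sub_eq_zero] at h2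
    exact h2.elim hκ ha0

/-- The case of dimension one modulo three over the field with four elements. -/
theorem contra_diag (hq : q = 2) (hd : finrank F W % 3 = 1) : False := by
  have h3 := A.S.three
  have hd4 : 4 ≤ finrank F W := by omega
  have hfix : ∀ x : F, σ x = x → x = 0 ∨ x = 1 := by
    intro x hx
    rw [A.S.hσ, hq] at hx
    exact (eq_or_ne x 0).imp_right fun h0 => mul_right_cancel₀ h0 (by rw [one_mul, ← pow_two]; exact hx)
  have h2 : (2 : F) = 0 := by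
    rcases hfix (-1) (by simp) with h | h
    · exact absurd h (neg_ne_zero.2 one_ne_zero)
    · linear_combination -h
  obtain ⟨ω, hω⟩ := A.S.conj.exists_not_fixed
  have hω0 : ω ≠ 0 := fun e => hω (by rw [e, map_zero])
  have hωσ : σ ω = ω ^ 2 := by rw [A.S.hσ, hq]
  have hω3 : ω ^ 3 = 1 := by
    have h1 := (hfix _ (A.S.conj.norm_fixed ω)).resolve_left (mul_ne_zero hω0 ((map_ne_zero σ).2 hω0))
    rw [hωσ] at h1
    linear_combination h1
  have hω1 : ω ≠ 1 := fun e => hω (by rw [e, map_one])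
  have hω2 : ω ^ 2 ≠ 1 := fun e => hω1 (by linear_combination hω3 - ω * e)
  obtain ⟨d, b, hb, hd, hd4⟩ : ∃ (d : ℕ) (b : Basis (Fin d) F W),
      (∀ i j, B₀ (b i) (b j) = if i = j then 1 else 0) ∧ d % 3 = 1 ∧ 4 ≤ d := by
    obtain ⟨b, hb⟩ := A.S.h.exists_orthonormal A.S.hN
    exact ⟨_, b, hb, hd, hd4⟩
  -- the diagonal element
  obtain ⟨l, μ, hl0, hl3, hμ3, hμ01, hprod, hne, j, hj, hlj⟩ := diag_params A.S.hσ hq hω0 hω3 hω1 hω2 hd4 (by omega)
  set π₀ : Equiv.Perm (Fin d) :=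
    (Equiv.swap ⟨1, by omega⟩ ⟨3, by omega⟩).trans (Equiv.swap ⟨0, by omega⟩ ⟨2, by omega⟩) with hπ₀
  have hμN : ∀ i, μ i * σ (μ i) = 1 := fun i => by
    rw [A.S.hσ, hq, ← pow_succ', hμ3]
  obtain ⟨τ, hτ⟩ := exists_monomial A.S hb (Equiv.refl _) μ hμN
  obtain ⟨m, hm⟩ := exists_monomial A.S hb π₀ (fun _ => 1) (fun _ => by simp)
  simp only [Equiv.refl_apply] at hτ
  simp only [one_smul] at hm
  have hext : ∀ {g g' : isomGroup B₀}, (∀ i, g.1 (b i) = g'.1 (b i)) → g = g' :=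
    fun h => Subtype.ext (b.ext' h)
  have hτd : idet B₀ τ = ∏ i, μ i := by
    change LinearMap.det (τ.1 : W →ₗ[F] W) = _
    rw [← LinearMap.det_toMatrix b, show LinearMap.toMatrix b b (τ.1 : W →ₗ[F] W) = Matrix.diagonal μ from ?_,
      Matrix.det_diagonal]
    ext i k
    rw [LinearMap.toMatrix_apply, LinearEquiv.coe_coe, hτ, map_smul, Finsupp.smul_apply, Basis.repr_self,
      Finsupp.single_apply, Matrix.diagonal_apply, smul_eq_mul]
    rcases eq_or_ne i k with rfl | hik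
    · simp
    · rw [if_neg hik, if_neg (Ne.symm hik), mul_zero]
  have hπ2 : ∀ i, π₀ (π₀ i) = i := by
    intro i
    simp only [hπ₀, Equiv.trans_apply]
    exact swap_swap_invol (by simp) (by simp) (by simp) (by simp) i
  have hm2 : m * m = 1 := hext fun i => by
    change m.1 (m.1 (b i)) = b i
    rw [hm, hm, hπ2]
  have hmd : idet B₀ m = 1 := by
    have h1 := congrArg (idet B₀) hm2
    rw [map_mul, map_one] at h1
    have : (idet B₀ m - 1) * (idet B₀ m - 1) = 0 := by linear_combination h1 - (idet B₀ m - 1) * h2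
    exact sub_eq_zero.1 (mul_self_eq_zero.1 this)
  have hτpow : ∀ (n : ℕ) i, (τ ^ n).1 (b i) = μ i ^ n • b i := by
    intro n
    induction n with
    | zero => simp
    | succ n ih =>
      intro i
      rw [pow_succ]
      change (τ ^ n).1 (τ.1 (b i)) = _
      rw [hτ, map_smul, ih, smul_smul, ← pow_succ']
  set i0 : Fin d := ⟨0, by omega⟩
  set i1 : Fin d := ⟨1, by omega⟩
  set i2 : Fin d := ⟨2, by omega⟩
  set i3 : Fin d := ⟨3, by omega⟩
  have hbb : ∀ i, B₀ (b i) (b i) = 1 := fun i => by rw [hb, if_pos rfl]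
  have hbne : ∀ {i k : Fin d}, i.val ≠ k.val → B₀ (b i) (b k) = 0 := fun h => by
    rw [hb, if_neg fun e => h (congrArg Fin.val e)]
  obtain ⟨a, hadef⟩ : ∃ a, a = b i0 + b i1 := ⟨_, rfl⟩
  have haa : B₀ a a = 0 := by
    simp [hadef, hbb, hbne (i := i0) (k := i1) (by simp [i0, i1]), hbne (i := i1) (k := i0) (by simp [i0, i1])]
    rw [one_add_one_eq_two, h2]
  have h1c : (1 : F) + σ 1 = 0 := by rw [map_one, one_add_one_eq_two, h2]
  obtain ⟨t, ht⟩ := A.S.h.exists_uTv A.S.hN haa h1c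
  have htt : τ * t = t * τ ^ 1 := by
    have h4 := (ht.conj τ).smul A.S.conj.invol (a := (μ i0)⁻¹) (inv_ne_zero fun e => by
      simpa [e] using hμN i0)
    have e1 : (μ i0)⁻¹ • τ.1 a = a := by
      have hne0 : μ i0 ≠ 0 := fun e => by simpa [e] using hμN i0
      rw [hadef, map_add, hτ, hτ, ← hμ01, ← smul_add, smul_smul, inv_mul_cancel₀ hne0, one_smul]
    have e2 : (1 : F) / ((μ i0)⁻¹ * σ (μ i0)⁻¹) = 1 := by
      rw [map_inv₀, ← mul_inv, hμN, inv_one, div_one]
    rw [e1, e2] at h4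
    rw [pow_one, ← mul_inv_eq_iff_eq_mul]
    exact utv_unique h4 ht
  obtain ⟨bb, hbbdef⟩ : ∃ bb, bb = b i2 + b i3 := ⟨_, rfl⟩
  have hπv : π₀ i0 = i2 ∧ π₀ i1 = i3 := by
    constructor <;> simp [hπ₀, i0, i1, i2, i3, Equiv.swap_apply_def]
  have hma : m.1 a = bb := by rw [hadef, map_add, hm, hm, hπv.1, hπv.2, ← hbbdef]
  have hmt := ht.conj m
  rw [hma] at hmt
  have htinv : t⁻¹ = t := by
    rw [inv_eq_iff_mul_eq_one]
    refine Subtype.ext (LinearEquiv.ext fun x => ?_)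
    change t.1 (t.1 x) = x
    rw [ht.2.2, ht.2.2, map_add, map_smul, haa, smul_zero, add_zero, add_assoc, ← add_smul, ← two_mul, h2,
      zero_mul, zero_smul, add_zero]
  have hba : B₀ bb a = 0 := by
    simp [hadef, hbbdef, hbne (i := i2) (k := i0) (by simp [i0, i2]), hbne (i := i3) (k := i0) (by simp [i0, i3]),
      hbne (i := i2) (k := i1) (by simp [i1, i2]), hbne (i := i3) (k := i1) (by simp [i1, i3])]
  have hab := A.S.h.isRefl _ _ hba
  have hbbb : B₀ bb bb = 0 := by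
    simp [hbbdef, hbb, hbne (i := i2) (k := i3) (by simp [i2, i3]), hbne (i := i3) (k := i2) (by simp [i2, i3])]
    rw [one_add_one_eq_two, h2]
  have heich : IsEich B₀ ⁅m, t⁆ (a + bb) a 1 := by
    refine ⟨by simp [haa, hab, hba, hbbb], by simp [haa, hba], by rw [h1c, haa, neg_zero], fun v => ?_⟩
    rw [commutatorElement_def, htinv]
    change (m * t * m⁻¹).1 (t.1 v) = _
    rw [hmt.2.2, ht.2.2, map_add, map_smul, hba, smul_zero, add_zero]
    simp only [map_add, LinearMap.add_apply]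
    have hneg : ∀ z : W, -z = z := fun z => by
      rw [neg_eq_iff_add_eq_zero, ← two_smul F z, h2, zero_smul]
    match_scalars <;> try ring
    all_goals first
      | linear_combination (0 : F)
      | linear_combination (B₀ bb v) * h2
      | linear_combination -(B₀ bb v) * h2
      | linear_combination (B₀ a v) * h2
  have hab0 : a + bb ≠ 0 := fun e => by
    have := congrArg (B₀ (b i0)) e
    simp [hadef, hbbdef, hbb, hbne (i := i0) (k := i1) (by simp [i0, i1]),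
      hbne (i := i0) (k := i2) (by simp [i0, i2]), hbne (i := i0) (k := i3) (by simp [i0, i3])] at this
  refine A.contra hM hn (l := l) (τ := τ) ⟨hl0, by rw [hτd]; exact hprod⟩ Nat.prime_three
    (by rw [hq]; decide) hl3 (hext fun i => by rw [hτpow, hμ3, one_smul]; rfl) (fun w hw => ?_)
    hmd (A.S.h.idet_uTv ht) ⟨j, hext fun i => ?_, hlj⟩ ⟨1, htt, (pow_one l).symm⟩ heich hab0 ?_
  · refine A.S.hN w fun x => ?_
    rw [← b.sum_repr x, map_sum, LinearMap.sum_apply]
    refine Finset.sum_eq_zero fun i _ => ?_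
    have h5 := congrArg (fun x => B₀ (b i) x) hw
    have e1 : B₀ (b i) (τ.1 w) = μ i * B₀ (b i) w := by
      have hne0 : μ i ≠ 0 := fun e => by simpa [e] using hμN i
      have := isomGroup_apply τ (b i) w
      rw [hτ, map_smulₛₗ, LinearMap.smul_apply, smul_eq_mul] at this
      rw [← this, ← mul_assoc, hμN, one_mul]
    rw [map_smul, smul_eq_mul, e1, ← mul_assoc] at h5
    have h6 : B₀ (b i) w = 0 := by
      have : (σ l * μ i - 1) * B₀ (b i) w = 0 := by linear_combination h5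
      exact (mul_eq_zero.1 this).resolve_left (sub_ne_zero.2 (hne i))
    rw [map_smulₛₗ, LinearMap.smul_apply, h6, smul_zero]
  · change τ.1 (m.1 (b i)) = m.1 ((τ ^ j).1 (b i))
    rw [hm, hτ, hτpow, map_smul, hm, ← hj i]
    rfl
  · intro e
    have h5 := heich.2.2.2 (b i0)
    rw [e] at h5
    have h6 := congrArg (B₀ (b i0)) (show b i0 = _ from h5)
    simp [hadef, hbbdef, hbb, hbne (i := i0) (k := i1) (by simp [i0, i1]),
      hbne (i := i1) (k := i0) (by simp [i0, i1]), hbne (i := i2) (k := i0) (by simp [i0, i2]),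
      hbne (i := i3) (k := i0) (by simp [i0, i3]),
      hbne (i := i0) (k := i2) (by simp [i0, i2]), hbne (i := i0) (k := i3) (by simp [i0, i3])] at h6

/-- There is no action of small degree. -/
theorem absurd_small : False := by
  have hq2 := A.S.q_two
  by_cases hq : q = 2
  · have hfix : ∀ x : F, σ x = x → x = 0 ∨ x = 1 := by
      intro x hx
      rw [A.S.hσ, hq] at hx
      exact (eq_or_ne x 0).imp_right fun h0 => mul_right_cancel₀ h0 (by rw [one_mul, ← pow_two]; exact hx)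
    obtain ⟨ω, hω⟩ := A.S.conj.exists_not_fixed
    have hω0 : ω ≠ 0 := fun e => hω (by rw [e, map_zero])
    have hωσ : σ ω = ω ^ 2 := by rw [A.S.hσ, hq]
    have hN : ω * σ ω = 1 :=
      (hfix _ (A.S.conj.norm_fixed ω)).resolve_left (mul_ne_zero hω0 ((map_ne_zero σ).2 hω0))
    have hω3 : ω ^ 3 = 1 := by rw [hωσ] at hN; linear_combination hN
    have hω1 : ω ≠ 1 := fun e => hω (by rw [e, map_one])
    have hω2 : ω ^ 2 ≠ 1 := fun e => hω1 (by linear_combination hω3 - ω * e)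
    have hpow : ∀ n, ω ^ n = ω ^ (n % 3) := fun n => by
      conv_lhs => rw [← Nat.div_add_mod n 3, pow_add, pow_mul, hω3, one_pow, one_mul]
    rcases (show finrank F W % 3 = 0 ∨ finrank F W % 3 = 1 ∨ finrank F W % 3 = 2 by omega) with h | h | h
    · refine A.contra_scalar hM hn (l := 1) (μ := ω) one_ne_zero hN ?_ Nat.prime_three
        (by rw [hq]; decide) (one_pow _) hω3 ?_
      · rw [hpow, h, pow_zero, mul_one, map_one]
      · rwa [map_one, one_mul]
    · exact A.contra_diag hM hn hq h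
    · refine A.contra_scalar hM hn (l := ω) (μ := ω ^ 2) hω0 ?_ ?_ Nat.prime_three
        (by rw [hq]; decide) hω3 ?_ ?_
      · rw [map_pow, ← mul_pow, hN, one_pow]
      · rw [← pow_mul, hpow, show 2 * finrank F W % 3 = 1 by omega, pow_one, hωσ, pow_two]
      · rw [← pow_mul, hpow]; norm_num
      · rw [hωσ]
        intro e
        exact hω1 (by linear_combination e - ω * hω3)
  · obtain ⟨r, hr, hrd⟩ := Nat.exists_prime_and_dvd (show q - 1 ≠ 1 by omega)
    haveI : Fact r.Prime := ⟨hr⟩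
    have hc := (frob_cards A.S.hF A.S.hσ A.S.conj).1
    obtain ⟨u, hu⟩ := exists_prime_orderOf_dvd_card' (G := fixedUnits σ) r (by rwa [hc])
    have hlr : ((u : Fˣ) : F) ^ r = 1 := by
      have h1 := pow_orderOf_eq_one u
      rw [hu] at h1
      have h2 := congrArg (fun x : fixedUnits σ => ((x : Fˣ) : F)) h1
      simpa using h2
    have hσl : σ ((u : Fˣ) : F) = ((u : Fˣ) : F) := u.2
    refine A.contra_scalar hM hn (l := ((u : Fˣ) : F)) (μ := 1) (Units.ne_zero _) (by simp) ?_ hr ?_ hlr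
      (one_pow _) ?_
    · rw [one_pow, one_mul, hσl]
    · intro h
      have h1 : r ∣ q - (q - 1) := Nat.dvd_sub h hrd
      rw [show q - (q - 1) = 1 by omega] at h1
      exact hr.not_dvd_one h1
    · rw [mul_one, hσl]
      intro e
      have : u = 1 := Subtype.ext (Units.ext (by simpa using e))
      rw [this, orderOf_one] at hu
      exact hr.ne_one hu.symm

end Act

end CfsgLib.KnownA.MinIndexUnitary
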