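import Cfsg.Agent.Lib.KnownA.MinIndexUnitary.Model

/-!
# Minimal index in unitary groups: scalings of subgroups of the trace zero line
-/

set_option autoImplicit false
set_option linter.unusedSectionVars false

open Module CfsgLib.Classical Finset

namespace CfsgLib.KnownA.MinIndexUnitary

variable {F W : Type*} [Field F] [Fintype F] [DecidableEq F] [AddCommGroup W] [Module F W]
  [FiniteDimensional F W] {σ : F →+* F} {B₀ : W →ₛₗ[σ] W →ₗ[F] F} {q : ℕ}

/-- The non-zero fixed scalars. -/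
def fixNZ (σ : F →+* F) : Finset F := univ.filter fun x => σ x = x ∧ x ≠ 0

theorem mem_fixNZ {x : F} : x ∈ fixNZ σ ↔ σ x = x ∧ x ≠ 0 := by simp [fixNZ]

/-- The fixed scalars preserving a subgroup. -/
noncomputable def multStab (σ : F →+* F) (V : AddSubgroup F) : Finset F := by
  classical exact univ.filter fun x => σ x = x ∧ x ≠ 0 ∧ ∀ v ∈ V, x * v ∈ V

theorem mem_multStab {V : AddSubgroup F} {x : F} :
    x ∈ multStab σ V ↔ σ x = x ∧ x ≠ 0 ∧ ∀ v ∈ V, x * v ∈ V := by
  classical simp [multStab]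

theorem mult_surj {V : AddSubgroup F} {x : F} (hx : x ≠ 0) (h : ∀ v ∈ V, x * v ∈ V) {v : F} (hv : v ∈ V) :
    ∃ v' ∈ V, x * v' = v := by
  obtain ⟨⟨v', h1⟩, h2⟩ := Finite.surjective_of_injective (f := fun a : V => (⟨x * a, h a a.2⟩ : V))
    (fun a b e => Subtype.ext (mul_left_cancel₀ hx (congrArg Subtype.val e))) ⟨v, hv⟩
  exact ⟨v', h1, congrArg Subtype.val h2⟩

theorem Setup.card_fixNZ (S : Setup B₀ q) : (fixNZ σ).card + 1 = q := by
  obtain ⟨δ, hδ, hδ'⟩ := S.conj.exists_trace_zero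
  have hσδ : σ δ = -δ := eq_neg_of_add_eq_zero_right hδ'
  classical
  have h0 : (0 : F) ∉ fixNZ σ := by simp [fixNZ]
  conv_rhs => rw [← S.card_traceZero, Nat.card_eq_fintype_card, Fintype.card_subtype]
  rw [← Finset.card_insert_of_notMem h0]
  refine Finset.card_nbij' (fun x => x * δ) (fun c => c / δ) ?_ ?_ ?_ ?_
  · intro x hx
    simp only [coe_insert, Set.mem_insert_iff, Finset.mem_coe, mem_fixNZ] at hx
    simp only [coe_filter, mem_univ, true_and, Set.mem_setOf_eq, mem_traceZero, map_mul, hσδ]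
    rcases hx with rfl | ⟨hx, -⟩
    · simp
    · rw [hx]; ring
  · intro c hc
    simp only [coe_filter, mem_univ, true_and, Set.mem_setOf_eq, mem_traceZero] at hc
    simp only [coe_insert, Set.mem_insert_iff, Finset.mem_coe, mem_fixNZ]
    refine (eq_or_ne (c / δ) 0).imp_right fun h => ⟨?_, h⟩
    rw [map_div₀, hσδ, eq_neg_of_add_eq_zero_right hc, neg_div_neg_eq]
  · intro x _
    simp [hδ]
  · intro c _
    simp [div_mul_cancel₀ _ hδ]

theorem Setup.ring_bound (S : Setup B₀ q) {V : AddSubgroup F} (hV : V ≤ traceZero σ) {t : F}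
    (ht : t ∈ traceZero σ) (htV : t ∉ V) : ((multStab σ V).card + 1) * Nat.card V ≤ q := by
  classical
  conv_rhs => rw [← S.card_traceZero, Nat.card_eq_fintype_card, Fintype.card_subtype]
  rw [← Finset.card_insert_of_notMem (show (0 : F) ∉ multStab σ V by simp [mem_multStab]),
    Nat.card_eq_fintype_card, Fintype.card_subtype, ← Finset.card_product]
  have hins : ∀ x ∈ insert 0 (multStab σ V), σ x = x ∧ ∀ v ∈ V, x * v ∈ V := by
    intro x hx
    rcases mem_insert.1 hx with rfl | hx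
    · exact ⟨map_zero σ, fun v _ => by rw [zero_mul]; exact V.zero_mem⟩
    · exact ⟨(mem_multStab.1 hx).1, (mem_multStab.1 hx).2.2⟩
  refine Finset.card_le_card_of_injOn (fun p => p.1 * t + p.2) ?_ ?_
  · rintro ⟨x, v⟩ hp
    simp only [coe_product, Set.mem_prod, Finset.mem_coe, mem_filter] at hp
    simp only [coe_filter, mem_univ, true_and, Set.mem_setOf_eq]
    refine (traceZero σ).add_mem ?_ (hV hp.2.2)
    rw [mem_traceZero, map_mul, (hins x hp.1).1, ← mul_add, mem_traceZero.1 ht, mul_zero]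
  · rintro ⟨x, v⟩ hp ⟨x', v'⟩ hp' e
    simp only [coe_product, Set.mem_prod, Finset.mem_coe, mem_filter] at hp hp'
    simp only at e
    by_cases hxx : x = x'
    · subst hxx
      simpa using e
    exfalso
    apply htV
    obtain ⟨w, hw, hw'⟩ := mult_surj (V := V) (sub_ne_zero.2 hxx)
      (fun a ha => by rw [sub_mul]; exact V.sub_mem ((hins x hp.1).2 a ha) ((hins x' hp'.1).2 a ha))
      (V.sub_mem hp'.2.2 hp.2.2)
    have : t = w := mul_left_cancel₀ (sub_ne_zero.2 hxx) (by rw [hw']; linear_combination e)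
    rwa [this]

theorem mult_mem {V : AddSubgroup F} {V' : AddSubgroup F} {x x' : F} (hV : V ≤ traceZero σ)
    (hσx : σ x = x) (hσx' : σ x' = x') (hx : x ≠ 0) (hx' : x' ≠ 0)
    (h : ∀ c ∈ traceZero σ, x * c ∈ V' ↔ c ∈ V) (h' : ∀ c ∈ traceZero σ, x' * c ∈ V' ↔ c ∈ V) :
    x / x' ∈ multStab σ V := by
  refine mem_multStab.2 ⟨by rw [map_div₀, hσx, hσx'], div_ne_zero hx hx', fun v hv => ?_⟩
  have hm : x / x' * v ∈ traceZero σ := by
    rw [mem_traceZero, map_mul, map_div₀, hσx, hσx', ← mul_add, mem_traceZero.1 (hV hv), mul_zero]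
  rw [← h' _ hm, ← mul_assoc, mul_div_cancel₀ _ hx']
  exact (h v (hV hv)).2 hv

/-- A small set carrying compatible translations and scalings is fixed by the translations. -/
theorem Setup.scale_fixed (S : Setup B₀ q) {α : Type*} [DecidableEq α] (Y : Finset α) (t n : F → α → α)
    (M : Finset F) (ht0 : ∀ y ∈ Y, t 0 y = y)
    (htY : ∀ c ∈ traceZero σ, ∀ y ∈ Y, t c y ∈ Y)
    (htadd : ∀ c ∈ traceZero σ, ∀ d ∈ traceZero σ, ∀ y ∈ Y, t (c + d) y = t c (t d y))
    (hM : ∀ x ∈ M, σ x = x ∧ x ≠ 0) (hnY : ∀ x ∈ M, ∀ y ∈ Y, n x y ∈ Y)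
    (hn : ∀ x ∈ M, Set.InjOn (n x) Y)
    (hcomm : ∀ x ∈ M, ∀ c ∈ traceZero σ, ∀ y ∈ Y, t (x * c) (n x y) = n x (t c y))
    (hY : Y.card ≤ M.card) : ∀ y ∈ Y, ∀ c ∈ traceZero σ, t c y = y := by
  classical
  intro y hy c₀ hc₀
  by_contra hne
  let V : AddSubgroup F :=
    { carrier := {c | c ∈ traceZero σ ∧ t c y = y}
      zero_mem' := ⟨(traceZero σ).zero_mem, ht0 y hy⟩
      add_mem' := fun {a b} ha hb => ⟨(traceZero σ).add_mem ha.1 hb.1, by
        rw [htadd a ha.1 b hb.1 y hy, hb.2, ha.2]⟩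
      neg_mem' := fun {a} ha => ⟨(traceZero σ).neg_mem ha.1, by
        conv_lhs => rw [← ha.2]
        rw [← htadd _ ((traceZero σ).neg_mem ha.1) a ha.1 y hy, neg_add_cancel, ht0 y hy]⟩ }
  have hVle : V ≤ traceZero σ := fun c hc => hc.1
  have hb := S.ring_bound hVle hc₀ (fun h => hne h.2)
  have hmul : ∀ x ∈ M, ∀ c ∈ traceZero σ, x * c ∈ traceZero σ := fun x hx c hc => by
    rw [mem_traceZero, map_mul, (hM x hx).1, ← mul_add, mem_traceZero.1 hc, mul_zero]
  -- the scalings with the same stabiliser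
  have hstab : ∀ x ∈ M, ∀ c ∈ traceZero σ, ∀ e ∈ traceZero σ,
      t (x * c) (t e (n x y)) = t e (n x y) ↔ c ∈ V := by
    intro x hx c hc e he
    rw [← htadd _ (hmul x hx c hc) e he _ (hnY x hx y hy), add_comm,
      htadd e he _ (hmul x hx c hc) _ (hnY x hx y hy), hcomm x hx c hc y hy]
    constructor
    · intro h
      refine ⟨hc, hn x hx (htY c hc y hy) hy ?_⟩
      have h1 := congrArg (t (-e)) h
      rwa [← htadd _ ((traceZero σ).neg_mem he) e he _ (hnY x hx _ (htY c hc y hy)),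
        ← htadd _ ((traceZero σ).neg_mem he) e he _ (hnY x hx y hy), neg_add_cancel,
        ht0 _ (hnY x hx _ (htY c hc y hy)), ht0 _ (hnY x hx y hy)] at h1
    · intro h
      rw [h.2]
  set T : Finset F := univ.filter fun c => c ∈ traceZero σ with hT
  have hTc : T.card = q := by
    conv_rhs => rw [← S.card_traceZero, Nat.card_eq_fintype_card, Fintype.card_subtype]
  have hmain : (M ×ˢ T).card ≤ ((multStab σ V).card * Nat.card V) * Y.card := by
    refine le_trans (Finset.card_le_mul_card_image (f := fun p => t p.2 (n p.1 y)) _ _ ?_)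
      (Nat.mul_le_mul_left _ (Finset.card_le_card ?_))
    swap
    · intro z hz
      obtain ⟨⟨x, c⟩, hp, rfl⟩ := mem_image.1 hz
      rw [mem_product, hT, mem_filter] at hp
      exact htY c hp.2.2 _ (hnY x hp.1 y hy)
    intro z hz
    obtain ⟨⟨x₁, c₁⟩, hp₁, rfl⟩ := mem_image.1 hz
    rw [mem_product, hT, mem_filter] at hp₁
    set fib := (M ×ˢ T).filter fun p => t p.2 (n p.1 y) = t c₁ (n x₁ y) with hfib
    have hmem : ∀ p ∈ fib, p.1 ∈ M ∧ p.2 ∈ traceZero σ ∧ t p.2 (n p.1 y) = t c₁ (n x₁ y) := by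
      intro p hp
      simp only [hfib, mem_filter, mem_product, hT, mem_univ, true_and] at hp
      exact ⟨hp.1.1, hp.1.2, hp.2⟩
    have hfst : (fib.image Prod.fst).card ≤ (multStab σ V).card := by
      refine Finset.card_le_card_of_injOn (fun x => x / x₁) ?_ fun a _ b _ e => ?_
      · intro x hx
        rw [Finset.mem_coe, mem_image] at hx
        obtain ⟨p, hp, rfl⟩ := hx
        obtain ⟨h1, h2, h3⟩ := hmem p hp
        let V' : AddSubgroup F :=
          { carrier := {c | c ∈ traceZero σ ∧ t c (t c₁ (n x₁ y)) = t c₁ (n x₁ y)}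
            zero_mem' := ⟨(traceZero σ).zero_mem, ht0 _ (htY c₁ hp₁.2.2 _ (hnY x₁ hp₁.1 y hy))⟩
            add_mem' := fun {a b} ha hb => ⟨(traceZero σ).add_mem ha.1 hb.1, by
              rw [htadd a ha.1 b hb.1 _ (htY c₁ hp₁.2.2 _ (hnY x₁ hp₁.1 y hy)), hb.2, ha.2]⟩
            neg_mem' := fun {a} ha => ⟨(traceZero σ).neg_mem ha.1, by
              conv_lhs => rw [← ha.2]
              rw [← htadd _ ((traceZero σ).neg_mem ha.1) a ha.1 _ (htY c₁ hp₁.2.2 _ (hnY x₁ hp₁.1 y hy)),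
                neg_add_cancel, ht0 _ (htY c₁ hp₁.2.2 _ (hnY x₁ hp₁.1 y hy))]⟩ }
        refine mult_mem (V' := V') hVle (hM _ h1).1 (hM _ hp₁.1).1 (hM _ h1).2 (hM _ hp₁.1).2 ?_ ?_
        · intro c hc
          rw [← hstab p.1 h1 c hc p.2 h2, h3]
          exact ⟨fun h => h.2, fun h => ⟨hmul _ h1 c hc, h⟩⟩
        · intro c hc
          rw [← hstab x₁ hp₁.1 c hc c₁ hp₁.2.2]
          exact ⟨fun h => h.2, fun h => ⟨hmul _ hp₁.1 c hc, h⟩⟩
      · exact (div_left_inj' (hM _ hp₁.1).2).1 e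
    refine le_trans (Finset.card_le_mul_card_image (f := Prod.fst) fib (Nat.card V) ?_)
      ((mul_comm _ _).trans_le (Nat.mul_le_mul_right _ hfst))
    intro x hx
    obtain ⟨p₀, hp₀, rfl⟩ := mem_image.1 hx
    obtain ⟨h1, h2, h3⟩ := hmem p₀ hp₀
    rw [Nat.card_eq_fintype_card, Fintype.card_subtype]
    refine Finset.card_le_card_of_injOn (fun p => (p.2 - p₀.2) / p₀.1) ?_ ?_
    · intro p hp
      simp only [coe_filter, Set.mem_setOf_eq] at hp
      obtain ⟨h1', h2', h3'⟩ := hmem p hp.1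
      simp only [coe_filter, mem_univ, true_and, Set.mem_setOf_eq]
      have hd : (p.2 - p₀.2) / p₀.1 ∈ traceZero σ := by
        rw [mem_traceZero, map_div₀, (hM _ h1).1, ← add_div, mem_traceZero.1 ((traceZero σ).sub_mem h2' h2),
          zero_div]
      rw [← hstab p₀.1 h1 _ hd p₀.2 h2, mul_div_cancel₀ _ (hM _ h1).2,
        ← htadd _ ((traceZero σ).sub_mem h2' h2) _ h2 _ (hnY _ h1 y hy), sub_add_cancel, ← hp.2, h3', hp.2, h3]
    · intro a ha b hb e
      simp only [coe_filter, Set.mem_setOf_eq] at ha hb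
      refine Prod.ext (ha.2.trans hb.2.symm) ?_
      exact sub_left_inj.1 ((div_left_inj' (hM _ h1).2).1 e)
  rw [Finset.card_product, hTc] at hmain
  have h1 : M.card * q ≤ M.card * ((multStab σ V).card * Nat.card V) :=
    hmain.trans ((mul_comm _ _).trans_le (Nat.mul_le_mul_right _ hY))
  have hV0 : 0 < Nat.card V := Nat.card_pos
  rcases Nat.eq_zero_or_pos M.card with h0 | h0
  · rw [h0] at hY
    exact Finset.notMem_empty y (Finset.card_eq_zero.1 (Nat.le_zero.1 hY) ▸ hy)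
  · have h2 := Nat.le_of_mul_le_mul_left h1 h0
    rw [add_mul] at hb
    omega

end CfsgLib.KnownA.MinIndexUnitary
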