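import Cfsg.Agent.Lib.KnownA.MinIndexUnitary.Act
import Cfsg.Agent.Lib.KnownA.MinIndexUnitary.Closure
import Cfsg.Agent.Lib.KnownA.MinIndexUnitary.Scale

/-!
# Minimal index in unitary groups: orbits above a non-isotropic vector
-/

set_option autoImplicit false
set_option linter.unusedSectionVars false

open Module CfsgLib.Classical Finset

namespace CfsgLib.KnownA.MinIndexUnitary

variable {F W : Type*} [Field F] [Fintype F] [DecidableEq F] [AddCommGroup W] [Module F W]
  [FiniteDimensional F W] {σ : F →+* F} {B₀ : W →ₛₗ[σ] W →ₗ[F] F} {q : ℕ}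

/-- Enough smallness to force invariance. -/
def SmallCount (q d k : ℕ) : Prop :=
  k ≤ 1 ∨ (Even q ∧ k + 1 ≤ q) ∨ (Odd q ∧ 2 * k + 1 ≤ q) ∨ (q = 2 ∧ k ≤ 2 ∧ 4 ≤ d)

/-- The squares of fixed non-zero scalars. -/
def sqFix (σ : F →+* F) : Finset F := (fixNZ σ).image fun l => l * l

theorem Setup.sqFix_bound (S : Setup B₀ q) :
    q ≤ 2 * (sqFix σ).card + 1 ∧ (Even q → q ≤ (sqFix σ).card + 1) := by
  have hc := S.card_fixNZ
  refine ⟨?_, fun he => ?_⟩
  · have h1 : (fixNZ σ).card ≤ 2 * (sqFix σ).card := by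
      refine Finset.card_le_mul_card_image _ _ fun b hb => ?_
      obtain ⟨l, hl, rfl⟩ := mem_image.1 hb
      refine le_trans (Finset.card_le_card (t := {l, -l}) fun x hx => ?_) Finset.card_le_two
      rw [mem_filter] at hx
      have : (x - l) * (x + l) = 0 := by linear_combination hx.2
      simp only [mem_insert, mem_singleton]
      exact (mul_eq_zero.1 this).imp sub_eq_zero.1 eq_neg_of_add_eq_zero_left
    omega
  · have h2 : (2 : F) = 0 := by
      obtain ⟨p, hp⟩ := CharP.exists F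
      obtain ⟨n, hpp, hn⟩ := FiniteField.card F p
      have hdvd : 2 ∣ p ^ (n : ℕ) := by rw [← hn, S.hF]; exact dvd_pow he.two_dvd two_ne_zero
      have hp2 : p = 2 :=
        ((Nat.prime_dvd_prime_iff_eq Nat.prime_two hpp).1 (Nat.prime_two.dvd_of_dvd_pow hdvd)).symm
      subst hp2
      exact CharP.cast_eq_zero F 2
    have : (sqFix σ).card = (fixNZ σ).card := by
      refine Finset.card_image_of_injective _ fun a b e => ?_
      have : (a - b) * (a - b) = 0 := by linear_combination e + (b * b - a * b) * h2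
      exact sub_eq_zero.1 (mul_self_eq_zero.1 this)
    omega

open scoped _root_.Classical in
/-- A transvection of `W`. -/
noncomputable def utv (B₀ : W →ₛₗ[σ] W →ₗ[F] F) (a : W) (c : F) : isomGroup B₀ :=
  _root_.Classical.epsilon fun g => IsUTv g a c

theorem Setup.utv_spec (S : Setup B₀ q) {a : W} {c : F} (ha : B₀ a a = 0) (hc : c ∈ traceZero σ) :
    IsUTv (utv B₀ a c) a c :=
  _root_.Classical.epsilon_spec (p := fun g : isomGroup B₀ => IsUTv g a c)
    (S.h.exists_uTv S.hN ha (mem_traceZero.1 hc))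

theorem utv_unique {g g' : isomGroup B₀} {a : W} {c : F} (h : IsUTv g a c) (h' : IsUTv g' a c) : g = g' :=
  Subtype.ext (LinearEquiv.ext fun x => by rw [h.2.2, h'.2.2])

theorem Setup.utv_zero (S : Setup B₀ q) {a : W} (ha : B₀ a a = 0) : utv B₀ a 0 = 1 :=
  utv_unique (S.utv_spec ha (traceZero σ).zero_mem) ⟨ha, by simp, fun x => by simp⟩

theorem Setup.utv_add (S : Setup B₀ q) {a : W} (ha : B₀ a a = 0) {c d : F} (hc : c ∈ traceZero σ)
    (hd : d ∈ traceZero σ) : utv B₀ a (c + d) = utv B₀ a c * utv B₀ a d := by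
  refine utv_unique (S.utv_spec ha ((traceZero σ).add_mem hc hd))
    ⟨ha, mem_traceZero.1 ((traceZero σ).add_mem hc hd), fun x => ?_⟩
  change (utv B₀ a c).1 ((utv B₀ a d).1 x) = _
  rw [(S.utv_spec ha hd).2.2, (S.utv_spec ha hc).2.2]
  simp [ha]
  module

theorem Setup.lev_mul (S : Setup B₀ q) {τ τ' : isomGroup B₀} (h : Lev B₀ 1 τ) (h' : Lev B₀ 1 τ')
    (h'' : Lev B₀ 1 (τ * τ')) : S.lev h'' = S.lev h * S.lev h' :=
  Subtype.ext (Subtype.ext (LinearEquiv.ext fun v => by
    change _ = (S.lev h).1.1 ((S.lev h').1.1 v)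
    rw [S.lev_apply, S.lev_apply, S.lev_apply]
    simp))

theorem Setup.lev_id (S : Setup B₀ q) (h : Lev B₀ 1 1) : S.lev h = 1 :=
  Subtype.ext (Subtype.ext (LinearEquiv.ext fun v => by
    rw [S.lev_apply]
    simp))

namespace Act

variable [Fintype W] [DecidableEq W] {Ω : Type*} [Fintype Ω] [DecidableEq Ω] (A : Act B₀ q Ω)

open scoped _root_.Classical in
/-- The action of a determinant one element of the Levi factor on a set of points. -/
noncomputable def levImage (τ : isomGroup B₀) (O : Finset Ω) : Finset Ω :=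
  if h : idet B₀ τ = 1 then O.image (A.π (A.S.lev (lev_one h))) else O

theorem levImage_eq {τ : isomGroup B₀} (h : idet B₀ τ = 1) (O : Finset Ω) :
    A.levImage τ O = O.image (A.π (A.S.lev (lev_one h))) := by rw [levImage, dif_pos h]

theorem levImage_one (O : Finset Ω) : A.levImage 1 O = O := by
  rw [A.levImage_eq (map_one _), A.S.lev_id, map_one, Equiv.Perm.coe_one, Finset.image_id]

theorem levImage_mul {τ τ' : isomGroup B₀} (h : idet B₀ τ = 1) (h' : idet B₀ τ' = 1) (O : Finset Ω) :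
    A.levImage (τ * τ') O = A.levImage τ (A.levImage τ' O) := by
  have h'' : idet B₀ (τ * τ') = 1 := by rw [map_mul, h, h', one_mul]
  rw [A.levImage_eq h'', A.levImage_eq h, A.levImage_eq h', A.S.lev_mul (lev_one h) (lev_one h') (lev_one h''),
    map_mul, Equiv.Perm.coe_mul, Finset.image_image]

theorem levImage_mem {𝒪 : Finset (Finset Ω)} (h𝒪 : A.Stable 𝒪) {u : W} {τ : isomGroup B₀}
    (h : idet B₀ τ = 1) (hu : τ.1 u = u) {O : Finset Ω} (hO : O ∈ A.above 𝒪 u) :
    A.levImage τ O ∈ A.above 𝒪 u := by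
  have := A.above_moves (lev_one h) h𝒪 hO
  rw [inv_one, one_smul, hu] at this
  rwa [A.levImage_eq h]

theorem levImage_inj {τ : isomGroup B₀} (h : idet B₀ τ = 1) : Function.Injective (A.levImage τ) :=
  fun O O' e => by
    rw [A.levImage_eq h, A.levImage_eq h] at e
    exact Finset.image_injective (A.π _).injective e

/-- The torus case. -/
theorem torus_fixed {𝒪 : Finset (Finset Ω)} (h𝒪 : A.Stable 𝒪) {u a f : W} (ha : B₀ a a = 0) (hau : B₀ a u = 0)
    (hff : B₀ f f = 0) (haf : B₀ a f = 1) (hfu : B₀ f u = 0)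
    (hk : (A.above 𝒪 u).card ≤ (sqFix σ).card) {c : F} (hc : c ∈ traceZero σ) {O : Finset Ω}
    (hO : O ∈ A.above 𝒪 u) : A.levImage (utv B₀ a c) O = O := by
  classical
  have hT : ∀ {c : F}, c ∈ traceZero σ → idet B₀ (utv B₀ a c) = 1 := fun hc =>
    A.S.h.idet_uTv (A.S.utv_spec ha hc)
  have hTu : ∀ {c : F}, c ∈ traceZero σ → (utv B₀ a c).1 u = u := fun hc => by
    rw [(A.S.utv_spec ha hc).2.2, hau, mul_zero, zero_smul, add_zero]
  have htor : ∀ x ∈ sqFix σ, ∃ g : isomGroup B₀, idet B₀ g = 1 ∧ g.1 u = u ∧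
      ∀ c ∈ traceZero σ, g * utv B₀ a c * g⁻¹ = utv B₀ a (x * c) := by
    intro x hx
    obtain ⟨l, hl, rfl⟩ := mem_image.1 hx
    rw [mem_fixNZ] at hl
    obtain ⟨g, hga, -, hgx, hgd⟩ := A.S.h.exists_torus A.S.hN ha hff haf hl.2
    refine ⟨g, by rw [hgd, hl.1, div_self hl.2], hgx u hau hfu, fun c hc => ?_⟩
    have h1 := ((A.S.utv_spec ha hc).conj g).smul A.S.conj.invol (inv_ne_zero hl.2)
    rw [hga, smul_smul, inv_mul_cancel₀ hl.2, one_smul] at h1
    have e : c / (l⁻¹ * σ l⁻¹) = l * l * c := by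
      rw [map_inv₀, hl.1, ← mul_inv, div_inv_eq_mul, mul_comm]
    rw [e] at h1
    exact utv_unique h1 (A.S.utv_spec ha (mem_traceZero.2 h1.2.1))
  choose! g hg1 hg2 hg3 using htor
  refine A.S.scale_fixed (A.above 𝒪 u) (fun c => A.levImage (utv B₀ a c)) (fun x => A.levImage (g x))
    (sqFix σ) ?_ ?_ ?_ ?_ ?_ ?_ ?_ hk O hO c hc
  · intro y _
    simp only [A.S.utv_zero ha, levImage_one]
  · exact fun c hc y hy => A.levImage_mem h𝒪 (hT hc) (hTu hc) hy
  · intro c hc d hd y _
    simp only [A.S.utv_add ha hc hd, A.levImage_mul (hT hc) (hT hd)]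
  · intro x hx
    obtain ⟨l, hl, rfl⟩ := mem_image.1 hx
    rw [mem_fixNZ] at hl
    exact ⟨by rw [map_mul, hl.1], mul_ne_zero hl.2 hl.2⟩
  · exact fun x hx y hy => A.levImage_mem h𝒪 (hg1 x hx) (hg2 x hx) hy
  · exact fun x hx => (A.levImage_inj (hg1 x hx)).injOn
  · intro x hx c hc y _
    obtain ⟨l, hl, hlx⟩ := mem_image.1 hx
    rw [mem_fixNZ] at hl
    have hxc : idet B₀ (utv B₀ a (x * c)) = 1 := hT (by
      rw [mem_traceZero, map_mul, ← hlx, map_mul, hl.1, ← mul_add, mem_traceZero.1 hc, mul_zero])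
    rw [← A.levImage_mul hxc (hg1 x hx), ← A.levImage_mul (hg1 x hx) (hT hc), ← hg3 x hx c hc,
      inv_mul_cancel_right]

/-- Transvections orthogonal to `u` fix the orbits above `u` of a small family. -/
theorem above_fixed {𝒪 : Finset (Finset Ω)} (h𝒪 : A.Stable 𝒪) {u : W} (hu : B₀ u u ≠ 0)
    (hk : SmallCount q (finrank F W) (A.above 𝒪 u).card) {a : W} (ha : B₀ a a = 0) (hua : B₀ u a = 0)
    {c : F} (hc : c ∈ traceZero σ) {O : Finset Ω} (hO : O ∈ A.above 𝒪 u) :
    A.levImage (utv B₀ a c) O = O := by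
  have hau := A.S.h.isRefl _ _ hua
  have hT : ∀ {c : F}, c ∈ traceZero σ → idet B₀ (utv B₀ a c) = 1 := fun hc =>
    A.S.h.idet_uTv (A.S.utv_spec ha hc)
  have hTu : ∀ {c : F}, c ∈ traceZero σ → (utv B₀ a c).1 u = u := fun hc => by
    rw [(A.S.utv_spec ha hc).2.2, hau, mul_zero, zero_smul, add_zero]
  by_cases ha0 : a = 0
  · have : utv B₀ a c = 1 := utv_unique (A.S.utv_spec ha hc)
      ⟨ha, mem_traceZero.1 hc, fun x => by simp [ha0]⟩
    rw [this, levImage_one]
  by_cases hk1 : (A.above 𝒪 u).card ≤ 1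
  · exact Finset.card_le_one.1 hk1 _ (A.levImage_mem h𝒪 (hT hc) (hTu hc) hO) _ hO
  have hP := nondegOn_perp A.S.hN (A.S.h.nondegOn_span_singleton hu)
  obtain ⟨f, hf, hff, haf⟩ := A.S.h.exists_partner hP (mem_perp_span.2 fun x hx => by
    rw [Set.mem_singleton_iff.1 hx]; exact hua) ha0 ha
  have huf : B₀ u f = 0 := mem_perp_span.1 hf u rfl
  rcases hk with h | h | h | ⟨hq, hk2, hd⟩
  · exact absurd h hk1
  · have := (A.S.sqFix_bound).2 h.1
    exact A.torus_fixed h𝒪 ha hau hff haf (A.S.h.isRefl _ _ huf) (by omega) hc hO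
  · have := (A.S.sqFix_bound).1
    exact A.torus_fixed h𝒪 ha hau hff haf (A.S.h.isRefl _ _ huf) (by omega) hc hO
  · by_cases hc0 : c = 0
    · rw [hc0, A.S.utv_zero ha, levImage_one]
    obtain ⟨δ, hδ, hδ'⟩ := A.S.conj.exists_trace_zero
    have hfix : ∀ x : F, σ x = x → x = 0 ∨ x = 1 := by
      intro x hx
      rw [A.S.hσ, hq] at hx
      exact (eq_or_ne x 0).imp_right fun h0 => mul_right_cancel₀ h0 (by rw [one_mul, ← pow_two]; exact hx)
    have h2 : (2 : F) = 0 := by
      rcases hfix (-1) (by simp) with h | h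
      · exact absurd h (neg_ne_zero.2 one_ne_zero)
      · linear_combination -h
    have hc1 : c = 1 := (hfix c (by linear_combination mem_traceZero.1 hc - c * h2)).resolve_left hc0
    have hSu := A.S.h.nondegOn_span_singleton hu
    have hSd := hSu.finrank_perp
    rw [finrank_span_singleton (fun e => hu (by rw [e, map_zero]))] at hSd
    have hua' : a ∈ perp B₀ (Submodule.span F {u}) := mem_perp_span.2 fun x hx => by
      rw [Set.mem_singleton_iff.1 hx]; exact hua
    obtain ⟨hN', hd'⟩ := A.S.h.finrank_inf_perp (A.S.h.nondegOn_hyp ha haf) hP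
      (Submodule.span_le.2 (by rintro x (rfl | rfl); exacts [hua', hf]))
    rw [A.S.h.finrank_hyp ha haf] at hd'
    obtain ⟨w, hw, hww⟩ := A.S.h.exists_unit_in hN' (by omega) (map_one σ)
    have hwu : B₀ u w = 0 := mem_perp_span.1 hw.1 u rfl
    have haw : B₀ a w = 0 := mem_perp_span.1 hw.2 a (by simp)
    obtain ⟨cw, hcw⟩ := A.S.exists_ok w
    obtain ⟨e, he⟩ := exists_isEich A.S.h A.S.hN ha haw hcw
    have hee : e * e = utv B₀ a c := by
      have h4 := he.mul A.S.h he
      rw [show w + w = 0 by rw [← two_smul F w, h2, zero_smul],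
        show cw + cw - B₀ w w = c by rw [hww, hc1]; linear_combination (cw - 1) * h2] at h4
      exact utv_unique h4.isUTv (A.S.utv_spec ha hc)
    have heu : e.1 u = u := by
      rw [he.2.2.2, hau, A.S.h.isRefl _ _ hwu]
      simp
    rw [← hee, A.levImage_mul (he.det A.S.h) (he.det A.S.h)]
    by_contra hne
    have h1 := A.levImage_mem h𝒪 (he.det A.S.h) heu hO
    have h2' := A.levImage_mem h𝒪 (he.det A.S.h) heu h1
    have hne1 : A.levImage e O ≠ O := fun e1 => hne (by rw [e1, e1])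
    have hne2 : A.levImage e (A.levImage e O) ≠ A.levImage e O := fun e1 =>
      hne1 (A.levImage_inj (he.det A.S.h) e1)
    have : 3 ≤ (A.above 𝒪 u).card := by
      rw [← show ({O, A.levImage e O, A.levImage e (A.levImage e O)} : Finset (Finset Ω)).card = 3 from
        Finset.card_eq_three.2 ⟨_, _, _, hne1.symm, Ne.symm hne, hne2.symm, rfl⟩]
      refine Finset.card_le_card fun x hx => ?_
      simp only [mem_insert, mem_singleton] at hx
      rcases hx with rfl | rfl | rfl <;> assumption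
    omega

/-- The annihilator of an orbit in a small family is closed under transvections. -/
theorem ann_closed {𝒪 : Finset (Finset Ω)} (h𝒪 : A.Stable 𝒪)
    (hk : ∀ u, B₀ u u ≠ 0 → SmallCount q (finrank F W) (A.above 𝒪 u).card) {ω : Ω} (hω : A.orb ω ∈ 𝒪) :
    TClosed B₀ (A.annGrp ω) := by
  intro v hv hv0 a ha hva y hy c hc
  have hO : A.orb ω ∈ A.above 𝒪 v := A.mem_above.2 ⟨hω, hv⟩
  have hd : idet B₀ (utv B₀ a c) = 1 := A.S.h.idet_uTv (A.S.utv_spec ha hc)
  have h1 := A.above_fixed h𝒪 hv0 (hk v hv0) ha hva hc hO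
  rw [A.levImage_eq hd, ← A.orb_moves (lev_one hd)] at h1
  have h2 := (A.ann_moves (lev_one hd) (ω := ω) (y := y)).1 hy
  rw [inv_one, one_smul, A.ann_eq (h1 ▸ A.self_mem _), (A.S.utv_spec ha hc).2.2] at h2
  simpa using (A.annGrp ω).sub_mem (show _ ∈ A.annGrp ω from h2) hy

end Act

end CfsgLib.KnownA.MinIndexUnitary
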