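import Cfsg.Agent.Lib.KnownA.MinIndexUnitary.MovedCount
import Cfsg.Agent.Lib.Classical.HermTS
import Mathlib.LinearAlgebra.Projectivization.Cardinality

/-!
# Minimal index in unitary groups: the numerical conditions
-/

set_option autoImplicit false
set_option linter.unusedSectionVars false

open Module CfsgLib.Classical Finset
open scoped LinearAlgebra.Projectivization

namespace CfsgLib.KnownA.MinIndexUnitary

variable {F W : Type*} [Field F] [Fintype F] [DecidableEq F] [AddCommGroup W] [Module F W]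
  [FiniteDimensional F W] [Fintype W] [DecidableEq W] {σ : F →+* F} {B₀ : W →ₛₗ[σ] W →ₗ[F] F} {q : ℕ}

theorem mul_card_isoPts {V : Type*} [AddCommGroup V] [Module F V] [FiniteDimensional F V]
    {B : V →ₛₗ[σ] V →ₗ[F] F} (hB : IsHermitian B) (hN : B.SeparatingRight) :
    (Fintype.card F - 1) * Nat.card (IsoPts B) = lengthCount σ (finrank F V) 0 - 1 := by
  classical
  have : Finite V := Module.finite_of_finite F
  have := Fintype.ofFinite V
  rw [← hB.card_isotropic hN, ← Fintype.card_units, ← Nat.card_eq_fintype_card, mul_comm, ← Nat.card_prod]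
  refine Nat.card_congr (Equiv.ofBijective (fun x : IsoPts B × Fˣ =>
    (⟨(x.2 : F) • x.1.1.rep, smul_ne_zero x.2.ne_zero x.1.1.rep_nonzero,
      (self_smul_eq_zero x.2.ne_zero x.1.1.rep).2 x.1.2⟩ : {v : V // v ≠ 0 ∧ B v v = 0})) ⟨?_, ?_⟩)
  · rintro ⟨p, a⟩ ⟨p', a'⟩ h
    have h' : (a : F) • p.1.rep = (a' : F) • p'.1.rep := congrArg Subtype.val h
    have hp : p = p' := by
      refine Subtype.ext ?_
      rw [← Projectivization.mk_rep p.1, ← Projectivization.mk_rep p'.1, Projectivization.mk_eq_mk_iff']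
      exact ⟨(a : F)⁻¹ * a', by rw [mul_smul, ← h', smul_smul, inv_mul_cancel₀ a.ne_zero, one_smul]⟩
    subst hp
    rw [Units.ext (smul_left_injective F p.1.rep_nonzero h')]
  · rintro ⟨v, hv0, hv⟩
    obtain ⟨a, ha⟩ := Projectivization.exists_smul_eq_mk_rep F v hv0
    refine ⟨(⟨Projectivization.mk F v hv0, (iso_rep hv0).2 hv⟩, a⁻¹), Subtype.ext ?_⟩
    change ((a⁻¹ : Fˣ) : F) • (Projectivization.mk F v hv0).rep = v
    rw [← ha, Units.smul_def, smul_smul, Units.inv_mul, one_smul]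

variable (S : Setup B₀ q)
include S

theorem Setup.card_zero_length :
    ((Finset.univ.filter fun v : W => B₀ v v = 0).card : ℕ) = lengthCount σ (finrank F W) 0 := by
  rw [← card_length_eq S.h S.hN 0, Nat.card_eq_fintype_card, Fintype.card_subtype]

theorem Setup.ns_count : (q : ℤ) * (nsSet B₀).card =
    ((q : ℤ) - 1) * (q : ℤ) ^ finrank F W * ((q : ℤ) ^ finrank F W - (-1) ^ finrank F W) := by
  have h := (lengthCount_closed S.hF S.hσ S.conj (finrank F W)).2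
  have h1 := Finset.card_filter_add_card_filter_not (s := (univ : Finset W)) fun v => B₀ v v ≠ 0
  rw [Finset.card_univ, S.card_W] at h1
  have e : (univ.filter fun v : W => ¬B₀ v v ≠ 0).card = lengthCount σ (finrank F W) 0 := by
    rw [← S.card_zero_length]
    simp
  rw [e] at h1
  have h2 : ((nsSet B₀).card : ℤ) + lengthCount σ (finrank F W) 0 = ((q : ℤ) ^ finrank F W) ^ 2 := by
    exact_mod_cast h1
  rw [show (2 * finrank F W) = finrank F W * 2 by ring, pow_mul] at h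
  linear_combination (q : ℤ) * h2 - h

theorem Setup.iso_count : (q : ℤ) * (isoSet B₀).card =
    ((q : ℤ) ^ finrank F W) ^ 2 + ((q : ℤ) - 1) * (q : ℤ) ^ finrank F W * (-1) ^ finrank F W - q := by
  have h := (lengthCount_closed S.hF S.hσ S.conj (finrank F W)).2
  have e : isoSet B₀ = (univ.filter fun v : W => B₀ v v = 0).erase 0 := by
    ext v
    simp [isoSet, and_comm]
  have h1 : (isoSet B₀).card + 1 = lengthCount σ (finrank F W) 0 := by
    rw [← S.card_zero_length, e]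
    exact Finset.card_erase_add_one (mem_filter.2 ⟨mem_univ _, by simp⟩)
  have h2 : ((isoSet B₀).card : ℤ) + 1 = lengthCount σ (finrank F W) 0 := by exact_mod_cast h1
  rw [show (2 * finrank F W) = finrank F W * 2 by ring, pow_mul] at h
  linear_combination (q : ℤ) * h2 + h

theorem Setup.pts_count : ((q : ℤ) ^ 2 - 1) * Nat.card (IsoPts (hypExt B₀)) =
    (q : ℤ) ^ 3 * ((q : ℤ) ^ finrank F W) ^ 2 + ((q : ℤ) ^ 2 - q) * (q : ℤ) ^ finrank F W * (-1) ^ finrank F W - 1 := by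
  have hq : (q : ℤ) ≠ 0 := by have := S.q_two; exact_mod_cast (by omega : q ≠ 0)
  have h := mul_card_isoPts S.hV S.hNV
  rw [S.finrankV, S.hF] at h
  have h0 : 1 ≤ lengthCount σ (finrank F W + 2) 0 :=
    Nat.one_le_iff_ne_zero.2 (Nat.card_ne_zero.2 ⟨⟨0, by simp⟩, inferInstance⟩)
  have h1 : 1 ≤ q ^ 2 := Nat.one_le_pow _ _ (by have := S.q_two; omega)
  have h2 : ((q : ℤ) ^ 2 - 1) * Nat.card (IsoPts (hypExt B₀)) = lengthCount σ (finrank F W + 2) 0 - 1 := by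
    have := congrArg (Nat.cast : ℕ → ℤ) h
    push_cast [Nat.cast_sub h0, Nat.cast_sub h1] at this
    exact this
  have h3 := (lengthCount_closed S.hF S.hσ S.conj (finrank F W + 2)).2
  refine mul_left_cancel₀ hq ?_
  rw [show (2 * (finrank F W + 2)) = finrank F W * 2 + 4 by ring, pow_add, pow_mul, pow_add, pow_add] at h3
  linear_combination (q : ℤ) * h2 + h3

theorem Setup.pts_split : (q ^ 2 - 1) * Nat.card (IsoPts (hypExt B₀)) =
    (q ^ 2 - 1) * (q * Fintype.card W + 1) + q ^ 2 * (isoSet B₀).card := by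
  have h1 := S.pts_count
  have h2 := S.iso_count
  have h3 : 1 ≤ q ^ 2 := Nat.one_le_pow _ _ (by have := S.q_two; omega)
  refine Int.natCast_inj.1 ?_
  push_cast [Nat.cast_sub h3, S.card_W]
  linear_combination h1 - (q : ℤ) * h2

omit S in
theorem num_ti_arith (q Y : ℤ) (hq : 2 ≤ q) (hY : q ^ 4 ≤ Y) :
    q ^ 3 * (q ^ 3 * Y ^ 2 + (q ^ 2 - q) * Y - 1) * ((Y - 1) * (Y - q ^ 2)) ≤
      (q ^ 2 - 1) * Y * (Y ^ 2 + (q - 1) * Y - q) * (Y ^ 2 + (q - 1) * q ^ 2 * Y - q ^ 5) := by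
  have hq0 : (0 : ℤ) ≤ q := by linarith
  have h4 : (16 : ℤ) ≤ q ^ 4 := by
    have := pow_le_pow_left₀ (by norm_num : (0:ℤ) ≤ 2) hq 4
    linarith
  have hY0 : 0 ≤ Y := by linarith
  have hq24 : q ^ 2 ≤ q ^ 4 := pow_le_pow_right₀ (by linarith) (by norm_num)
  have hq5 : q ^ 5 ≤ Y ^ 2 := by
    calc q ^ 5 ≤ (q ^ 4) ^ 2 := by rw [← pow_mul]; exact pow_le_pow_right₀ (by linarith) (by norm_num)
      _ ≤ Y ^ 2 := pow_le_pow_left₀ (by positivity) hY 2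
  have hA : q ^ 3 * Y ^ 2 + (q ^ 2 - q) * Y - 1 ≤ q ^ 3 * Y ^ 2 + q ^ 2 * Y := by
    linarith [mul_nonneg hq0 hY0]
  have hB : (Y - 1) * (Y - q ^ 2) ≤ Y * (Y - q ^ 2) := by linarith
  have hB0 : 0 ≤ (Y - 1) * (Y - q ^ 2) := mul_nonneg (by linarith) (by linarith)
  have hC : Y ^ 2 ≤ Y ^ 2 + (q - 1) * Y - q := by
    linarith [mul_nonneg (show (0 : ℤ) ≤ q - 1 by linarith) (show (0 : ℤ) ≤ Y - 2 by linarith)]
  have hD : 0 ≤ Y ^ 2 + (q - 1) * q ^ 2 * Y - q ^ 5 := by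
    linarith [mul_nonneg (mul_nonneg (show (0 : ℤ) ≤ q - 1 by linarith) (sq_nonneg q)) hY0]
  have h7 : 0 ≤ (q ^ 2 - 1) * Y * (Y - q ^ 4) :=
    mul_nonneg (mul_nonneg (by nlinarith) hY0) (by linarith)
  have key : 0 ≤ (q ^ 2 - 1) * Y ^ 2 + ((q ^ 2 - 1) * (q - 1) * q ^ 2 - q ^ 6) * Y + (q ^ 8 - q ^ 7) := by
    rcases (show q = 2 ∨ 3 ≤ q by omega) with rfl | h3
    · norm_num at hY ⊢
      nlinarith
    · have h6 : 0 ≤ q ^ 3 - 2 * q ^ 2 - q + 1 := by nlinarith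
      have h8 : 0 ≤ q ^ 7 * (q - 1) := mul_nonneg (by positivity) (by linarith)
      linarith [mul_nonneg (mul_nonneg (sq_nonneg q) h6) hY0]
  calc q ^ 3 * (q ^ 3 * Y ^ 2 + (q ^ 2 - q) * Y - 1) * ((Y - 1) * (Y - q ^ 2))
      ≤ q ^ 3 * (q ^ 3 * Y ^ 2 + q ^ 2 * Y) * ((Y - 1) * (Y - q ^ 2)) :=
        mul_le_mul_of_nonneg_right (mul_le_mul_of_nonneg_left hA (by positivity)) hB0
    _ ≤ q ^ 3 * (q ^ 3 * Y ^ 2 + q ^ 2 * Y) * (Y * (Y - q ^ 2)) := mul_le_mul_of_nonneg_left hB (by positivity)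
    _ ≤ (q ^ 2 - 1) * Y * Y ^ 2 * (Y ^ 2 + (q - 1) * q ^ 2 * Y - q ^ 5) := by
        linarith [mul_nonneg (sq_nonneg Y) (mul_nonneg hY0 key),
          mul_nonneg (sq_nonneg Y) (show (0 : ℤ) ≤ q ^ 7 by positivity)]
    _ ≤ _ := mul_le_mul_of_nonneg_right (mul_le_mul_of_nonneg_left hC (mul_nonneg (by nlinarith) hY0)) hD

omit S in
theorem up_arith {q Y ε : ℤ} (hq : 2 ≤ q) (hY : 8 ≤ Y) (hε : Y * ε ≤ Y) :
    q ^ 3 * Y ^ 2 + (q ^ 2 - q) * Y * ε - 1 ≤ (q ^ 2 - 1) * ((q + 1) * Y ^ 2) := by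
  have h1 : 2 ≤ q ^ 2 - q := by nlinarith
  have h2 := mul_le_mul_of_nonneg_left hε (show (0 : ℤ) ≤ q ^ 2 - q by linarith)
  have h3 := mul_le_mul_of_nonneg_left hY (mul_nonneg (show (0 : ℤ) ≤ q ^ 2 - q - 1 by linarith)
    (show (0 : ℤ) ≤ Y by linarith))
  have h4 := mul_nonneg (show (0 : ℤ) ≤ 7 * (q ^ 2 - q) - 8 by linarith) (show (0 : ℤ) ≤ Y by linarith)
  linarith

omit S in
theorem even_arith {q Y ε : ℤ} (hq : 4 ≤ q) (hY : 64 ≤ Y) (hε : Y * ε ≤ Y) :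
    q ^ 3 * Y ^ 2 + (q ^ 2 - q) * Y * ε - 1 ≤ (q ^ 2 - 1) * (2 * ((q - 1) * Y * (Y - ε))) := by
  have h16 : (16 : ℤ) ≤ q ^ 2 := by nlinarith
  have h64 : 4 * q ^ 2 ≤ q ^ 3 := by nlinarith
  have ha : 0 ≤ q ^ 3 - 2 * q ^ 2 - 2 * q + 2 := by nlinarith
  have hb : 0 ≤ 2 * (q ^ 2 - 1) * (q - 1) + q ^ 2 - q := by nlinarith
  have hc : 2 * (q ^ 2 - 1) * (q - 1) + q ^ 2 - q ≤ 64 * (q ^ 3 - 2 * q ^ 2 - 2 * q + 2) := by nlinarith
  have h2 := mul_le_mul_of_nonneg_left hε hb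
  have h3 := mul_le_mul_of_nonneg_left hY (mul_nonneg ha (show (0 : ℤ) ≤ Y by linarith))
  have h4 := mul_le_mul_of_nonneg_right hc (show (0 : ℤ) ≤ Y by linarith)
  linarith

omit S in
theorem odd_arith {q Y ε : ℤ} (hq : 3 ≤ q) (hY : 27 ≤ Y) (hε : Y * ε ≤ Y) :
    2 * q * (q ^ 3 * Y ^ 2 + (q ^ 2 - q) * Y * ε - 1) ≤
      (q ^ 2 - 1) * (3 * (q + 1) * ((q - 1) * Y * (Y - ε))) := by
  have h9 : (9 : ℤ) ≤ q ^ 2 := by nlinarith
  have h27 : 3 * q ^ 2 ≤ q ^ 3 := by nlinarith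
  have h81 : 3 * q ^ 3 ≤ q ^ 4 := by nlinarith
  have ha : 0 ≤ q ^ 4 - 6 * q ^ 2 + 3 := by nlinarith
  have hb : 0 ≤ 3 * (q ^ 2 - 1) ^ 2 + 2 * q ^ 3 - 2 * q ^ 2 := by nlinarith
  have hc : 3 * (q ^ 2 - 1) ^ 2 + 2 * q ^ 3 - 2 * q ^ 2 ≤ 27 * (q ^ 4 - 6 * q ^ 2 + 3) := by nlinarith
  have h2 := mul_le_mul_of_nonneg_left hε hb
  have h3 := mul_le_mul_of_nonneg_left hY (mul_nonneg ha (show (0 : ℤ) ≤ Y by linarith))
  have h4 := mul_le_mul_of_nonneg_right hc (show (0 : ℤ) ≤ Y by linarith)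
  linarith

omit S in
theorem two_arith {Y ε : ℤ} (hY : 8 ≤ Y) (hε : ε = -1 ∨ ε = 1 ∧ 16 ≤ Y) :
    2 ^ 3 * Y ^ 2 + (2 ^ 2 - 2) * Y * ε - 1 ≤ (2 ^ 2 - 1) * (3 * ((2 - 1) * Y * (Y - ε))) := by
  rcases hε with rfl | ⟨rfl, h⟩ <;> nlinarith

omit S in
theorem iso_arith {q Y ε : ℤ} (hq : 2 ≤ q) (hY : 8 ≤ Y) (hY3 : q ^ 3 ≤ Y) (hε : Y * ε ≤ Y ∧ -Y ≤ Y * ε) :
    q ^ 3 * Y ^ 2 + (q ^ 2 - q) * Y * ε - 1 ≤ (q ^ 2 - 1) * (2 * q * (Y ^ 2 + (q - 1) * Y * ε - q)) := by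
  have h4 : 2 * q ≤ q ^ 2 := by nlinarith
  have h8 : 2 * q ^ 2 ≤ q ^ 3 := by nlinarith
  have hb : 0 ≤ q ^ 2 - q := by linarith
  have hc : 0 ≤ 2 * q * (q ^ 2 - 1) * (q - 1) := by
    have h1 : (0 : ℤ) ≤ q ^ 2 - 1 := by linarith
    have h2 : (0 : ℤ) ≤ q - 1 := by linarith
    positivity
  have h1 := mul_le_mul_of_nonneg_left hε.1 hb
  have h2 := mul_le_mul_of_nonneg_left hε.2 hc
  rcases (show q = 2 ∨ 3 ≤ q by omega) with rfl | h3
  · nlinarith
  · have h9 : (9 : ℤ) ≤ q ^ 2 := by nlinarith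
    have h27 : 3 * q ^ 2 ≤ q ^ 3 := by nlinarith
    have h81 : 3 * q ^ 3 ≤ q ^ 4 := by nlinarith
    have h6 : 9 * q ^ 4 ≤ q ^ 6 := by nlinarith
    have ha : 0 ≤ q ^ 3 - 2 * q := by linarith
    have hd : 2 * q * (q ^ 2 - 1) * (q - 1) + (q ^ 2 - q) + 2 * q ≤ q ^ 6 - 2 * q ^ 4 := by nlinarith
    have h5 := mul_le_mul_of_nonneg_left hY3 (mul_nonneg ha (show (0 : ℤ) ≤ Y by linarith))
    have h7 := mul_le_mul_of_nonneg_right hd (show (0 : ℤ) ≤ Y by linarith)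
    have h10 := mul_le_mul_of_nonneg_left hY3 (show (0 : ℤ) ≤ 2 * q by linarith)
    linarith

/-- The conditions follow from `M` being at most the number of isotropic points. -/
theorem Setup.num_of_le {M : ℕ} (hMN : M ≤ Nat.card (IsoPts (hypExt B₀)))
    (hfx : (q ^ 2 - 1) * M < (q ^ 2 - 1) * (q * Fintype.card W + 1) + q ^ 2 * (nsSet B₀).card) :
    Num B₀ q M := by
  have hd := S.three
  have hq := S.q_two
  have hns := S.ns_count
  have hiso := S.iso_count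
  have hpts := S.pts_count
  have hcW : (Fintype.card W : ℤ) = ((q : ℤ) ^ finrank F W) ^ 2 := by exact_mod_cast S.card_W
  set N := Nat.card (IsoPts (hypExt B₀))
  set qz : ℤ := (q : ℤ) with hqz
  have hq' : (2 : ℤ) ≤ qz := by rw [hqz]; exact_mod_cast hq
  set Y : ℤ := qz ^ finrank F W with hYdef
  have hY3 : qz ^ 3 ≤ Y := pow_le_pow_right₀ (by linarith) hd
  have hY8 : (8 : ℤ) ≤ Y := le_trans (by nlinarith [pow_le_pow_left₀ (by norm_num) hq' 3]) hY3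
  obtain ⟨ε, hεdef, hε⟩ : ∃ ε : ℤ, ε = (-1) ^ finrank F W ∧ (ε = 1 ∨ ε = -1) :=
    ⟨_, rfl, neg_one_pow_eq_or ℤ _⟩
  rw [← hεdef] at hns hiso hpts
  have hεY : Y * ε ≤ Y ∧ -Y ≤ Y * ε := by rcases hε with rfl | rfl <;> constructor <;> linarith
  have hc : 0 < qz ^ 2 - 1 := by nlinarith
  have hM' : (qz ^ 2 - 1) * (M : ℤ) ≤ qz ^ 3 * Y ^ 2 + (qz ^ 2 - qz) * Y * ε - 1 := by
    rw [← hpts]
    exact mul_le_mul_of_nonneg_left (by exact_mod_cast hMN) hc.le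
  have hsY : (q : ℤ) * q * 1 = qz ^ 2 := by rw [hqz]; ring
  refine ⟨?_, fun he h4 => ?_, fun ho => ?_, fun h2 => ?_, fun h2 h3 => ?_, ?_, fun he => ?_, hfx, ?_, S.pts_split⟩
  · suffices h : (M : ℤ) ≤ (qz + 1) * Fintype.card W by rw [hqz] at h; exact_mod_cast h
    refine le_of_mul_le_mul_left (hM'.trans ?_) hc
    rw [hcW]
    exact up_arith hq' hY8 hεY.1
  · suffices h : (M : ℤ) ≤ 2 * (qz * (nsSet B₀).card) by
      rw [← mul_assoc, hqz] at h; exact_mod_cast h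
    refine le_of_mul_le_mul_left (hM'.trans ?_) hc
    rw [hns]
    have h4' : (4 : ℤ) ≤ qz := by rw [hqz]; exact_mod_cast h4
    have hY64 : (64 : ℤ) ≤ Y := le_trans (by nlinarith [pow_le_pow_left₀ (by norm_num) h4' 3]) hY3
    exact even_arith h4' hY64 hεY.1
  · have h3' : (3 : ℤ) ≤ qz := by
      have : 3 ≤ q := by rcases ho with ⟨r, rfl⟩; omega
      rw [hqz]; exact_mod_cast this
    suffices h : qz * (2 * (M : ℤ)) ≤ qz * (3 * (qz + 1) * (nsSet B₀).card) by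
      have h' := le_of_mul_le_mul_left h (by linarith)
      rw [hqz] at h'
      exact_mod_cast h'
    refine le_of_mul_le_mul_left ?_ hc
    rw [show qz * (3 * (qz + 1) * ((nsSet B₀).card : ℤ)) = 3 * (qz + 1) * (qz * (nsSet B₀).card) by ring, hns,
      show (qz ^ 2 - 1) * (qz * (2 * (M : ℤ))) = 2 * qz * ((qz ^ 2 - 1) * M) by ring]
    refine (mul_le_mul_of_nonneg_left hM' (by linarith)).trans ?_
    have hY27 : (27 : ℤ) ≤ Y := le_trans (by nlinarith [pow_le_pow_left₀ (by norm_num) h3' 3]) hY3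
    exact odd_arith h3' hY27 hεY.1
  · have h2' : qz = 2 := by rw [hqz, h2]; norm_num
    rw [h2'] at hM' hns
    suffices h : (M : ℤ) ≤ 6 * (nsSet B₀).card by exact_mod_cast h
    refine le_of_mul_le_mul_left (hM'.trans ?_) (show (0 : ℤ) < 2 ^ 2 - 1 by norm_num)
    rw [show (6 : ℤ) * (nsSet B₀).card = 3 * (2 * (nsSet B₀).card) by ring, hns]
    refine two_arith hY8 (hε.elim (fun h => Or.inr ⟨h, ?_⟩) Or.inl)
    have h4 : 4 ≤ finrank F W := by
      by_contra hcon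
      rw [show finrank F W = 3 by omega, h] at hεdef
      norm_num at hεdef
    calc (16 : ℤ) ≤ qz ^ 4 := by rw [h2']; norm_num
      _ ≤ Y := pow_le_pow_right₀ (by linarith) h4
  · have h2' : qz = 2 := by rw [hqz, h2]; norm_num
    have hY' : Y = 8 := by rw [hYdef, h3, h2']; norm_num
    rw [h3] at hεdef
    norm_num at hεdef
    subst hεdef
    rw [h2', hY'] at hM' hns
    omega
  · suffices h : (M : ℤ) ≤ 2 * qz * (qz * (isoSet B₀).card) by
      rw [hqz, show 2 * (q : ℤ) * ((q : ℤ) * (isoSet B₀).card) = 2 * (q : ℤ) ^ 2 * (isoSet B₀).card by ring] at h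
      exact_mod_cast h
    refine le_of_mul_le_mul_left (hM'.trans ?_) hc
    rw [hiso]
    exact iso_arith hq' hY8 hY3 hεY
  · have hε1 : ε = 1 := by rw [hεdef, he.neg_one_pow]
    subst hε1
    have hd4 : 4 ≤ finrank F W := by obtain ⟨r, hr⟩ := he; omega
    have hY4 : qz ^ 4 ≤ Y := pow_le_pow_right₀ (by linarith) hd4
    have he' : Even (finrank F W - 2) := by obtain ⟨r, hr⟩ := he; exact ⟨r - 1, by omega⟩
    have hl := (lengthCount_closed S.hF S.hσ S.conj (finrank F W - 2)).2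
    have h0 : 1 ≤ lengthCount σ (finrank F W - 2) 0 :=
      Nat.one_le_iff_ne_zero.2 (Nat.card_ne_zero.2 ⟨⟨0, by simp⟩, inferInstance⟩)
    have hY' : qz ^ 2 * qz ^ (finrank F W - 2) = Y := by rw [← pow_add, hYdef]; congr 1; omega
    rw [← hqz, show 2 * (finrank F W - 2) = (finrank F W - 2) * 2 by ring, pow_mul, he'.neg_one_pow, mul_one] at hl
    have h5 : qz ^ 5 * ((lengthCount σ (finrank F W - 2) 0 : ℤ) - 1) =
        Y ^ 2 + (qz - 1) * qz ^ 2 * Y - qz ^ 5 := by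
      rw [← hY']
      linear_combination qz ^ 4 * hl
    have hY1 : 1 ≤ q ^ finrank F W := Nat.one_le_pow _ _ (by omega)
    have hY2 : q ^ 2 ≤ q ^ finrank F W := Nat.pow_le_pow_right (by omega) (by omega)
    suffices h : (M : ℤ) * ((Y - 1) * (Y - qz ^ 2)) ≤
        qz * Y * ((isoSet B₀).card * (qz ^ 2 * ((lengthCount σ (finrank F W - 2) 0 : ℤ) - 1))) by
      refine Int.ofNat_le.1 ?_
      push_cast [Nat.cast_sub hY1, Nat.cast_sub hY2, Nat.cast_sub h0]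
      exact h
    refine le_of_mul_le_mul_left ?_ (mul_pos hc (show (0 : ℤ) < qz ^ 3 by positivity))
    calc (qz ^ 2 - 1) * qz ^ 3 * ((M : ℤ) * ((Y - 1) * (Y - qz ^ 2)))
        = qz ^ 3 * ((qz ^ 2 - 1) * M) * ((Y - 1) * (Y - qz ^ 2)) := by ring
      _ ≤ qz ^ 3 * (qz ^ 3 * Y ^ 2 + (qz ^ 2 - qz) * Y - 1) * ((Y - 1) * (Y - qz ^ 2)) := by
          refine mul_le_mul_of_nonneg_right (mul_le_mul_of_nonneg_left ?_ (by positivity)) ?_
          · rwa [mul_one] at hM'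
          · have : qz ^ 2 ≤ qz ^ 3 := pow_le_pow_right₀ (by linarith) (by norm_num)
            exact mul_nonneg (by linarith) (by linarith)
      _ ≤ _ := num_ti_arith qz Y hq' hY4
      _ = (qz ^ 2 - 1) * Y * (qz * (isoSet B₀).card) * (qz ^ 5 * ((lengthCount σ (finrank F W - 2) 0 : ℤ) - 1)) := by
          rw [hiso, h5, mul_one]
      _ = _ := by ring
  · rw [← S.pts_split]
    exact Nat.mul_le_mul_left _ hMN

/-- The case of the isotropic points. -/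
theorem Setup.num_iso (h : 3 ≤ q ∨ Odd (finrank F W)) : Num B₀ q (Nat.card (IsoPts (hypExt B₀))) := by
  refine S.num_of_le le_rfl ?_
  rw [S.pts_split]
  refine Nat.add_lt_add_left (Nat.mul_lt_mul_of_pos_left ?_ (by have := S.q_two; positivity)) _
  have hq : (2 : ℤ) ≤ (q : ℤ) := by exact_mod_cast S.q_two
  suffices h' : (q : ℤ) * (isoSet B₀).card < (q : ℤ) * (nsSet B₀).card by
    exact_mod_cast lt_of_mul_lt_mul_left h' (by linarith)
  rw [S.iso_count, S.ns_count]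
  have hY : (q : ℤ) ^ 3 ≤ (q : ℤ) ^ finrank F W := pow_le_pow_right₀ (by linarith) S.three
  rcases h with h3 | ho
  · have h3' : (3 : ℤ) ≤ (q : ℤ) := by exact_mod_cast h3
    have hY27 : (27 : ℤ) ≤ (q : ℤ) ^ finrank F W := le_trans (by nlinarith [pow_le_pow_left₀ (by norm_num) h3' 3]) hY
    rcases neg_one_pow_eq_or ℤ (finrank F W) with he | he <;> rw [he] <;>
      nlinarith [mul_le_mul_of_nonneg_left hY27 (show (0 : ℤ) ≤ ((q : ℤ) - 2) * (q : ℤ) ^ finrank F W by nlinarith)]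
  · rw [ho.neg_one_pow]
    have hY8 : (8 : ℤ) ≤ (q : ℤ) ^ finrank F W := le_trans (by nlinarith [pow_le_pow_left₀ (by norm_num) hq 3]) hY
    nlinarith [mul_nonneg (show (0:ℤ) ≤ (q:ℤ) - 2 by linarith) (sq_nonneg ((q : ℤ) ^ finrank F W))]

end CfsgLib.KnownA.MinIndexUnitary
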