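import Cfsg.Agent.Lib.KnownA.MinIndexUnitary.Free
import Cfsg.Agent.Lib.KnownA.MinIndexUnitary.Numerics

/-!
# Minimal index in unitary groups: from subgroups to actions, attainment, transfer to `PSU`
-/

set_option autoImplicit false
set_option linter.unusedSectionVars false

open Module MulAction CfsgLib.Classical
open scoped LinearAlgebra.Projectivization

namespace CfsgLib.KnownA.MinIndexUnitary

variable {F : Type*} [Field F] [Fintype F] [DecidableEq F] {σ : F →+* F} {q : ℕ}

section Model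

variable {W : Type*} [AddCommGroup W] [Module F W] [FiniteDimensional F W] [Fintype W] [DecidableEq W]
  {B₀ : W →ₛₗ[σ] W →ₗ[F] F} (S : Setup B₀ q)
include S

theorem Setup.finite_gp : Finite (Gp B₀) := by
  have : Finite (W × (F × F)) := inferInstance
  have : Finite ((W × (F × F)) ≃ₗ[F] W × (F × F)) :=
    Finite.of_injective (fun e => (e : W × (F × F) → W × (F × F))) DFunLike.coe_injective
  infer_instance

/-- Proper subgroups have index at least `M`. -/
theorem Setup.index_ge {M : ℕ} (hM : Num B₀ q M) (K : Subgroup (Gp B₀)) (hK : K ≠ ⊤) : M ≤ K.index := by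
  classical
  by_contra! hlt
  have := S.finite_gp
  have := Fintype.ofFinite (Gp B₀ ⧸ K)
  obtain ⟨η, hη⟩ := exists_char (F := F) S.conj
  let A : Act B₀ q (Gp B₀ ⧸ K) :=
    { S := S
      π := MulAction.toPermHom _ _
      η := η
      hη := hη
      trans := fun a b => MulAction.exists_smul_eq (Gp B₀) a b
      two := by
        obtain ⟨g, hg⟩ : ∃ g, g ∉ K := by
          by_contra! h
          exact hK (eq_top_iff.2 fun g _ => h g)
        exact ⟨(g : Gp B₀ ⧸ K), ((1 : Gp B₀) : Gp B₀ ⧸ K), fun e => hg (by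
          simpa using K.inv_mem (QuotientGroup.eq.1 e))⟩ }
  exact A.absurd_small hM (by rwa [← Nat.card_eq_fintype_card])

/-- Central elements fix isotropic lines. -/
theorem Setup.center_line {z : Gp B₀} (hz : z ∈ Subgroup.center (Gp B₀)) {v : W × (F × F)}
    (hv : hypExt B₀ v v = 0) (hv0 : v ≠ 0) : ∃ c : F, z.1.1 v = c • v := by
  obtain ⟨δ, hδ, hδ'⟩ := S.conj.exists_trace_zero
  obtain ⟨t, ht⟩ := S.hV.exists_uTv S.hNV hv hδ'
  set t' : Gp B₀ := ⟨t, MonoidHom.mem_ker.2 (S.hV.idet_uTv ht)⟩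
  have h : z.1 * t * z.1⁻¹ = t := by
    have h1 := congrArg Subtype.val (Subgroup.mem_center_iff.1 hz t')
    change t * z.1 = z.1 * t at h1
    rw [← h1, mul_inv_cancel_right]
  have hc := ht.conj z.1
  rw [h] at hc
  set u := z.1.1 v with hu
  obtain ⟨s, -, hs, hvs⟩ := S.hV.exists_partner (nondegOn_iff.2 fun x _ hx => S.hNV x fun w => hx w trivial :
    NondegOn (hypExt B₀) (⊤ : Submodule F (W × (F × F)))) trivial hv0 hv
  have e := (hc.2.2 s).symm.trans (ht.2.2 s)
  rw [hvs, mul_one, add_right_inj] at e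
  have hne : δ * hypExt B₀ u s ≠ 0 := fun e0 => hv0 (by
    rw [e0, zero_smul] at e
    exact (smul_eq_zero.1 e.symm).resolve_left hδ)
  exact ⟨(δ * hypExt B₀ u s)⁻¹ * δ, by rw [mul_smul, ← e, smul_smul, inv_mul_cancel₀ hne, one_smul]⟩

/-- A subgroup of index the number of isotropic points, containing the centre. -/
theorem Setup.exists_index_iso : ∃ K : Subgroup (Gp B₀),
    Subgroup.center (Gp B₀) ≤ K ∧ K.index = Nat.card (IsoPts (hypExt B₀)) := by
  have := S.hV.isoPts_pretransitive S.hNV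
  set p := isoPt (hypExt B₀) (ee_ne_zero (F := F) (W := W)) (b_ee_ee B₀)
  refine ⟨MulAction.stabilizer (Gp B₀) p, fun z hz => ?_, ?_⟩
  · obtain ⟨c, hc⟩ := S.center_line hz (b_ee_ee B₀) ee_ne_zero
    exact MulAction.mem_stabilizer_iff.2 (smul_isoPt_eq z ee_ne_zero (b_ee_ee B₀) ee_ne_zero (b_ee_ee B₀) hc)
  · rw [MulAction.index_stabilizer, MulAction.orbit_eq_univ, Set.ncard_univ]

theorem Setup.setupV : Setup (hypExt B₀) q :=
  ⟨S.hV, S.hNV, by have := S.four; omega, S.hF, S.hσ⟩

/-- A subgroup of index the number of non-isotropic points, containing the centre. -/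
theorem Setup.exists_index_ns : ∃ K : Subgroup (Gp B₀),
    Subgroup.center (Gp B₀) ≤ K ∧
      (q ^ 2 - 1) * K.index = (nsSet (hypExt B₀)).card := by
  classical
  have SV := S.setupV
  obtain ⟨v, -, hvv⟩ := SV.exists_ns_perp 0
  have hv1 : hypExt B₀ v v ≠ 0 := by rw [hvv]; exact one_ne_zero
  have hv0 : v ≠ 0 := fun e => hv1 (by rw [e, map_zero])
  set p : ℙ F (W × (F × F)) := Projectivization.mk F v hv0 with hp
  refine ⟨MulAction.stabilizer (Gp B₀) p, fun z hz => ?_, ?_⟩
  · have hmem : z.1.1 v ∈ Submodule.span F {v} := by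
      by_contra hmem
      obtain ⟨a, haa, hva, hay⟩ := SV.exists_iso_sees hv1 hmem
      apply hay
      have ha0 : a ≠ 0 := fun e => hay (by rw [e, map_zero, LinearMap.zero_apply])
      obtain ⟨c, hc⟩ := S.center_line hz haa ha0
      have hc0 : c ≠ 0 := fun e => ha0 (z.1.1.injective (by rw [hc, e, zero_smul, map_zero]))
      rw [show a = c⁻¹ • z.1.1 a by rw [hc, smul_smul, inv_mul_cancel₀ hc0, one_smul], map_smulₛₗ,
        LinearMap.smul_apply, isomGroup_apply, S.hV.isRefl _ _ hva, smul_zero]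
    obtain ⟨c, hc⟩ := Submodule.mem_span_singleton.1 hmem
    rw [MulAction.mem_stabilizer_iff, hp, sIsom_smul_mk, Projectivization.mk_eq_mk_iff']
    exact ⟨c, hc⟩
  · rw [MulAction.index_stabilizer]
    have horb : ∀ (w : W × (F × F)) (hw : w ≠ 0),
        Projectivization.mk F w hw ∈ MulAction.orbit (Gp B₀) p ↔ hypExt B₀ w w ≠ 0 := by
      intro w hw
      constructor
      · rintro ⟨g, hg⟩
        change g • p = _ at hg
        rw [hp, sIsom_smul_mk, Projectivization.mk_eq_mk_iff'] at hg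
        obtain ⟨c, hc⟩ := hg
        have h1 := (isomGroup_apply g.1 v v).trans hvv
        rw [← hc, S.hV.smul_self] at h1
        exact fun e => one_ne_zero (α := F) (by rw [← h1, e, mul_zero])
      · intro hww
        obtain ⟨c, hc⟩ := S.hV.exists_scaled hww (map_one σ)
        obtain ⟨g₀, hg₀⟩ := S.hV.witt_family S.hNV (a := fun _ : Unit => v) (b := fun _ : Unit => c • w)
          (linearIndependent_unique_iff.2 hv0)
          (linearIndependent_unique_iff.2 fun e => one_ne_zero (α := F) (by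
            rw [← hc, show c • w = 0 from e, map_zero]))
          fun _ _ => hvv.trans hc.symm
        obtain ⟨g, hg, hgd⟩ := SV.adjust_det g₀ v (δ := 1) (by simp)
        refine ⟨⟨g, MonoidHom.mem_ker.2 hgd⟩, ?_⟩
        change (⟨g, MonoidHom.mem_ker.2 hgd⟩ : Gp B₀) • p = _
        rw [hp, sIsom_smul_mk, Projectivization.mk_eq_mk_iff']
        exact ⟨c, by rw [hg, hg₀ ()]⟩
    rw [← Nat.card_coe_set_eq, ← S.hF, ← Fintype.card_units, ← Nat.card_eq_fintype_card, mul_comm,
      ← Nat.card_prod, ← Nat.card_eq_finsetCard]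
    refine Nat.card_congr (Equiv.ofBijective (fun x : MulAction.orbit (Gp B₀) p × Fˣ =>
      (⟨(x.2 : F) • x.1.1.rep, by
        refine mem_nsSet.2 fun e => ?_
        have h1 := (horb x.1.1.rep x.1.1.rep_nonzero).1 (by rw [Projectivization.mk_rep]; exact x.1.2)
        exact h1 ((self_smul_eq_zero x.2.ne_zero _).1 e)⟩ : nsSet (hypExt B₀))) ⟨?_, ?_⟩)
    · rintro ⟨r, a⟩ ⟨r', a'⟩ h
      have h' : (a : F) • r.1.rep = (a' : F) • r'.1.rep := congrArg Subtype.val h
      have hr : r = r' := by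
        refine Subtype.ext ?_
        rw [← Projectivization.mk_rep r.1, ← Projectivization.mk_rep r'.1, Projectivization.mk_eq_mk_iff']
        exact ⟨(a : F)⁻¹ * a', by rw [mul_smul, ← h', smul_smul, inv_mul_cancel₀ a.ne_zero, one_smul]⟩
      subst hr
      rw [Units.ext (smul_left_injective F r.1.rep_nonzero h')]
    · rintro ⟨w, hw⟩
      rw [mem_nsSet] at hw
      have hw0 : w ≠ 0 := fun e => hw (by rw [e, map_zero])
      obtain ⟨a, ha⟩ := Projectivization.exists_smul_eq_mk_rep F w hw0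
      refine ⟨(⟨Projectivization.mk F w hw0, (horb w hw0).2 hw⟩, a⁻¹), Subtype.ext ?_⟩
      change ((a⁻¹ : Fˣ) : F) • (Projectivization.mk F w hw0).rep = w
      rw [← ha, Units.smul_def, smul_smul, Units.inv_mul, one_smul]

end Model

/-! ### The bridge to `PSU` -/

theorem stdSetup (hc : IsConjugation σ) (hF : Fintype.card F = q ^ 2) (hσ : ∀ x, σ x = x ^ q) {d : ℕ}
    (hd : 3 ≤ d) : Setup (stdHerm σ d) q :=
  ⟨stdHerm_isHermitian hc d, stdHerm_sepRight d, by rw [finrank_fin_fun]; exact hd, hF, hσ⟩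

theorem exists_su_model (hc : IsConjugation σ) (hF : Fintype.card F = q ^ 2) (hσ : ∀ x, σ x = x ^ q) {d : ℕ}
    (hd : 3 ≤ d) : Nonempty (Cfsg.SU (d + 2) F q ≃* Gp (stdHerm σ d)) := by
  have S := stdSetup hc hF hσ hd
  obtain ⟨e, he⟩ := (stdHerm_isHermitian hc (d + 2)).exists_isometry S.hV (stdHerm_sepRight _) S.hNV
    (by rw [S.finrankV, finrank_fin_fun, finrank_fin_fun])
  let f : isomGroup (stdHerm σ (d + 2)) →* isomGroup (hypExt (stdHerm σ d)) :=
    { toFun := fun g => ⟨e.symm.trans (g.1.trans e), fun x y => by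
        change hypExt _ (e (g.1 (e.symm x))) (e (g.1 (e.symm y))) = _
        rw [he, isomGroup_apply, ← he, LinearEquiv.apply_symm_apply, LinearEquiv.apply_symm_apply]⟩
      map_one' := Subtype.ext (LinearEquiv.ext fun x => by simp)
      map_mul' := fun g g' => Subtype.ext (LinearEquiv.ext fun x => by
        change e (g.1 (g'.1 (e.symm x))) = e (g.1 (e.symm (e (g'.1 (e.symm x)))))
        rw [LinearEquiv.symm_apply_apply]) }
  have hinj : Function.Injective f := fun g g' h => Subtype.ext (LinearEquiv.ext fun x => by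
    have := congrArg (fun k : isomGroup (hypExt (stdHerm σ d)) => e.symm (k.1 (e x))) h
    simpa [f] using this)
  have hdet : ∀ g, idet _ (f g) = idet _ g := fun g => by
    change LinearMap.det ((e : (Fin (d + 2) → F) →ₗ[F] (Fin d → F) × (F × F)).comp
      ((g.1 : (Fin (d + 2) → F) →ₗ[F] (Fin (d + 2) → F)).comp
        (e.symm : (Fin d → F) × (F × F) →ₗ[F] (Fin (d + 2) → F)))) = _
    exact LinearMap.det_conj (g.1 : (Fin (d + 2) → F) →ₗ[F] (Fin (d + 2) → F)) e
  have hmap : (sIsom (stdHerm σ (d + 2))).map f = sIsom (hypExt (stdHerm σ d)) := by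
    ext k
    constructor
    · rintro ⟨g, hg, rfl⟩
      exact MonoidHom.mem_ker.2 ((hdet g).trans (MonoidHom.mem_ker.1 hg))
    · intro hk
      let g : isomGroup (stdHerm σ (d + 2)) := ⟨e.trans (k.1.trans e.symm), fun x y => by
        change stdHerm σ (d + 2) (e.symm (k.1 (e x))) (e.symm (k.1 (e y))) = _
        rw [← he, LinearEquiv.apply_symm_apply, LinearEquiv.apply_symm_apply, isomGroup_apply, he]⟩
      have hg : f g = k := Subtype.ext (LinearEquiv.ext fun x => by simp [f, g])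
      exact ⟨g, MonoidHom.mem_ker.2 (by rw [← hdet, hg]; exact MonoidHom.mem_ker.1 hk), hg⟩
  exact ⟨(suEquiv hσ).trans (((sIsom _).equivMapOfInjective f hinj).trans (MulEquiv.subgroupCongr hmap))⟩

/-- Lower bounds and attainment pass to `PSU`. -/
theorem psu_transfer (hc : IsConjugation σ) (hF : Fintype.card F = q ^ 2) (hσ : ∀ x, σ x = x ^ q) {d : ℕ}
    (hd : 3 ≤ d) {M : ℕ} (hM : Num (stdHerm σ d) q M)
    (hatt : ∃ K : Subgroup (Gp (stdHerm σ d)), Subgroup.center _ ≤ K ∧ K.index = M) :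
    (∀ H : Subgroup (Cfsg.PSU (d + 2) F q), H ≠ ⊤ → M ≤ H.index) ∧
      ∃ H : Subgroup (Cfsg.PSU (d + 2) F q), H.index = M := by
  have S := stdSetup hc hF hσ hd
  obtain ⟨Φ⟩ := exists_su_model hc hF hσ hd
  let π : Gp (stdHerm σ d) →* Cfsg.PSU (d + 2) F q := (QuotientGroup.mk' _).comp Φ.symm.toMonoidHom
  have hπ : Function.Surjective π := (QuotientGroup.mk'_surjective _).comp Φ.symm.surjective
  constructor
  · intro H hH
    rw [← Subgroup.index_comap_of_surjective H hπ]
    exact S.index_ge hM _ fun h => hH (Subgroup.comap_injective hπ (by rw [h, Subgroup.comap_top]))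
  · obtain ⟨K, hZ, hK⟩ := hatt
    refine ⟨K.map π, ?_⟩
    rw [Subgroup.index_map_eq K hπ (fun x hx => hZ ?_), hK]
    have hx' : Φ.symm x ∈ Subgroup.center ↥(Cfsg.SU (d + 2) F q) := (QuotientGroup.eq_one_iff _).1 hx
    refine Subgroup.mem_center_iff.2 fun g => Φ.symm.injective ?_
    rw [map_mul, map_mul]
    exact Subgroup.mem_center_iff.1 hx' _

/-- The bound given by the isotropic points. -/
theorem psu_min_index_iso (hF : Fintype.card F = q ^ 2) {n : ℕ} (hn : 5 ≤ n) (h : 3 ≤ q ∨ Odd n) :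
    ∃ N : ℕ, ((q : ℤ) ^ 2 - 1) * N = ((q : ℤ) ^ n - (-1) ^ n) * ((q : ℤ) ^ (n - 1) + (-1) ^ n) ∧
      (∀ H : Subgroup (Cfsg.PSU n F q), H ≠ ⊤ → N ≤ H.index) ∧
      ∃ H : Subgroup (Cfsg.PSU n F q), H.index = N := by
  obtain ⟨d, rfl⟩ : ∃ d, n = d + 2 := ⟨n - 2, by omega⟩
  obtain ⟨σ, hσ, hc⟩ := exists_frob hF
  have S := stdSetup (d := d) hc hF hσ (by omega)
  refine ⟨Nat.card (IsoPts (hypExt (stdHerm σ d))), ?_, psu_transfer hc hF hσ (by omega)
    (S.num_iso (h.imp_right fun ho => by rw [finrank_fin_fun]; exact (Nat.odd_add.1 ho).2 even_two))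
    S.exists_index_iso⟩
  have h1 := S.pts_count
  rw [finrank_fin_fun] at h1
  rw [h1, show d + 2 - 1 = d + 1 by omega, pow_add, pow_add, pow_add]
  rcases neg_one_pow_eq_or ℤ d with e | e <;> rw [e] <;> ring

/-- The bound given by the non-isotropic points over the field with four elements, in even dimension. -/
theorem psu_min_index_two (hF : Fintype.card F = 2 ^ 2) {n : ℕ} (hn : 5 ≤ n) (he : Even n) :
    ∃ M : ℕ, 3 * M = 2 ^ (n - 1) * (2 ^ n - 1) ∧
      (∀ H : Subgroup (Cfsg.PSU n F 2), H ≠ ⊤ → M ≤ H.index) ∧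
      ∃ H : Subgroup (Cfsg.PSU n F 2), H.index = M := by
  classical
  obtain ⟨d, rfl⟩ : ∃ d, n = d + 2 := ⟨n - 2, by omega⟩
  obtain ⟨σ, hσ, hc⟩ := exists_frob hF
  have S := stdSetup (d := d) hc hF hσ (by omega)
  obtain ⟨K, hK, hKi⟩ := S.exists_index_ns
  rw [show 2 ^ 2 - 1 = 3 from rfl] at hKi
  have hde : Even d := (Nat.even_add.1 he).2 even_two
  have hV := S.setupV.ns_count
  rw [S.finrankV, finrank_fin_fun, pow_add (-1 : ℤ), hde.neg_one_pow] at hV
  have hKi' : (3 : ℤ) * K.index = (nsSet (hypExt (stdHerm σ d))).card := by exact_mod_cast hKi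
  have hpts := S.pts_count
  have hns := S.ns_count
  rw [finrank_fin_fun, hde.neg_one_pow] at hpts hns
  push_cast at hV hpts hns
  norm_num [pow_add] at hV hpts hns
  have hY : (1 : ℤ) ≤ 2 ^ d := one_le_pow₀ (by norm_num)
  refine ⟨K.index, ?_, psu_transfer hc hF hσ (by omega) (S.num_of_le ?_ ?_) ⟨K, hK, rfl⟩⟩
  · refine Int.natCast_inj.1 ?_
    have h1 : 1 ≤ 2 ^ (d + 2) := Nat.one_le_two_pow
    rw [show d + 2 - 1 = d + 1 by omega]
    push_cast [Nat.cast_sub h1]
    rw [pow_add, pow_add]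
    linarith
  · refine Int.ofNat_le.1 ?_
    nlinarith
  · refine Int.ofNat_lt.1 ?_
    have hcW : (Fintype.card (Fin d → F) : ℤ) = ((2 : ℤ) ^ d) ^ 2 := by
      have := S.card_W
      rw [finrank_fin_fun] at this
      exact_mod_cast this
    push_cast
    rw [hcW]
    norm_num
    nlinarith

end CfsgLib.KnownA.MinIndexUnitary
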