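import Cfsg.Agent.Lib.KnownA.MinIndexUnitary.Eich
import Cfsg.Agent.Lib.Classical.HermMatrixSimple

/-!
# Minimal index in unitary groups: the model `W × (F × F)` and the Levi factor
-/

set_option autoImplicit false
set_option linter.unusedSectionVars false

open Module CfsgLib.Classical

namespace CfsgLib.KnownA.MinIndexUnitary

variable {F : Type*} [Field F] {W : Type*} [AddCommGroup W] [Module F W] {σ : F →+* F}

/-- The form `B₀` plus a hyperbolic plane. -/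
def hypExt (B₀ : W →ₛₗ[σ] W →ₗ[F] F) : (W × (F × F)) →ₛₗ[σ] (W × (F × F)) →ₗ[F] F :=
  LinearMap.mk₂'ₛₗ σ (RingHom.id F)
    (fun u v => B₀ u.1 v.1 + σ u.2.1 * v.2.2 + σ u.2.2 * v.2.1)
    (fun u u' v => by simp [map_add]; ring)
    (fun a u v => by simp [map_smulₛₗ]; ring)
    (fun u v v' => by simp [map_add]; ring)
    (fun a u v => by simp [map_smul]; ring)

/-- The first isotropic vector of the added plane. -/
def ee : W × (F × F) := (0, (1, 0))

/-- The second isotropic vector of the added plane. -/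
def ff : W × (F × F) := (0, (0, 1))

/-- The inclusion of `W`. -/
def iw : W →ₗ[F] W × (F × F) := LinearMap.inl F W (F × F)

theorem iw_apply (u : W) : (iw u : W × (F × F)) = (u, (0, 0)) := rfl

theorem ee_ne_zero : (ee : W × (F × F)) ≠ 0 := fun e => by simp [ee, Prod.ext_iff] at e

theorem split (v : W × (F × F)) : v = iw v.1 + v.2.1 • ee + v.2.2 • ff := by
  simp [iw, ee, ff]

/-- The elements of trace zero. -/
def traceZero (σ : F →+* F) : AddSubgroup F :=
  (AddMonoidHom.id F + σ.toAddMonoidHom).ker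

theorem mem_traceZero {c : F} : c ∈ traceZero σ ↔ c + σ c = 0 := Iff.rfl

/-- The standing hypotheses. -/
structure Setup [Fintype F] (B₀ : W →ₛₗ[σ] W →ₗ[F] F) (q : ℕ) : Prop where
  h : IsHermitian B₀
  hN : B₀.SeparatingRight
  three : 3 ≤ finrank F W
  hF : Fintype.card F = q ^ 2
  hσ : ∀ x, σ x = x ^ q

variable (B₀ : W →ₛₗ[σ] W →ₗ[F] F)

theorem hypExt_apply (u v : W × (F × F)) :
    hypExt B₀ u v = B₀ u.1 v.1 + σ u.2.1 * v.2.2 + σ u.2.2 * v.2.1 := rfl

theorem b_ee (v : W × (F × F)) : hypExt B₀ ee v = v.2.2 := by simp [hypExt_apply, ee]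

theorem b_iw (u : W) (v : W × (F × F)) : hypExt B₀ (iw u) v = B₀ u v.1 := by
  simp [hypExt_apply, iw_apply]

theorem b_iw_iw (u v : W) : hypExt B₀ (iw u) (iw v) = B₀ u v := by rw [b_iw]; rfl

theorem b_ee_ee : hypExt B₀ ee (ee : W × (F × F)) = 0 := by rw [b_ee]; rfl

theorem b_ee_iw (u : W) : hypExt B₀ ee (iw u) = 0 := by simp [b_ee, iw_apply]

/-- The group acted with. -/
abbrev Gp := ↥(sIsom (hypExt B₀))

/-- The parameters of the unipotent radical. -/
def Ok (w : W) (c : F) : Prop := c + σ c = -B₀ w w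

variable [Fintype F] [FiniteDimensional F W] {B₀} {q : ℕ} (S : Setup B₀ q)
include S

theorem Setup.conj : IsConjugation σ := S.h.conj

theorem Setup.hV : IsHermitian (hypExt B₀) :=
  ⟨S.h.conj, fun u v => by
    simp only [hypExt_apply, map_add, map_mul, S.h.symm, S.h.conj.invol]
    ring⟩

theorem Setup.hNV : (hypExt B₀).SeparatingRight := by
  intro y hy
  have h1 : y.2.2 = 0 := by simpa [b_ee] using hy ee
  have h2 : y.2.1 = 0 := by simpa [hypExt_apply, ff] using hy ff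
  have h3 : y.1 = 0 := S.hN y.1 fun u => by simpa [b_iw] using hy (iw u)
  exact Prod.ext h3 (Prod.ext h2 h1)

theorem Setup.finrankV : finrank F (W × (F × F)) = finrank F W + 2 := by
  simp [Module.finrank_prod]

theorem Setup.four : 4 ≤ finrank F (W × (F × F)) := by
  have := S.three
  rw [S.finrankV]
  omega

theorem Setup.q_two : 2 ≤ q := two_le_of_card_sq S.hF

theorem Setup.card_traceZero : Nat.card (traceZero σ) = q := by
  obtain ⟨δ, hδ, hδ'⟩ := S.conj.exists_trace_zero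
  have hσδ : σ δ = -δ := eq_neg_of_add_eq_zero_right hδ'
  set T : F →+ F := AddMonoidHom.id F + σ.toAddMonoidHom with hT
  have hTa : ∀ a, T a = a + σ a := fun a => rfl
  have e : traceZero σ ≃ T.range :=
    { toFun := fun c => ⟨c.1 / δ, by
        obtain ⟨a, ha⟩ := S.conj.exists_trace_eq (a := c.1 / δ) (by
          rw [map_div₀, hσδ, eq_neg_of_add_eq_zero_right (mem_traceZero.1 c.2), neg_div_neg_eq])
        exact ⟨a, ha⟩⟩
      invFun := fun a => ⟨a.1 * δ, by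
        obtain ⟨b, hb⟩ := a.2
        rw [mem_traceZero, ← hb, hTa, map_mul, map_add, S.conj.invol, hσδ]
        ring⟩
      left_inv := fun c => Subtype.ext (div_mul_cancel₀ _ hδ)
      right_inv := fun a => Subtype.ext (mul_div_cancel_right₀ _ hδ) }
  have h1 := AddSubgroup.card_mul_index T.ker
  rw [AddSubgroup.index_ker, ← Nat.card_congr e, Nat.card_eq_fintype_card (α := F), S.hF,
    show T.ker = traceZero σ from rfl, ← pow_two] at h1
  exact Nat.pow_left_injective two_ne_zero h1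

omit S in
theorem Ok.sub {w : W} {c c' : F} (h : Ok B₀ w c) (h' : Ok B₀ w c') : c - c' ∈ traceZero σ := by
  rw [mem_traceZero, map_sub]
  unfold Ok at h h'
  linear_combination h - h'

theorem Setup.exists_ok (w : W) : ∃ c, Ok B₀ w c :=
  S.conj.exists_trace_eq (by rw [map_neg, S.h.self_fixed])

theorem Setup.ok_add {w w' : W} {c c' : F} (h : Ok B₀ w c) (h' : Ok B₀ w' c') :
    Ok B₀ (w + w') (c + c' - B₀ w w') := by
  unfold Ok at *
  rw [S.h.add_self, map_sub, map_add, S.h.symm]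
  linear_combination h + h'

theorem Setup.ok_zero {c : F} : Ok B₀ 0 c ↔ c ∈ traceZero σ := by
  simp [Ok, mem_traceZero]

/-- The element of the radical with parameters `w`, `c`. -/
noncomputable def Setup.x (_S : Setup B₀ q) (w : W) (c : F) : Gp B₀ :=
  @_root_.Classical.epsilon (Gp B₀) ⟨1⟩ fun g => IsEich (hypExt B₀) g.1 ee (iw w) c

theorem Setup.x_spec {w : W} {c : F} (h : Ok B₀ w c) : IsEich (hypExt B₀) (S.x w c).1 ee (iw w) c := by
  obtain ⟨g, hg⟩ := exists_isEich S.hV S.hNV (b_ee_ee B₀) (b_ee_iw B₀ w)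
    (show c + σ c = -hypExt B₀ (iw w) (iw w) by rw [b_iw_iw]; exact h)
  exact _root_.Classical.epsilon_spec (p := fun g : Gp B₀ => IsEich (hypExt B₀) g.1 ee (iw w) c)
    ⟨⟨g, IsEich.mem_sIsom S.hV hg⟩, hg⟩

theorem Setup.x_eq {w : W} {c : F} {g : Gp B₀} (h : IsEich (hypExt B₀) g.1 ee (iw w) c) :
    g = S.x w c := by
  have hok : Ok B₀ w c := by have := h.2.2.1; rwa [b_iw_iw] at this
  exact Subtype.ext (h.unique (S.x_spec hok))

theorem Setup.x_zero : S.x 0 0 = 1 :=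
  (S.x_eq (g := 1) (by rw [map_zero]; exact isEich_one (b_ee_ee B₀))).symm

theorem Setup.x_mul {w w' : W} {c c' : F} (h : Ok B₀ w c) (h' : Ok B₀ w' c') :
    S.x w c * S.x w' c' = S.x (w + w') (c + c' - B₀ w w') := by
  refine S.x_eq ?_
  have := (S.x_spec h).mul S.hV (S.x_spec h')
  rw [b_iw_iw, ← map_add] at this
  exact this

theorem Setup.x_apply_ff {w : W} {c : F} (h : Ok B₀ w c) : (S.x w c).1.1 ff = (w, (c, 1)) := by
  rw [(S.x_spec h).2.2.2, b_ee, b_iw]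
  simp [ee, ff, iw_apply]

theorem Setup.x_inj {w w' : W} {c c' : F} (h : Ok B₀ w c) (h' : Ok B₀ w' c')
    (e : S.x w c = S.x w' c') : w = w' ∧ c = c' := by
  have := S.x_apply_ff h
  rw [e, S.x_apply_ff h'] at this
  simp [Prod.ext_iff] at this
  exact ⟨this.1.symm, this.2.symm⟩

/-- Every Eichler transformation at `ee` is in the radical. -/
theorem Setup.x_of_eich {g : Gp B₀} {u : W × (F × F)} {c : F} (h : IsEich (hypExt B₀) g.1 ee u c) :
    ∃ c', Ok B₀ u.1 c' ∧ g = S.x u.1 c' := by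
  have h22 : u.2.2 = 0 := by simpa [b_ee] using h.2.1
  have hs := h.shift S.hV (-u.2.1)
  have e : u + (-u.2.1) • ee = iw u.1 := by
    refine Prod.ext ?_ (Prod.ext ?_ ?_) <;> simp [iw_apply, ee, h22]
  rw [e] at hs
  exact ⟨_, by have := hs.2.2.1; rwa [b_iw_iw] at this, S.x_eq hs⟩

theorem Setup.exists_to_ee {r : W × (F × F)} (hr : hypExt B₀ r r = 0) (hr0 : r ≠ 0) :
    ∃ (k : Gp B₀) (l : F), l ≠ 0 ∧ k.1.1 r = l • ee := by
  obtain ⟨k, l, hk⟩ := S.hV.move_point S.hNV hr (b_ee_ee B₀) hr0 ee_ne_zero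
  refine ⟨k, l, fun e => hr0 (k.1.1.injective ?_), hk⟩
  rw [hk, e, zero_smul, map_zero]

/-- Every Eichler transformation is conjugate into the radical. -/
theorem Setup.exists_conj_x {g : Gp B₀} {r u : W × (F × F)} {c : F} (hg : IsEich (hypExt B₀) g.1 r u c)
    (hr0 : r ≠ 0) : ∃ (k : Gp B₀) (w : W) (c' : F), Ok B₀ w c' ∧ k * g * k⁻¹ = S.x w c' := by
  obtain ⟨k, l, hl, hk⟩ := S.exists_to_ee hg.1 hr0
  have h1 := (hg.conj k.1).scale S.hV (inv_ne_zero hl)
  rw [hk, smul_smul, inv_mul_cancel₀ hl, one_smul] at h1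
  obtain ⟨c', h2, h3⟩ := S.x_of_eich (g := k * g * k⁻¹) h1
  exact ⟨k, _, c', h2, h3⟩

/-! ### The Levi factor -/

omit S in
/-- The parameters of a Levi element. -/
def Lev (B₀ : W →ₛₗ[σ] W →ₗ[F] F) (l : F) (τ : isomGroup B₀) : Prop := l ≠ 0 ∧ idet B₀ τ * l = σ l

omit S in
theorem Lev.sigma_ne {l : F} {τ : isomGroup B₀} (h : Lev B₀ l τ) : σ l ≠ 0 :=
  (map_ne_zero σ).2 h.1

omit S in
/-- The linear map `(τ, l, (σ l)⁻¹)`. -/
noncomputable def levEquiv {l : F} (τ : isomGroup B₀) (hl : l ≠ 0) : (W × (F × F)) ≃ₗ[F] W × (F × F) :=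
  τ.1.prodCongr ((LinearEquiv.smulOfNeZero F F l hl).prodCongr
    (LinearEquiv.smulOfNeZero F F (σ l)⁻¹ (inv_ne_zero ((map_ne_zero σ).2 hl))))

omit S in
theorem levEquiv_apply {l : F} (τ : isomGroup B₀) (hl : l ≠ 0) (v : W × (F × F)) :
    levEquiv τ hl v = (τ.1 v.1, (l * v.2.1, (σ l)⁻¹ * v.2.2)) := rfl

theorem Setup.levEquiv_mem {l : F} (τ : isomGroup B₀) (hl : l ≠ 0) :
    levEquiv τ hl ∈ isomGroup (hypExt B₀) := by
  intro u v
  have hσl : σ l ≠ 0 := (map_ne_zero σ).2 hl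
  simp only [levEquiv_apply, hypExt_apply, map_mul, map_inv₀, S.conj.invol, isomGroup_apply]
  field_simp

/-- The element of the Levi factor. -/
noncomputable def Setup.lev {l : F} {τ : isomGroup B₀} (h : Lev B₀ l τ) : Gp B₀ :=
  ⟨⟨levEquiv τ h.1, S.levEquiv_mem τ h.1⟩, MonoidHom.mem_ker.2 (by
    have e : ((levEquiv τ h.1 : (W × (F × F)) ≃ₗ[F] _) : W × (F × F) →ₗ[F] W × (F × F)) =
        (τ.1 : W →ₗ[F] W).prodMap ((l • LinearMap.id : F →ₗ[F] F).prodMap
          ((σ l)⁻¹ • LinearMap.id : F →ₗ[F] F)) := LinearMap.ext fun v => rfl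
    change LinearMap.det ((levEquiv τ h.1 : (W × (F × F)) ≃ₗ[F] _) : W × (F × F) →ₗ[F] W × (F × F)) = 1
    rw [e, LinearMap.det_prodMap, LinearMap.det_prodMap, LinearMap.det_smul, LinearMap.det_smul,
      LinearMap.det_id, finrank_self, pow_one, pow_one, mul_one, mul_one, ← mul_assoc]
    change idet B₀ τ * l * (σ l)⁻¹ = 1
    rw [h.2, mul_inv_cancel₀ h.sigma_ne])⟩

theorem Setup.lev_apply {l : F} {τ : isomGroup B₀} (h : Lev B₀ l τ) (v : W × (F × F)) :
    (S.lev h).1.1 v = (τ.1 v.1, (l * v.2.1, (σ l)⁻¹ * v.2.2)) := rfl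

/-- The Levi factor normalises the radical. -/
theorem Setup.lev_conj {l : F} {τ : isomGroup B₀} (h : Lev B₀ l τ) {w : W} {c : F} (hw : Ok B₀ w c) :
    S.lev h * S.x w c * (S.lev h)⁻¹ = S.x (σ l • τ.1 w) (l * σ l * c) := by
  refine S.x_eq ?_
  have h1 := ((S.x_spec hw).conj (S.lev h).1).scale S.hV (inv_ne_zero h.1)
  rw [S.lev_apply, S.lev_apply] at h1
  have e1 : l⁻¹ • ((τ.1 (ee : W × (F × F)).1, (l * (ee : W × (F × F)).2.1,
      (σ l)⁻¹ * (ee : W × (F × F)).2.2)) : W × (F × F)) = ee := by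
    simp [ee, h.1]
  have e2 : (σ l⁻¹)⁻¹ • ((τ.1 (iw w : W × (F × F)).1, (l * (iw w : W × (F × F)).2.1,
      (σ l)⁻¹ * (iw w : W × (F × F)).2.2)) : W × (F × F)) = iw (σ l • τ.1 w) := by
    simp [iw_apply, map_inv₀]
  have e3 : c / (l⁻¹ * σ l⁻¹) = l * σ l * c := by
    rw [map_inv₀, ← mul_inv, div_inv_eq_mul, mul_comm]
  rw [e1, e2, e3] at h1
  exact h1

/-! ### Geometry of `W` -/

theorem Setup.top : NondegOn B₀ (⊤ : Submodule F W) :=
  nondegOn_iff.2 fun x _ hx => S.hN x fun w => hx w trivial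

theorem Setup.exists_ns_perp (v : W) : ∃ z, B₀ v z = 0 ∧ B₀ z z = 1 := by
  have h3 := S.three
  by_cases hv : B₀ v v = 0
  · by_cases hv0 : v = 0
    · obtain ⟨z, -, hz⟩ := S.h.exists_unit_in S.top (by rw [finrank_top]; omega) (map_one σ)
      exact ⟨z, by simp [hv0], hz⟩
    obtain ⟨s, -, hs, hvs⟩ := S.h.exists_partner S.top trivial hv0 hv
    have hP := S.h.nondegOn_hyp hv hvs
    have hd := hP.finrank_perp
    rw [S.h.finrank_hyp hv hvs] at hd
    obtain ⟨z, hz, hzz⟩ := S.h.exists_unit_in (nondegOn_perp S.hN hP) (by omega) (map_one σ)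
    exact ⟨z, mem_perp_span.1 hz v (by simp), hzz⟩
  · have hP := S.h.nondegOn_span_singleton hv
    have hd := hP.finrank_perp
    rw [finrank_span_singleton (fun e => hv (by rw [e, map_zero]))] at hd
    obtain ⟨z, hz, hzz⟩ := S.h.exists_unit_in (nondegOn_perp S.hN hP) (by omega) (map_one σ)
    exact ⟨z, mem_perp_span.1 hz v rfl, hzz⟩

/-- Prescribe the determinant keeping the image of a vector. -/
theorem Setup.adjust_det (τ : isomGroup B₀) (v : W) {δ : F} (hδ : δ * σ δ = 1) :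
    ∃ τ' : isomGroup B₀, τ'.1 v = τ.1 v ∧ idet B₀ τ' = δ := by
  obtain ⟨z, hz, hzz⟩ := S.exists_ns_perp (τ.1 v)
  have hd0 : idet B₀ τ ≠ 0 := fun e => by simpa [e] using S.h.idet_norm S.hN τ
  obtain ⟨g, hg, hgd⟩ := S.h.exists_qr S.hN (z := z) (by rw [hzz]; exact one_ne_zero)
    (l := δ / idet B₀ τ) (by rw [map_div₀, div_mul_div_comm, hδ, S.h.idet_norm S.hN, one_div_one])
  refine ⟨g * τ, ?_, ?_⟩
  · change g.1 (τ.1 v) = τ.1 v
    rw [hg, S.h.isRefl _ _ hz, mul_zero, zero_smul, add_zero]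
  · rw [map_mul, hgd, div_mul_cancel₀ _ hd0]

omit S in
theorem norm_sigma_div (hc : IsConjugation σ) {l : F} (hl : l ≠ 0) : σ l / l * σ (σ l / l) = 1 := by
  have hσ : σ l ≠ 0 := (map_ne_zero σ).2 hl
  rw [map_div₀, hc.invol]
  field_simp

/-- The Levi factor is transitive on non-isotropic vectors. -/
theorem Setup.exists_lev_ns {u v : W} (hu : B₀ u u ≠ 0) (hv : B₀ v v ≠ 0) :
    ∃ (l : F) (τ : isomGroup B₀), Lev B₀ l τ ∧ l⁻¹ • τ.1 u = v := by
  obtain ⟨l, hl⟩ := S.conj.exists_norm_eq (a := B₀ u u / B₀ v v)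
    (by rw [map_div₀, S.h.self_fixed, S.h.self_fixed])
  have hl0 : l ≠ 0 := fun e => div_ne_zero hu hv (by rw [← hl, e, zero_mul])
  have hlv : B₀ (l • v) (l • v) = B₀ u u := by rw [S.h.smul_self, hl, div_mul_cancel₀ _ hv]
  obtain ⟨τ₀, hτ₀⟩ := S.h.witt_family S.hN (a := fun _ : Unit => u) (b := fun _ : Unit => l • v)
    (linearIndependent_unique_iff.2 fun e => hu (by rw [show u = 0 from e, map_zero]))
    (linearIndependent_unique_iff.2 fun e => hu (by rw [← hlv, show l • v = 0 from e, map_zero]))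
    fun _ _ => hlv.symm
  obtain ⟨τ, hτ, hτd⟩ := S.adjust_det τ₀ u (norm_sigma_div S.conj hl0)
  exact ⟨l, τ, ⟨hl0, by rw [hτd, div_mul_cancel₀ _ hl0]⟩,
    by rw [hτ, hτ₀ (), smul_smul, inv_mul_cancel₀ hl0, one_smul]⟩

omit S in
theorem lev_one {τ : isomGroup B₀} (hτ : idet B₀ τ = 1) : Lev B₀ 1 τ :=
  ⟨one_ne_zero, by rw [hτ, map_one, mul_one]⟩

/-- The special group is transitive on isotropic vectors. -/
theorem Setup.exists_lev_iso {u v : W} (hu : B₀ u u = 0) (hv : B₀ v v = 0) (hu0 : u ≠ 0) (hv0 : v ≠ 0) :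
    ∃ τ : isomGroup B₀, idet B₀ τ = 1 ∧ τ.1 u = v := by
  obtain ⟨τ₀, hτ₀⟩ := S.h.witt_family S.hN (a := fun _ : Unit => u) (b := fun _ : Unit => v)
    (linearIndependent_unique_iff.2 hu0) (linearIndependent_unique_iff.2 hv0) fun _ _ => hu.trans hv.symm
  obtain ⟨τ, hτ, hτd⟩ := S.adjust_det τ₀ u (δ := 1) (by simp)
  exact ⟨τ, hτd, by rw [hτ, hτ₀ ()]⟩

/-- The special group on pairs of orthogonal isotropic vectors. -/
theorem Setup.exists_lev_pair {a b a' b' : W} (ha : B₀ a a = 0) (hb : B₀ b b = 0) (hab : B₀ a b = 0)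
    (hi : LinearIndependent F ![a, b]) (ha' : B₀ a' a' = 0) (hb' : B₀ b' b' = 0) (hab' : B₀ a' b' = 0)
    (hi' : LinearIndependent F ![a', b']) :
    ∃ (τ : isomGroup B₀) (s t : F), idet B₀ τ = 1 ∧ τ.1 a = s • a' ∧ τ.1 b = t • b' ∧ s ≠ 0 ∧ t ≠ 0 := by
  obtain ⟨τ₁, h1, h1'⟩ := S.exists_lev_iso ha ha' (hi.ne_zero 0) (hi'.ne_zero 0)
  have hb1 : B₀ (τ₁.1 b) (τ₁.1 b) = 0 := by rw [isomGroup_apply, hb]
  have hab1 : B₀ a' (τ₁.1 b) = 0 := by rw [← h1', isomGroup_apply, hab]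
  have hi1 : LinearIndependent F ![a', τ₁.1 b] := by
    rw [show ![a', τ₁.1 b] = (τ₁.1 : W →ₗ[F] W) ∘ ![a, b] from funext fun i => by
      fin_cases i <;> simp [h1']]
    exact hi.map' _ τ₁.1.ker
  obtain ⟨g, s, hs, hg⟩ := S.h.move_orth S.hN ha' hb1 hb' hab1 hab' hi1 hi'
  refine ⟨g.1 * τ₁, s, 1, ?_, ?_, ?_, fun e => hi'.ne_zero 0 (g.1.1.injective ?_), one_ne_zero⟩
  · rw [map_mul, h1, show idet B₀ g.1 = 1 from MonoidHom.mem_ker.1 g.2, mul_one]
  · change g.1.1 (τ₁.1 a) = _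
    rw [h1', hs]
  · change g.1.1 (τ₁.1 b) = _
    rw [hg, one_smul]
  · change g.1.1 a' = g.1.1 0
    rw [hs, e, zero_smul, map_zero]

theorem Setup.exists_iso_perp (v : W) : ∃ r, r ≠ 0 ∧ B₀ r r = 0 ∧ B₀ r v = 0 := by
  have h3 := S.three
  by_cases hv : B₀ v v = 0
  · by_cases hv0 : v = 0
    · obtain ⟨r, -, hr0, hr⟩ := S.h.exists_isotropic S.top (by rw [finrank_top]; omega)
      exact ⟨r, hr0, hr, by simp [hv0]⟩
    · exact ⟨v, hv0, hv, hv⟩
  · have hP := S.h.nondegOn_span_singleton hv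
    have hd := hP.finrank_perp
    rw [finrank_span_singleton (fun e => hv (by rw [e, map_zero]))] at hd
    obtain ⟨r, hr, hr0, hrr⟩ := S.h.exists_isotropic (nondegOn_perp S.hN hP) (by omega)
    exact ⟨r, hr0, hrr, S.h.isRefl _ _ (mem_perp_span.1 hr v rfl)⟩

end CfsgLib.KnownA.MinIndexUnitary
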