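import Cfsg.Agent.Lib.KnownA.MinIndexUnitary.MovedCount

/-!
# Minimal index in unitary groups: the annihilators of moved orbits are everything
-/

set_option autoImplicit false
set_option linter.unusedSectionVars false

open Module CfsgLib.Classical Finset

namespace CfsgLib.KnownA.MinIndexUnitary

variable {F W : Type*} [Field F] [Fintype F] [DecidableEq F] [AddCommGroup W] [Module F W]
  [FiniteDimensional F W] [Fintype W] [DecidableEq W] {σ : F →+* F} {B₀ : W →ₛₗ[σ] W →ₗ[F] F} {q : ℕ}

theorem card_span_singleton_le (u : W) (T : Finset W) (hT : ∀ y ∈ T, y ∈ Submodule.span F {u}) :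
    T.card ≤ Fintype.card F := by
  classical
  refine le_trans (Finset.card_le_card (t := univ.image fun c : F => c • u) fun y hy => ?_)
    Finset.card_image_le
  obtain ⟨c, hc⟩ := Submodule.mem_span_singleton.1 (hT y hy)
  exact mem_image.2 ⟨c, mem_univ c, hc⟩

namespace Act

variable {Ω : Type*} [Fintype Ω] [DecidableEq Ω] (A : Act B₀ q Ω)

/-- A subgroup with trivial mutual characters in a non-degenerate subspace is small. -/
theorem sq_le_of_trivial {P : Submodule F W} (hP : NondegOn B₀ P) (S : AddSubgroup W) (hSP : ∀ s ∈ S, s ∈ P)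
    (h : ∀ s ∈ S, ∀ t ∈ S, A.chi (B₀ s t) = 1) : Nat.card S ^ 2 ≤ Nat.card P := by
  classical
  let S' : AddSubgroup P := S.comap P.subtype.toAddMonoidHom
  have e : S' ≃ S :=
    { toFun := fun s => ⟨(s.1 : W), s.2⟩
      invFun := fun s => ⟨⟨s.1, hSP s.1 s.2⟩, s.2⟩
      left_inv := fun s => rfl
      right_inv := fun s => rfl }
  rw [← Nat.card_congr e, pow_two, ← AddSubgroup.card_mul_index S']
  refine Nat.mul_le_mul_left _ ?_
  have : Fintype (P ⧸ S') := Fintype.ofFinite _
  rw [AddSubgroup.index, Nat.card_eq_fintype_card (α := P ⧸ S'), ← AddChar.card_eq (α := P ⧸ S'),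
    ← Nat.card_eq_fintype_card]
  let f : S' → AddChar (P ⧸ S') ℂ := fun s =>
    { toFun := fun z => Quotient.liftOn' z (fun v : P => A.chi (B₀ (s.1 : W) (v : W))) (by
        intro u v huv
        have h2 := h _ s.2 _ (show (((-u + v) : P) : W) ∈ S from (QuotientAddGroup.leftRel_apply.1 huv : -u + v ∈ S'))
        change A.chi (B₀ (s.1 : W) (u : W)) = A.chi (B₀ (s.1 : W) (v : W))
        rw [show v = u + (-u + v) by abel, Submodule.coe_add, map_add (B₀ (s.1 : W)) (u : W),
          AddChar.map_add_eq_mul]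
        exact ((congrArg (A.chi (B₀ (s.1 : W) (u : W)) * ·) h2).trans (mul_one _)).symm)
      map_zero_eq_one' := by
        change A.chi (B₀ (s.1 : W) ((0 : P) : W)) = 1
        simp
      map_add_eq_mul' := by
        rintro ⟨u⟩ ⟨v⟩
        change A.chi (B₀ (s.1 : W) ((u + v : P) : W)) = A.chi (B₀ (s.1 : W) (u : W)) * A.chi (B₀ (s.1 : W) (v : W))
        rw [Submodule.coe_add, map_add, AddChar.map_add_eq_mul] }
  refine Nat.card_le_card_of_injective f fun s t hst => ?_
  by_contra hne
  obtain ⟨a, ha⟩ := A.hη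
  obtain ⟨v, hvP, hv⟩ : ∃ v ∈ P, B₀ ((s.1 : W) - t.1) v ≠ 0 := by
    by_contra! hall
    exact hne (Subtype.ext (Subtype.ext (sub_eq_zero.1 (nondegOn_iff.1 hP _ (P.sub_mem s.1.2 t.1.2)
      fun w hw => A.S.h.isRefl _ _ (hall w hw)))))
  set v' : P := ⟨(a / B₀ ((s.1 : W) - t.1) v) • v, P.smul_mem _ hvP⟩ with hv'
  have e2 := DFunLike.congr_fun hst (QuotientAddGroup.mk v')
  apply ha
  rw [← chi_apply, show a = B₀ (s.1 : W) ((a / B₀ ((s.1 : W) - t.1) v) • v) -
      B₀ (t.1 : W) ((a / B₀ ((s.1 : W) - t.1) v) • v) by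
    rw [← LinearMap.sub_apply, ← map_sub, map_smul, smul_eq_mul, div_mul_cancel₀ _ hv],
    AddChar.map_sub_eq_div]
  change f s (QuotientAddGroup.mk v') / f t (QuotientAddGroup.mk v') = 1
  rw [e2, div_self]
  exact (AddChar.val_isUnit (f t) _).ne_zero

variable {M : ℕ} (hM : Num B₀ q M) (hn : Fintype.card Ω < M)
include hM hn

/-- A moved orbit with a non-isotropic vector in its annihilator has the whole space. -/
theorem mvd_ann_ns {ω : Ω} (hω : ¬ A.ZF ω) {u : W} (hu : u ∈ A.ann ω) (hu0 : B₀ u u ≠ 0) :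
    A.ann ω = univ := by
  have hcl := A.ann_closed A.stable_mvd (fun v hv => A.small_mvd hM hn hv) (A.mem_mvd.2 hω)
  rcases A.S.closed_dichotomy hcl (u := u) hu hu0 with h | h
  · exfalso
    have h1 := card_span_singleton_le u (A.ann ω) fun y hy => h y hy
    have h2 := A.sq_ann_ge hω
    rw [A.S.card_W] at h2
    rw [A.S.hF] at h1
    have h3 : q ^ finrank F W ≤ q ^ 2 :=
      le_trans ((Nat.pow_le_pow_iff_left two_ne_zero).1 h2) h1
    have := (Nat.pow_le_pow_iff_right A.S.q_two).1 h3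
    have := A.S.three
    omega
  · exact eq_univ_of_forall fun y => show y ∈ A.annGrp ω from h ▸ AddSubgroup.mem_top y

/-- The annihilator of a singular moved orbit is totally isotropic. -/
theorem mvd_ann_orth {ω : Ω} (hω : ¬ A.ZF ω) (hs : ∀ v ∈ A.ann ω, B₀ v v = 0) {a b : W} (ha : a ∈ A.ann ω)
    (hb : b ∈ A.ann ω) : B₀ a b = 0 := by
  classical
  by_contra hab
  have ha0 : a ≠ 0 := fun e => hab (by rw [e, map_zero, LinearMap.zero_apply])
  have haa := hs a ha
  obtain ⟨f, -, hff, haf⟩ := A.S.h.exists_partner A.S.top trivial ha0 haa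
  have hdP := (A.S.h.nondegOn_hyp haa haf).finrank_perp
  rw [A.S.h.finrank_hyp haa haf] at hdP
  set P := perp B₀ (Submodule.span F {a, f}) with hPdef
  have hP : NondegOn B₀ P := nondegOn_perp A.S.hN (A.S.h.nondegOn_hyp haa haf)
  have hPa : ∀ w ∈ P, B₀ a w = 0 := fun w hw => mem_perp_span.1 hw a (by simp)
  have hg : ∀ w ∈ P, ∃ g : isomGroup B₀, idet B₀ g = 1 ∧ g.1 a = a ∧
      ∃ μ : F, g.1 b = b + B₀ a b • w + μ • a := by
    intro w hw
    obtain ⟨c, hc⟩ := A.S.exists_ok w
    obtain ⟨g, hg⟩ := exists_isEich A.S.h A.S.hN haa (hPa w hw) hc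
    refine ⟨g, hg.det A.S.h, ?_, _, hg.2.2.2 b⟩
    rw [hg.2.2.2, haa, A.S.h.isRefl _ _ (hPa w hw)]
    simp
  choose! g hgd hga μ hgb using hg
  set Pf : Finset W := univ.filter fun w => w ∈ P with hPf
  have hO : A.orb ω ∈ A.above A.mvd a := A.mem_above.2 ⟨A.mem_mvd.2 hω, ha⟩
  have hmaps : ∀ w ∈ Pf, A.levImage (g w) (A.orb ω) ∈ A.above A.mvd a := fun w hw =>
    A.levImage_mem A.stable_mvd (hgd w (mem_filter.1 hw).2) (hga w (mem_filter.1 hw).2) hO
  have hk : (A.above A.mvd a).card < q ^ 2 := A.small_iso hM hn (mem_isoSet.2 ⟨ha0, haa⟩)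
  have hPc : Pf.card = (q ^ 2) ^ (finrank F W - 2) := by
    rw [hPf, ← Fintype.card_subtype, show finrank F W - 2 = finrank F P by omega, ← A.S.hF,
      ← Nat.card_eq_fintype_card, ← Nat.card_eq_fintype_card (α := F)]
    exact Module.natCard_eq_pow_finrank (K := F) (V := P)
  have hfibS : ∀ z : Finset W, (∀ w ∈ z, w ∈ Pf) →
      (∀ w ∈ z, ∀ w' ∈ z, A.levImage (g w) (A.orb ω) = A.levImage (g w') (A.orb ω)) → z.Nonempty →
        ∃ w0 ∈ z, ∃ S : AddSubgroup W, (∀ x ∈ S, x ∈ P ∧ B₀ x x = 0) ∧ ∀ w ∈ z, w - w0 ∈ S := by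
    intro z hz hzz hz0
    obtain ⟨w0, hw0⟩ := hz0
    have hw0P := (mem_filter.1 (hz w0 hw0)).2
    -- the image annihilator
    set ω₁ := A.π (A.S.lev (lev_one (hgd w0 hw0P))) ω with hω₁
    have hO₁ : A.levImage (g w0) (A.orb ω) = A.orb ω₁ := by
      rw [A.levImage_eq (hgd w0 hw0P), hω₁, A.orb_moves]
    have hs₁ : ∀ v ∈ A.ann ω₁, B₀ v v = 0 := by
      intro v hv
      obtain ⟨y, rfl⟩ : ∃ y, (g w0).1 y = v := ⟨_, (g w0).1.apply_symm_apply v⟩
      rw [isomGroup_apply]
      refine hs y ((A.ann_moves (lev_one (hgd w0 hw0P))).2 ?_)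
      rwa [inv_one, one_smul]
    refine ⟨w0, hw0,
      { carrier := {x | x ∈ P ∧ ∃ ν : F, B₀ a b • x + ν • a ∈ A.ann ω₁}
        zero_mem' := ⟨P.zero_mem, 0, by simpa using A.zero_mem ω₁⟩
        add_mem' := fun {x y} hx hy => ⟨P.add_mem hx.1 hy.1, hx.2.choose + hy.2.choose, by
          have := A.ann_add hx.2.choose_spec hy.2.choose_spec
          convert this using 1
          module⟩
        neg_mem' := fun {x} hx => ⟨P.neg_mem hx.1, -hx.2.choose, by
          have := A.ann_neg hx.2.choose_spec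
          convert this using 1
          module⟩ }, ?_, ?_⟩
    · rintro x ⟨hxP, ν, hν⟩
      refine ⟨hxP, ?_⟩
      have h1 := hs₁ _ hν
      rw [A.S.h.add_self, A.S.h.smul_self, A.S.h.smul_self, haa] at h1
      simpa [map_smulₛₗ, A.S.h.isRefl _ _ (hPa x hxP), hab] using h1
    · intro w hw
      have hwP := (mem_filter.1 (hz w hw)).2
      have hm : (g w).1 b ∈ A.ann ω₁ := by
        have h1 := (A.ann_moves (lev_one (hgd w hwP))).1 hb
        rw [inv_one, one_smul] at h1
        have h2 : A.orb (A.π (A.S.lev (lev_one (hgd w hwP))) ω) = A.orb ω₁ := by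
          rw [← hO₁, hzz w0 hw0 w hw, A.levImage_eq (hgd w hwP), A.orb_moves]
        rwa [A.ann_eq (h2 ▸ A.self_mem _)] at h1
      have hm0 : (g w0).1 b ∈ A.ann ω₁ := by
        have h1 := (A.ann_moves (lev_one (hgd w0 hw0P))).1 hb
        rwa [inv_one, one_smul] at h1
      refine ⟨P.sub_mem hwP hw0P, μ w - μ w0, ?_⟩
      have := A.ann_sub hm hm0
      rw [hgb w hwP, hgb w0 hw0P] at this
      convert this using 1
      module
  -- a bound for singular subgroups of `P`
  have hb1 : ∀ S : AddSubgroup W, (∀ x ∈ S, x ∈ P ∧ B₀ x x = 0) →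
      Nat.card S ≤ q ^ (finrank F W - 2) ∧ (finrank F W = 3 → Nat.card S ≤ 1) := by
    intro S hS
    constructor
    · have h1 := A.sq_le_of_trivial hP S (fun x hx => (hS x hx).1) fun x hx y hy =>
        A.chi_traceZero (A.S.singular_traceZero (fun v hv => (hS v hv).2) hx hy)
      rw [Module.natCard_eq_pow_finrank (K := F) (V := P), Nat.card_eq_fintype_card (α := F), A.S.hF,
        ← pow_mul, mul_comm, pow_mul, show finrank F P = finrank F W - 2 by omega] at h1
      exact (Nat.pow_le_pow_iff_left two_ne_zero).1 h1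
    · intro h3
      have hbot : S = ⊥ := by
        refine (AddSubgroup.eq_bot_iff_forall _).2 fun x hx => ?_
        obtain ⟨z, hz, hzz⟩ := A.S.h.exists_unit_in hP (by omega) (map_one σ)
        have hz0 : z ≠ 0 := fun e => by simp [e] at hzz
        have hsp : Submodule.span F {z} = P := Submodule.eq_of_le_of_finrank_eq
          ((Submodule.span_singleton_le_iff_mem _ _).2 hz) (by rw [finrank_span_singleton hz0]; omega)
        obtain ⟨t, rfl⟩ := Submodule.mem_span_singleton.1 (hsp.symm ▸ (hS x hx).1)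
        have h1 := (hS _ hx).2
        rw [A.S.h.smul_self, hzz, mul_one, mul_eq_zero, map_eq_zero, or_self] at h1
        rw [h1, zero_smul]
      simp [hbot]
  have hfib : ∀ O ∈ Pf.image (fun w => A.levImage (g w) (A.orb ω)),
      (Pf.filter fun w => A.levImage (g w) (A.orb ω) = O).card ≤
        if finrank F W = 3 then 1 else q ^ (finrank F W - 2) := by
    intro O _
    set z := Pf.filter fun w => A.levImage (g w) (A.orb ω) = O with hz
    rcases z.eq_empty_or_nonempty with h0 | h0
    · simp [h0]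
    obtain ⟨w0, -, S, hS, hzS⟩ := hfibS z (fun w hw => (mem_filter.1 hw).1)
      (fun w hw w' hw' => (mem_filter.1 hw).2.trans (mem_filter.1 hw').2.symm) h0
    have h1 : z.card ≤ Nat.card S := by
      rw [← Nat.card_eq_finsetCard]
      exact Nat.card_le_card_of_injective (fun w : z => (⟨w.1 - w0, hzS w.1 w.2⟩ : S))
        fun w w' e => Subtype.ext (sub_left_inj.1 (congrArg Subtype.val e))
    obtain ⟨h2, h3⟩ := hb1 S hS
    split
    · rename_i h4; exact h1.trans (h3 h4)
    · exact h1.trans h2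
  have hle := (Finset.card_le_mul_card_image (f := fun w => A.levImage (g w) (A.orb ω)) Pf _ hfib).trans
    (Nat.mul_le_mul_left _ (Finset.card_le_card (t := A.above A.mvd a) fun x hx => by
      obtain ⟨w, hw, rfl⟩ := mem_image.1 hx
      exact hmaps w hw))
  rw [hPc] at hle
  have h3 := A.S.three
  have hq := A.S.q_two
  split at hle
  · rename_i h4
    rw [h4, show 3 - 2 = 1 from rfl, pow_one, one_mul] at hle
    omega
  · rename_i h4
    rw [← pow_mul, mul_comm 2, pow_mul, pow_two] at hle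
    have h5 : q ^ (finrank F W - 2) ≤ (A.above A.mvd a).card := Nat.le_of_mul_le_mul_left hle (by positivity)
    have h6 : q ^ 2 ≤ q ^ (finrank F W - 2) := Nat.pow_le_pow_right (by omega) (by omega)
    omega

/-- A singular annihilator is a maximal totally isotropic subspace. -/
theorem mvd_singular_space {ω : Ω} (hω : ¬ A.ZF ω) (hs : ∀ v ∈ A.ann ω, B₀ v v = 0) :
    (∀ a ∈ A.ann ω, ∀ c : F, c • a ∈ A.ann ω) ∧ (A.ann ω).card = q ^ finrank F W ∧ Even (finrank F W) := by
  classical
  set T := Submodule.span F (A.annGrp ω : Set W) with hTdef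
  have horth := span_iso (B₀ := B₀) (A := A.annGrp ω) fun a ha b hb => A.mvd_ann_orth hM hn hω hs ha hb
  have hsub : ∀ y ∈ A.ann ω, y ∈ T := fun y hy => Submodule.subset_span (show y ∈ (A.annGrp ω : Set W) from hy)
  have h1 := A.sq_le_of_trivial (P := ⊤) A.S.top T.toAddSubgroup (fun _ _ => trivial)
    fun s hs t ht => by rw [horth s hs t ht, AddChar.map_zero_eq_one]
  have hTop : Nat.card (⊤ : Submodule F W) = Fintype.card W := by
    rw [← Nat.card_eq_fintype_card]
    exact Nat.card_congr (Equiv.subtypeUnivEquiv fun _ => trivial)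
  rw [hTop, A.S.card_W] at h1
  have h2 := A.sq_ann_ge hω
  rw [A.S.card_W] at h2
  have h3 := (Nat.pow_le_pow_iff_left two_ne_zero).1 h1
  have h4 := (Nat.pow_le_pow_iff_left two_ne_zero).1 h2
  set Tf : Finset W := univ.filter fun y => y ∈ T with hTf
  have hTc : Tf.card = Nat.card T.toAddSubgroup := by
    rw [hTf, ← Fintype.card_subtype, ← Nat.card_eq_fintype_card]
    rfl
  have heq : A.ann ω = Tf := Finset.eq_of_subset_of_card_le
    (fun y hy => mem_filter.2 ⟨mem_univ _, hsub y hy⟩) (by omega)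
  refine ⟨fun a ha c => ?_, le_antisymm (by rw [heq, hTc]; exact h3) h4, ?_⟩
  · rw [heq, mem_filter] at ha ⊢
    exact ⟨mem_univ _, T.smul_mem c ha.2⟩
  · have h5 : Nat.card T.toAddSubgroup = (q ^ 2) ^ finrank F T := by
      rw [← A.S.hF, ← Nat.card_eq_fintype_card (α := F)]
      exact Module.natCard_eq_pow_finrank (K := F) (V := T)
    have h6 : q ^ finrank F W = (q ^ 2) ^ finrank F T := by
      have := le_antisymm (show Nat.card T.toAddSubgroup ≤ q ^ finrank F W from h3)
        (h4.trans (by rw [heq, hTc]))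
      rw [← this, h5]
    rw [← pow_mul] at h6
    rw [Nat.pow_right_injective A.S.q_two h6]
    exact even_two_mul _

end Act

end CfsgLib.KnownA.MinIndexUnitary
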