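import Cfsg.Agent.Lib.KnownA.MinIndexUnitary.Invariance
import Cfsg.Agent.Lib.Classical.HermCount

/-!
# Minimal index in unitary groups: counts for the orbits moved by the centre
-/

set_option autoImplicit false
set_option linter.unusedSectionVars false

open Module CfsgLib.Classical Finset

namespace CfsgLib.KnownA.MinIndexUnitary

variable {F W : Type*} [Field F] [Fintype F] [DecidableEq F] [AddCommGroup W] [Module F W]
  [FiniteDimensional F W] [Fintype W] [DecidableEq W] {σ : F →+* F} {B₀ : W →ₛₗ[σ] W →ₗ[F] F} {q : ℕ}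

/-- The non-isotropic vectors. -/
noncomputable def nsSet (B₀ : W →ₛₗ[σ] W →ₗ[F] F) : Finset W := univ.filter fun v => B₀ v v ≠ 0

/-- The non-zero isotropic vectors. -/
noncomputable def isoSet (B₀ : W →ₛₗ[σ] W →ₗ[F] F) : Finset W := univ.filter fun v => v ≠ 0 ∧ B₀ v v = 0

theorem mem_nsSet {v : W} : v ∈ nsSet B₀ ↔ B₀ v v ≠ 0 := by simp [nsSet]

theorem mem_isoSet {v : W} : v ∈ isoSet B₀ ↔ v ≠ 0 ∧ B₀ v v = 0 := by simp [isoSet]

/-- The numerical hypotheses on the bound `M`. -/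
structure Num (B₀ : W →ₛₗ[σ] W →ₗ[F] F) (q M : ℕ) : Prop where
  up : M ≤ (q + 1) * Fintype.card W
  even : Even q → 4 ≤ q → M ≤ 2 * q * (nsSet B₀).card
  odd : Odd q → 2 * M ≤ 3 * (q + 1) * (nsSet B₀).card
  two : q = 2 → M ≤ 6 * (nsSet B₀).card
  three : q = 2 → finrank F W = 3 → 3 * M ≤ 16 * (nsSet B₀).card
  iso : M ≤ 2 * q ^ 2 * (isoSet B₀).card
  ti : Even (finrank F W) →
    M * ((q ^ finrank F W - 1) * (q ^ finrank F W - q ^ 2)) ≤
      q * q ^ finrank F W * ((isoSet B₀).card * (q ^ 2 * (lengthCount σ (finrank F W - 2) 0 - 1)))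
  fxNs : (q ^ 2 - 1) * M < (q ^ 2 - 1) * (q * Fintype.card W + 1) + q ^ 2 * (nsSet B₀).card
  fxIso : (q ^ 2 - 1) * M ≤ (q ^ 2 - 1) * (q * Fintype.card W + 1) + q ^ 2 * (isoSet B₀).card
  tot : (q ^ 2 - 1) * Nat.card (IsoPts (hypExt B₀)) =
    (q ^ 2 - 1) * (q * Fintype.card W + 1) + q ^ 2 * (isoSet B₀).card

theorem Setup.card_W (S : Setup B₀ q) : Fintype.card W = (q ^ finrank F W) ^ 2 := by
  rw [Module.card_eq_pow_finrank (K := F) (V := W), S.hF, ← pow_mul, ← pow_mul, mul_comm]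

namespace Act

variable {Ω : Type*} [Fintype Ω] [DecidableEq Ω] (A : Act B₀ q Ω)

/-- The annihilator of an orbit. -/
noncomputable def annO (O : Finset Ω) : Finset W := by
  classical exact univ.filter fun y => ∃ ω ∈ O, y ∈ A.ann ω

theorem annO_orb (ω : Ω) : A.annO (A.orb ω) = A.ann ω := by
  classical
  ext y
  simp only [annO, mem_filter, mem_univ, true_and]
  exact ⟨fun ⟨ν, hν, h⟩ => A.ann_eq hν ▸ h, fun h => ⟨ω, A.self_mem ω, h⟩⟩

theorem sum_above' (𝒪 : Finset (Finset Ω)) (T : Finset W) :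
    ∑ y ∈ T, (A.above 𝒪 y).card = ∑ O ∈ 𝒪, (T ∩ A.annO O).card := by
  classical
  rw [A.sum_above]
  refine Finset.sum_congr rfl fun O _ => ?_
  congr 1
  ext y
  simp [annO]

theorem sum_above_le (𝒪 : Finset (Finset Ω)) (T : Finset W) :
    ∑ y ∈ T, (A.above 𝒪 y).card ≤ ∑ O ∈ 𝒪, (A.annO O).card := by
  rw [A.sum_above']
  exact Finset.sum_le_sum fun O _ => Finset.card_le_card Finset.inter_subset_right

theorem above_const_ns {𝒪 : Finset (Finset Ω)} (h𝒪 : A.Stable 𝒪) {u v : W} (hu : B₀ u u ≠ 0)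
    (hv : B₀ v v ≠ 0) : (A.above 𝒪 u).card ≤ (A.above 𝒪 v).card := by
  obtain ⟨l, τ, hl, he⟩ := A.S.exists_lev_ns hu hv
  exact he ▸ A.card_above_le hl h𝒪 u

theorem above_const_iso {𝒪 : Finset (Finset Ω)} (h𝒪 : A.Stable 𝒪) {u v : W} (hu : u ∈ isoSet B₀)
    (hv : v ∈ isoSet B₀) : (A.above 𝒪 u).card ≤ (A.above 𝒪 v).card := by
  rw [mem_isoSet] at hu hv
  obtain ⟨τ, hτ, he⟩ := A.S.exists_lev_iso hu.2 hv.2 hu.1 hv.1
  have := A.card_above_le (lev_one hτ) h𝒪 u
  rwa [inv_one, one_smul, he] at this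

theorem above_mul_ns {𝒪 : Finset (Finset Ω)} (h𝒪 : A.Stable 𝒪) {u : W} (hu : B₀ u u ≠ 0) :
    (A.above 𝒪 u).card * (nsSet B₀).card ≤ ∑ y ∈ nsSet B₀, (A.above 𝒪 y).card := by
  rw [mul_comm, ← smul_eq_mul, ← Finset.sum_const]
  exact Finset.sum_le_sum fun y hy => A.above_const_ns h𝒪 hu (mem_nsSet.1 hy)

theorem above_mul_iso {𝒪 : Finset (Finset Ω)} (h𝒪 : A.Stable 𝒪) {u : W} (hu : u ∈ isoSet B₀) :
    (A.above 𝒪 u).card * (isoSet B₀).card ≤ ∑ y ∈ isoSet B₀, (A.above 𝒪 y).card := by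
  rw [mul_comm, ← smul_eq_mul, ← Finset.sum_const]
  exact Finset.sum_le_sum fun y hy => A.above_const_iso h𝒪 hu hy

/-- Moved orbits are at least twice, for odd `q` three times, the size of the annihilator. -/
theorem mvd_orbit_ge {ω : Ω} (h : ¬ A.ZF ω) :
    2 * (A.ann ω).card ≤ (A.orb ω).card ∧ (Odd q → 3 * (A.ann ω).card ≤ (A.orb ω).card) := by
  obtain ⟨r, hr⟩ := A.zc_dvd ω
  have hlt := A.zc_lt h
  have h1 := A.card_orb_zc ω
  have hpos := A.zc_pos ω
  have he : (A.orb ω).card = r * (A.ann ω).card :=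
    Nat.eq_of_mul_eq_mul_right hpos (h1.trans ((congrArg (fun t => (A.ann ω).card * t) hr).trans
      (by ring)))
  have hr2 : 2 ≤ r := by
    by_contra hc
    interval_cases r <;> omega
  refine ⟨he ▸ Nat.mul_le_mul_right _ hr2, fun hodd => he ▸ Nat.mul_le_mul_right _ ?_⟩
  rcases (show r = 2 ∨ 3 ≤ r by omega) with rfl | h3
  · rw [hr, Nat.odd_mul] at hodd
    exact absurd hodd.2 (by decide)
  · exact h3

theorem sum_annO_mvd : 2 * ∑ O ∈ A.mvd, (A.annO O).card ≤ Fintype.card Ω ∧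
    (Odd q → 3 * ∑ O ∈ A.mvd, (A.annO O).card ≤ Fintype.card Ω) := by
  have hs := A.sum_card_le A.mvd_subset
  constructor
  · rw [Finset.mul_sum]
    refine le_trans (Finset.sum_le_sum fun O hO => ?_) hs
    obtain ⟨ω, rfl, h⟩ := A.exists_of_mvd hO
    rw [A.annO_orb]
    exact (A.mvd_orbit_ge h).1
  · intro hodd
    rw [Finset.mul_sum]
    refine le_trans (Finset.sum_le_sum fun O hO => ?_) hs
    obtain ⟨ω, rfl, h⟩ := A.exists_of_mvd hO
    rw [A.annO_orb]
    exact (A.mvd_orbit_ge h).2 hodd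

theorem sum_ns_quarter (hq : q = 2) :
    4 * ∑ y ∈ nsSet B₀, (A.above A.mvd y).card ≤ 3 * ∑ O ∈ A.mvd, (A.annO O).card := by
  classical
  rw [A.sum_above', Finset.mul_sum, Finset.mul_sum]
  refine Finset.sum_le_sum fun O hO => ?_
  obtain ⟨ω, rfl, -⟩ := A.exists_of_mvd hO
  rw [A.annO_orb]
  refine le_trans (le_of_eq ?_) (A.S.quarter hq (A.annGrp ω) (A.ann ω) fun v => A.mem_annGrp.symm)
  congr 2
  ext v
  simp [nsSet, and_comm]

variable {M : ℕ} (hM : Num B₀ q M) (hn : Fintype.card Ω < M)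
include hM hn

theorem small_mvd {u : W} (hu : B₀ u u ≠ 0) :
    SmallCount q (finrank F W) (A.above A.mvd u).card := by
  have h1 := (A.above_mul_ns A.stable_mvd hu).trans (A.sum_above_le _ _)
  have hs := A.sum_annO_mvd
  have h2 := A.S.q_two
  set k := (A.above A.mvd u).card
  set s := (nsSet B₀).card
  rcases Nat.even_or_odd q with he | ho
  · by_cases hq : q = 2
    · have h6 := hM.two hq
      have hk2 : k ≤ 2 := by
        by_contra hc
        have := Nat.mul_le_mul_right s (show 3 ≤ k by omega)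
        omega
      by_cases hd : 4 ≤ finrank F W
      · exact Or.inr (Or.inr (Or.inr ⟨hq, hk2, hd⟩))
      · left
        by_contra hc
        have h3 := hM.three hq (by have := A.S.three; omega)
        have h4 := A.sum_ns_quarter hq
        have h5 := A.above_mul_ns A.stable_mvd hu
        have hk : k = 2 := by omega
        have h7 : k * s = 2 * s := congrArg (· * s) hk
        have h8 : (A.above A.mvd u).card * (nsSet B₀).card = k * s := rfl
        omega
    · have he2 := he.two_dvd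
      have h4 : 4 ≤ q := by omega
      refine Or.inr (Or.inl ⟨he, ?_⟩)
      by_contra hc
      have h5 : M ≤ 2 * q * s := hM.even he h4
      have h6 := Nat.mul_le_mul_right s (show q ≤ k by omega)
      have h7 : 2 * q * s = 2 * (q * s) := mul_assoc _ _ _
      omega
  · refine Or.inr (Or.inr (Or.inl ⟨ho, ?_⟩))
    by_contra hc
    have h3 := hs.2 ho
    have : 2 * M ≤ 3 * (q + 1) * s := hM.odd ho
    have h5 := Nat.mul_le_mul_right s (show q + 1 ≤ 2 * k by obtain ⟨r, rfl⟩ := ho; omega)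
    rw [mul_assoc] at h5
    have h6 : 3 * (q + 1) * s = 3 * ((q + 1) * s) := mul_assoc _ _ _
    omega

theorem small_iso {a : W} (ha : a ∈ isoSet B₀) : (A.above A.mvd a).card < q ^ 2 := by
  by_contra hc
  have h1 := (A.above_mul_iso A.stable_mvd ha).trans (A.sum_above_le _ _)
  have hs := A.sum_annO_mvd.1
  have h2 := Nat.mul_le_mul_right (isoSet B₀).card (Nat.not_lt.1 hc)
  have h3 := hM.iso
  rw [mul_assoc] at h3
  omega

end Act

end CfsgLib.KnownA.MinIndexUnitary
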