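import Cfsg.Agent.Lib.KnownA.MinIndexUnitary.Moved

/-!
# Minimal index in unitary groups: the radical has one regular orbit outside the fixed set
-/

set_option autoImplicit false
set_option linter.unusedSectionVars false

open Module CfsgLib.Classical Finset

namespace CfsgLib.KnownA.MinIndexUnitary

variable {F W : Type*} [Field F] [Fintype F] [DecidableEq F] [AddCommGroup W] [Module F W]
  [FiniteDimensional F W] [Fintype W] [DecidableEq W] {σ : F →+* F} {B₀ : W →ₛₗ[σ] W →ₗ[F] F} {q : ℕ}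

theorem Setup.card_pairs_from (S : Setup B₀ q) {a : W} (ha : a ∈ isoSet B₀) (T : Finset W)
    (hT : ∀ b, b ∈ T ↔ b ∈ isoSet B₀ ∧ B₀ a b = 0 ∧ b ∉ Submodule.span F {a}) :
    q ^ 2 * (lengthCount σ (finrank F W - 2) 0 - 1) ≤ T.card := by
  classical
  rw [mem_isoSet] at ha
  obtain ⟨f, -, hff, haf⟩ := S.h.exists_partner S.top trivial ha.1 ha.2
  have hdP := (S.h.nondegOn_hyp ha.2 haf).finrank_perp
  rw [S.h.finrank_hyp ha.2 haf] at hdP
  set P := perp B₀ (Submodule.span F {a, f}) with hPdef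
  have hP : NondegOn B₀ P := nondegOn_perp S.hN (S.h.nondegOn_hyp ha.2 haf)
  have hPa : ∀ w : P, B₀ a (w : W) = 0 := fun w => mem_perp_span.1 w.2 a (by simp)
  have hPf : ∀ w : P, B₀ f (w : W) = 0 := fun w => mem_perp_span.1 w.2 f (by simp)
  have hfa : B₀ f a = 1 := by rw [← S.h.symm, haf, map_one]
  have hc := card_length_eq (S.h.restrict P) (restrictForm_separatingRight hP) 0
  rw [show finrank F P = finrank F W - 2 by omega, Nat.card_eq_fintype_card, Fintype.card_subtype] at hc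
  set I : Finset P := (univ.filter fun v : P => restrictForm B₀ P v v = 0).erase 0 with hI
  have hIc : I.card = lengthCount σ (finrank F W - 2) 0 - 1 := by
    rw [hI, Finset.card_erase_of_mem (mem_filter.2 ⟨mem_univ _, by simp⟩), hc]
  rw [← hIc, ← S.hF, ← Finset.card_univ, ← Finset.card_product]
  refine Finset.card_le_card_of_injOn (fun p => p.1 • a + (p.2 : W)) ?_ ?_
  · rintro ⟨t, w⟩ hp
    simp only [hI, coe_product, Set.mem_prod, Finset.mem_coe, mem_erase, mem_univ, true_and] at hp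
    have hw0 : B₀ (w : W) w = 0 := (mem_filter.1 hp.2).2
    refine (hT _).2 ⟨mem_isoSet.2 ⟨?_, ?_⟩, ?_, ?_⟩
    · intro e
      have h1 := congrArg (B₀ f) e
      simp [hfa, hPf] at h1
      subst h1
      exact hp.1 (Subtype.ext (by simpa using e))
    · simp [map_smulₛₗ, ha.2, hPa, S.h.isRefl _ _ (hPa w), hw0]
    · simp [ha.2, hPa]
    · intro hm
      obtain ⟨s, hs⟩ := Submodule.mem_span_singleton.1 hm
      have h1 := congrArg (B₀ f) hs
      simp [hfa, hPf] at h1
      subst h1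
      exact hp.1 (Subtype.ext (by simpa using hs.symm))
  · rintro ⟨t, w⟩ - ⟨t', w'⟩ - e
    have h1 := congrArg (B₀ f) e
    simp [hfa, hPf] at h1
    subst h1
    exact Prod.ext rfl (Subtype.ext (add_left_cancel e))

namespace Act

variable {Ω : Type*} [Fintype Ω] [DecidableEq Ω] (A : Act B₀ q Ω)

/-- The orbits moved by the centre with a given annihilator. -/
noncomputable def mvdWith (T : Finset W) : Finset (Finset Ω) := by
  classical exact A.mvd.filter fun O => A.annO O = T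

/-- Moved orbits with a given annihilator stable under all scalings of the centre. -/
theorem weight {ω : Ω} (hω : ¬ A.ZF ω)
    (hs : ∀ x : F, σ x = x → x ≠ 0 → ∃ (l : F) (τ : isomGroup B₀) (hl : Lev B₀ l τ),
      l * σ l = x ∧ A.ann (A.π (A.S.lev hl) ω) = A.ann ω) :
    (q - 1) * ((A.ann ω).card * q) ≤ (q - A.zc ω) * ∑ O ∈ A.mvdWith (A.ann ω), O.card := by
  classical
  obtain ⟨t, ht, ht'⟩ : ∃ t, t ∈ traceZero σ ∧ t ∉ A.Z0 ω := by
    by_contra! hall
    exact hω fun c hc => (A.mem_Z0.1 (hall c hc)).2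
  have hb := A.S.ring_bound (A.Z0_le ω) ht ht'
  choose! l τ hl hx hann using hs
  let g : F → Finset Ω := fun x =>
    if h : σ x = x ∧ x ≠ 0 then A.orb (A.π (A.S.lev (hl x h.1 h.2)) ω) else ∅
  have hg : ∀ {x : F} (h1 : σ x = x) (h2 : x ≠ 0), g x = A.orb (A.π (A.S.lev (hl x h1 h2)) ω) := fun h1 h2 => by
    simp only [g, dif_pos (And.intro h1 h2)]
  have hgc : ∀ {x : F} (h1 : σ x = x) (h2 : x ≠ 0), (g x).card = (A.orb ω).card := fun h1 h2 => by
    rw [hg h1 h2, A.orb_moves, Finset.card_image_of_injective _ (A.π _).injective]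
  set X := (fixNZ σ).image g with hX
  have hfib : (fixNZ σ).card ≤ (multStab σ (A.Z0 ω)).card * X.card := by
    refine Finset.card_le_mul_card_image _ _ fun O hO => ?_
    obtain ⟨x₁, hx₁, rfl⟩ := mem_image.1 hO
    rw [mem_fixNZ] at hx₁
    refine Finset.card_le_card_of_injOn (fun x => x / x₁) ?_ fun a _ b _ e => (div_left_inj' hx₁.2).1 e
    intro x hx'
    simp only [coe_filter, Set.mem_setOf_eq, mem_fixNZ] at hx'
    obtain ⟨⟨h1, h2⟩, h3⟩ := hx'
    rw [hg h1 h2, hg hx₁.1 hx₁.2] at h3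
    have hZ : A.Z0 (A.π (A.S.lev (hl x h1 h2)) ω) = A.Z0 (A.π (A.S.lev (hl x₁ hx₁.1 hx₁.2)) ω) :=
      A.Z0_eq (h3 ▸ A.self_mem _)
    refine mult_mem (V' := A.Z0 (A.π (A.S.lev (hl x₁ hx₁.1 hx₁.2)) ω)) (A.Z0_le ω) h1 hx₁.1 h2 hx₁.2
      (fun c hc => ?_) fun c hc => ?_
    · have := A.mem_Z0_moves (hl x h1 h2) hc ω
      rwa [hx x h1 h2, hZ] at this
    · have := A.mem_Z0_moves (hl x₁ hx₁.1 hx₁.2) hc ω
      rwa [hx x₁ hx₁.1 hx₁.2] at this
  have hsub : X ⊆ A.mvdWith (A.ann ω) := by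
    intro O hO
    obtain ⟨x, hx', rfl⟩ := mem_image.1 hO
    rw [mem_fixNZ] at hx'
    rw [hg hx'.1 hx'.2, mvdWith, mem_filter, mem_mvd, A.ZF_moves, A.annO_orb]
    exact ⟨hω, hann x hx'.1 hx'.2⟩
  have hsum : X.card * (A.orb ω).card ≤ ∑ O ∈ A.mvdWith (A.ann ω), O.card := by
    refine le_trans (le_of_eq ?_) (Finset.sum_le_sum_of_subset hsub)
    rw [← smul_eq_mul, ← Finset.sum_const]
    refine Finset.sum_congr rfl fun O hO => ?_
    obtain ⟨x, hx', rfl⟩ := mem_image.1 hO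
    rw [mem_fixNZ] at hx'
    exact (hgc hx'.1 hx'.2).symm
  have hc := A.S.card_fixNZ
  rw [show q - 1 = (fixNZ σ).card by omega, ← A.card_orb_zc ω]
  calc (fixNZ σ).card * ((A.orb ω).card * A.zc ω)
      ≤ (multStab σ (A.Z0 ω)).card * X.card * ((A.orb ω).card * A.zc ω) := Nat.mul_le_mul_right _ hfib
    _ = (multStab σ (A.Z0 ω)).card * A.zc ω * (X.card * (A.orb ω).card) := by ring
    _ ≤ _ := Nat.mul_le_mul (by rw [add_mul, one_mul] at hb; exact Nat.le_sub_of_add_le hb) hsum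

variable {M : ℕ} (hM : Num B₀ q M) (hn : Fintype.card Ω < M)
include hM hn

/-- The annihilator of every moved orbit is everything. -/
theorem mvd_ann_univ {ω : Ω} (hω : ¬ A.ZF ω) : A.ann ω = univ := by
  classical
  by_contra hne
  have hsing : ∀ ν, ¬ A.ZF ν → A.ann ν ≠ univ → ∀ v ∈ A.ann ν, B₀ v v = 0 := fun ν hν hne v hv => by
    by_contra h0
    exact hne (A.mvd_ann_ns hM hn hν hv h0)
  obtain ⟨-, hc0, heven⟩ := A.mvd_singular_space hM hn hω (hsing ω hω hne)
  have hti := hM.ti heven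
  have hd := A.S.three
  have hd4 : 4 ≤ finrank F W := by obtain ⟨r, hr⟩ := heven; omega
  have hq := A.S.q_two
  set d := finrank F W
  set 𝒯 : Finset (Finset W) :=
    (A.mvd.image A.annO).filter fun T => T ≠ univ with h𝒯
  have h𝒯' : ∀ T ∈ 𝒯, ∃ ν, ¬ A.ZF ν ∧ A.ann ν = T ∧ A.ann ν ≠ univ := by
    intro T hT
    rw [h𝒯, mem_filter, mem_image] at hT
    obtain ⟨⟨O, hO, rfl⟩, hT⟩ := hT
    obtain ⟨ν, rfl, hν⟩ := A.exists_of_mvd hO
    rw [A.annO_orb] at hT ⊢
    exact ⟨ν, hν, rfl, hT⟩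
  -- the weight of one subspace
  have hw : ∀ T ∈ 𝒯, q * q ^ d ≤ ∑ O ∈ A.mvdWith T, O.card := by
    intro T hT
    obtain ⟨ν, hν, rfl, hνne⟩ := h𝒯' T hT
    have hs := hsing ν hν hνne
    obtain ⟨hsm, hcard, -⟩ := A.mvd_singular_space hM hn hν hs
    obtain ⟨a, ha, ha0⟩ : ∃ a ∈ A.ann ν, a ≠ 0 := by
      refine Finset.exists_mem_ne ?_ 0
      rw [hcard]
      exact Nat.one_lt_pow (by omega) hq
    obtain ⟨f, -, hff, haf⟩ := A.S.h.exists_partner A.S.top trivial ha0 (hs a ha)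
    have h1 := A.weight hν fun x hx hx0 => by
      obtain ⟨l, hl⟩ := A.S.conj.exists_norm_eq hx
      have hl0 : l ≠ 0 := fun e => hx0 (by rw [← hl, e, zero_mul])
      have hσl : σ l ≠ 0 := (map_ne_zero σ).2 hl0
      obtain ⟨τ, hτa, -, hτx, hτd⟩ := A.S.h.exists_torus A.S.hN (hs a ha) hff haf hσl
      have hlev : Lev B₀ l τ := ⟨hl0, by rw [hτd, A.S.conj.invol, div_mul_cancel₀ _ hl0]⟩
      refine ⟨l, τ, hlev, hl, ?_⟩
      have hmap : ∀ y ∈ A.ann ν, l⁻¹ • τ.1 y ∈ A.ann ν := by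
        intro y hy
        refine hsm _ ?_ _
        have hy0 : τ.1 (y - B₀ f y • a) = y - B₀ f y • a := hτx _ (by
          simp [A.mvd_ann_orth hM hn hν hs ha hy, hs a ha]) (by
          have : B₀ f a = 1 := by rw [← A.S.h.symm, haf, map_one]
          simp [this])
        rw [map_sub, map_smul, hτa] at hy0
        rw [show τ.1 y = y - B₀ f y • a + B₀ f y • σ l • a by rw [← hy0]; abel]
        exact A.ann_add (A.ann_sub hy (hsm a ha _)) (hsm _ (hsm a ha _) _)
      refine (Finset.eq_of_subset_of_card_le (fun y hy => ?_) ?_).symm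
      · obtain ⟨⟨y', hy'⟩, hyy⟩ := Finite.surjective_of_injective
          (f := fun y : A.ann ν => (⟨l⁻¹ • τ.1 y, hmap y y.2⟩ : A.ann ν))
          (fun u v e => Subtype.ext (τ.1.injective (smul_right_injective W (inv_ne_zero hl0)
            (congrArg Subtype.val e)))) ⟨y, hy⟩
        rw [← show l⁻¹ • τ.1 y' = y from congrArg Subtype.val hyy]
        exact (A.ann_moves hlev).1 hy'
      · refine Finset.card_le_card_of_injOn (fun y => τ.1.symm (l • y)) (fun y hy => ?_)
          fun u _ v _ e => smul_right_injective W hl0 (τ.1.symm.injective e)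
        refine (A.ann_moves hlev).2 ?_
        simp only [LinearEquiv.apply_symm_apply, smul_smul, inv_mul_cancel₀ hl0, one_smul]
        exact hy
    rw [hcard] at h1
    have hz := A.zc_pos ν
    have h2 : (q - 1) * (q ^ d * q) ≤ (q - 1) * ∑ O ∈ A.mvdWith (A.ann ν), O.card :=
      h1.trans (Nat.mul_le_mul_right _ (by omega))
    rw [mul_comm q (q ^ d)]
    exact Nat.le_of_mul_le_mul_left h2 (by omega)
  have htotal : 𝒯.card * (q * q ^ d) ≤ Fintype.card Ω := by
    rw [← smul_eq_mul, ← Finset.sum_const]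
    refine le_trans (Finset.sum_le_sum hw) ?_
    rw [← Finset.sum_biUnion]
    · exact A.sum_card_le fun O hO => by
        obtain ⟨T, -, h⟩ := mem_biUnion.1 hO
        exact A.mvd_subset (mem_filter.1 h).1
    · intro T _ T' _ hne
      rw [Function.onFun, Finset.disjoint_left]
      exact fun O h h' => hne ((mem_filter.1 h).2.symm.trans (mem_filter.1 h').2)
  -- orthogonal isotropic pairs
  set PR : Finset (W × W) := univ.filter fun p =>
    p.1 ∈ isoSet B₀ ∧ p.2 ∈ isoSet B₀ ∧ B₀ p.1 p.2 = 0 ∧ p.2 ∉ Submodule.span F {p.1} with hPR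
  have hPRlow : (isoSet B₀).card * (q ^ 2 * (lengthCount σ (d - 2) 0 - 1)) ≤ PR.card := by
    rw [Finset.card_eq_sum_card_fiberwise (f := Prod.fst) (t := isoSet B₀) fun p hp => (mem_filter.1 hp).2.1,
      ← smul_eq_mul, ← Finset.sum_const]
    refine Finset.sum_le_sum fun a ha => ?_
    refine le_trans (A.S.card_pairs_from ha
      (univ.filter fun b => b ∈ isoSet B₀ ∧ B₀ a b = 0 ∧ b ∉ Submodule.span F {a}) fun b => by simp) ?_
    refine Finset.card_le_card_of_injOn (fun b => (a, b)) ?_ fun u _ v _ e => (Prod.mk.injEq _ _ _ _ ▸ e).2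
    intro b hb
    simp only [coe_filter, mem_univ, true_and, Set.mem_setOf_eq] at hb
    simp only [hPR, coe_filter, mem_filter, mem_univ, true_and, Set.mem_setOf_eq, and_true]
    exact ⟨ha, hb.1, hb.2.1, hb.2.2⟩
  have hTpairs : ∀ T ∈ 𝒯, ((T ×ˢ T).filter fun p => p ∈ PR).card ≤ (q ^ d - 1) * (q ^ d - q ^ 2) := by
    intro T hT
    obtain ⟨ν, hν, rfl, hνne⟩ := h𝒯' T hT
    obtain ⟨hsm, (hcard : (A.ann ν).card = q ^ d), -⟩ := A.mvd_singular_space hM hn hν (hsing ν hν hνne)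
    rw [Finset.card_eq_sum_card_fiberwise (f := Prod.fst) (t := (A.ann ν).erase 0) fun p hp => by
      simp only [hPR, coe_filter, mem_product, mem_filter, mem_univ, true_and, Set.mem_setOf_eq] at hp
      exact mem_erase.2 ⟨(mem_isoSet.1 hp.2.1).1, hp.1.1⟩]
    refine le_trans (Finset.sum_le_card_nsmul _ _ (q ^ d - q ^ 2) fun a ha => ?_) ?_
    · rw [mem_erase] at ha
      have h1 : ((A.ann ν).filter fun b => b ∈ Submodule.span F {a}).card = q ^ 2 := by
        rw [← A.S.hF, ← Finset.card_univ]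
        refine (Finset.card_nbij (fun c => c • a) ?_ ?_ ?_).symm
        · intro c _
          simp only [coe_filter, Set.mem_setOf_eq]
          exact ⟨hsm a ha.2 c, Submodule.smul_mem _ _ (Submodule.mem_span_singleton_self a)⟩
        · exact fun u _ v _ e => smul_left_injective F ha.1 e
        · intro b hb
          simp only [coe_filter, Set.mem_setOf_eq] at hb
          obtain ⟨c, hc⟩ := Submodule.mem_span_singleton.1 hb.2
          exact ⟨c, mem_univ c, hc⟩
      have h2 := Finset.card_filter_add_card_filter_not (s := A.ann ν) fun b => b ∈ Submodule.span F {a}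
      rw [h1, hcard] at h2
      refine le_trans (Finset.card_le_card_of_injOn Prod.snd
        (t := (A.ann ν).filter fun b => b ∉ Submodule.span F {a}) ?_ ?_) (by omega)
      · intro p hp
        simp only [hPR, coe_filter, mem_product, mem_filter, mem_univ, true_and, Set.mem_setOf_eq] at hp ⊢
        exact ⟨hp.1.1.2, hp.2 ▸ hp.1.2.2.2.2⟩
      · intro p hp p' hp' e
        simp only [coe_filter, Set.mem_setOf_eq] at hp hp'
        exact Prod.ext (hp.2.trans hp'.2.symm) e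
    · rw [smul_eq_mul, Finset.card_erase_of_mem (A.zero_mem ν), hcard]
  have hcover : PR ⊆ 𝒯.biUnion fun T => (T ×ˢ T).filter fun p => p ∈ PR := by
    intro p hp
    have hp' := (mem_filter.1 hp).2
    obtain ⟨hsm, hcard, -⟩ := A.mvd_singular_space hM hn hω (hsing ω hω hne)
    obtain ⟨a, ha, ha0⟩ : ∃ a ∈ A.ann ω, a ≠ 0 := by
      refine Finset.exists_mem_ne ?_ 0
      rw [hcard]
      exact Nat.one_lt_pow (by omega) hq
    obtain ⟨b, hb, hb'⟩ : ∃ b ∈ A.ann ω, b ∉ Submodule.span F {a} := by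
      by_contra! hall
      have h1 := card_span_singleton_le a (A.ann ω) hall
      rw [hcard, A.S.hF] at h1
      have := (Nat.pow_le_pow_iff_right hq).1 h1
      omega
    have hs := hsing ω hω hne
    obtain ⟨hp1, hp1'⟩ := mem_isoSet.1 hp'.1
    obtain ⟨hp2, hp2'⟩ := mem_isoSet.1 hp'.2.1
    have hi1 : LinearIndependent F ![a, b] := (LinearIndependent.pair_iff' ha0).2 fun c hc =>
      hb' (Submodule.mem_span_singleton.2 ⟨c, hc⟩)
    have hi2 : LinearIndependent F ![p.1, p.2] := (LinearIndependent.pair_iff' hp1).2 fun c hc =>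
      hp'.2.2.2 (Submodule.mem_span_singleton.2 ⟨c, hc⟩)
    obtain ⟨τ, s, t, hτ, h1, h2, hs0, ht0⟩ := A.S.exists_lev_pair (hs a ha) (hs b hb)
      (A.mvd_ann_orth hM hn hω hs ha hb) hi1 hp1' hp2' hp'.2.2.1 hi2
    set ν := A.π (A.S.lev (lev_one hτ)) ω
    have hν : ¬ A.ZF ν := by rwa [A.ZF_moves (lev_one hτ)]
    have hmem : ∀ y ∈ A.ann ω, τ.1 y ∈ A.ann ν := fun y hy => by
      have := (A.ann_moves (lev_one hτ)).1 hy
      rwa [inv_one, one_smul] at this
    have hνne : A.ann ν ≠ univ := fun e => by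
      obtain ⟨u, -, hu⟩ := A.S.exists_ns_perp 0
      obtain ⟨y, rfl⟩ : ∃ y, τ.1 y = u := ⟨_, τ.1.apply_symm_apply u⟩
      have hy : y ∈ A.ann ω := (A.ann_moves (lev_one hτ)).2 (by
        rw [inv_one, one_smul]; exact e.symm ▸ mem_univ _)
      rw [isomGroup_apply, hs y hy] at hu
      exact zero_ne_one hu
    obtain ⟨hsmν, -, -⟩ := A.mvd_singular_space hM hn hν (hsing ν hν hνne)
    refine mem_biUnion.2 ⟨A.ann ν, ?_, mem_filter.2 ⟨mem_product.2 ⟨?_, ?_⟩, hp⟩⟩
    · rw [h𝒯, mem_filter, mem_image]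
      exact ⟨⟨_, A.mem_mvd.2 hν, A.annO_orb ν⟩, hνne⟩
    · rw [show p.1 = s⁻¹ • τ.1 a by rw [h1, smul_smul, inv_mul_cancel₀ hs0, one_smul]]
      exact hsmν _ (hmem a ha) _
    · rw [show p.2 = t⁻¹ • τ.1 b by rw [h2, smul_smul, inv_mul_cancel₀ ht0, one_smul]]
      exact hsmν _ (hmem b hb) _
  have hup : PR.card ≤ 𝒯.card * ((q ^ d - 1) * (q ^ d - q ^ 2)) := by
    refine (Finset.card_le_card hcover).trans (Finset.card_biUnion_le.trans ?_)
    rw [← smul_eq_mul]
    exact Finset.sum_le_card_nsmul _ _ _ hTpairs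
  set pp := (q ^ d - 1) * (q ^ d - q ^ 2)
  have hpp : 0 < pp := by
    have h1 : q ^ 2 < q ^ d := Nat.pow_lt_pow_right (by omega) (by omega)
    exact Nat.mul_pos (Nat.sub_pos_of_lt (lt_of_le_of_lt (Nat.one_le_pow 2 q (by omega)) h1))
      (Nat.sub_pos_of_lt h1)
  have h1 : Fintype.card Ω * pp < M * pp := Nat.mul_lt_mul_of_pos_right hn hpp
  have h2 : q * q ^ d * ((isoSet B₀).card * (q ^ 2 * (lengthCount σ (d - 2) 0 - 1))) ≤
      q * q ^ d * (𝒯.card * pp) := Nat.mul_le_mul_left _ (hPRlow.trans hup)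
  have h3 : q * q ^ d * (𝒯.card * pp) ≤ Fintype.card Ω * pp := by
    rw [show q * q ^ d * (𝒯.card * pp) = 𝒯.card * (q * q ^ d) * pp by ring]
    exact Nat.mul_le_mul_right _ htotal
  omega

/-- Some point is moved by the centre; then its orbit is regular and is the only such orbit. -/
theorem mvd_regular {ω : Ω} (hω : ¬ A.ZF ω) :
    (A.orb ω).card = q * Fintype.card W ∧ (∀ ν, ¬ A.ZF ν → A.orb ν = A.orb ω) ∧
      ∀ p ∈ A.stabPar ω, p = (0, 0) := by
  classical
  have hq := A.S.q_two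
  have hup := hM.up
  have key : ∀ ν, ¬ A.ZF ν → A.zc ν = 1 ∧ (A.orb ν).card = q * Fintype.card W := by
    intro ν hν
    have huniv := A.mvd_ann_univ hM hn hν
    have h1 := A.weight hν fun x hx hx0 => by
      obtain ⟨l, hl⟩ := A.S.conj.exists_norm_eq hx
      have hl0 : l ≠ 0 := fun e => hx0 (by rw [← hl, e, zero_mul])
      obtain ⟨τ, -, hτd⟩ := A.S.adjust_det 1 0 (norm_sigma_div A.S.conj hl0)
      have hlev : Lev B₀ l τ := ⟨hl0, by rw [hτd, div_mul_cancel₀ _ hl0]⟩
      refine ⟨l, τ, hlev, hl, ?_⟩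
      rw [huniv]
      exact A.mvd_ann_univ hM hn (by rwa [A.ZF_moves hlev])
    have h2 : ∑ O ∈ A.mvdWith (A.ann ν), O.card ≤ Fintype.card Ω :=
      A.sum_card_le fun O hO => A.mvd_subset (mem_filter.1 hO).1
    have hzc : A.zc ν = 1 := by
      by_contra hz
      have hz2 : 2 ≤ A.zc ν := by have := A.zc_pos ν; omega
      rw [huniv, Finset.card_univ] at h1
      have h3 : (q - 1) * (Fintype.card W * q) ≤ (q - 2) * Fintype.card Ω :=
        h1.trans (Nat.mul_le_mul (by omega) (by rwa [huniv] at h2))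
      have h4 : (q - 2) * Fintype.card Ω ≤ (q - 2) * ((q + 1) * Fintype.card W) := Nat.mul_le_mul_left _ (by omega)
      obtain ⟨r, rfl⟩ : ∃ r, q = r + 2 := ⟨q - 2, by omega⟩
      rw [show r + 2 - 1 = r + 1 from rfl, Nat.add_sub_cancel] at *
      have : 0 < Fintype.card W := Fintype.card_pos
      nlinarith
    refine ⟨hzc, ?_⟩
    have h3 := A.card_orb_zc ν
    rw [hzc, huniv, Finset.card_univ, mul_one] at h3
    rw [h3, mul_comm]
  obtain ⟨hz, hc⟩ := key ω hω
  refine ⟨hc, fun ν hν => ?_, ?_⟩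
  · by_contra hne
    have h1 := A.sum_card_le (𝒪 := {A.orb ν, A.orb ω}) fun O hO => by
      simp only [mem_insert, mem_singleton] at hO
      rcases hO with rfl | rfl <;> exact A.orb_mem _
    rw [Finset.sum_pair hne, (key ν hν).2, hc] at h1
    have : Fintype.card W * 2 ≤ q * Fintype.card W := by rw [mul_comm q]; exact Nat.mul_le_mul_left _ hq
    rw [add_mul, one_mul] at hup
    omega
  · rintro ⟨w, c⟩ hp
    have hw : w = 0 := A.U_eq_bot (A.mvd_ann_univ hM hn hω) ⟨c, hp⟩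
    subst hw
    have hbot : A.Z0 ω = ⊥ := AddSubgroup.eq_bot_of_card_eq _ hz
    have : c ∈ A.Z0 ω := hp
    rw [hbot, AddSubgroup.mem_bot] at this
    rw [this]

end Act

end CfsgLib.KnownA.MinIndexUnitary
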